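/-
One symplectic factor in matrix form: the rank one maps of the form, isometries, and transitivity on vectors.
-/
import Cfsg.Agent.Lib.Geo.TensorWreath.Pure

set_option autoImplicit false

namespace CfsgLib.HallGen.SympWreath

open Matrix

variable {F : Type*} [Field F] {k : ℕ}

/-- A non-degenerate alternating Gram matrix with its inverse. -/
structure Factor (F : Type*) [Field F] (k : ℕ) where
  /-- The Gram matrix. -/
  J : Matrix (Fin k) (Fin k) F
  /-- Its inverse. -/
  Ji : Matrix (Fin k) (Fin k) F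
  skew : Jᵀ = -J
  alt : ∀ v, (v ᵥ* J) ⬝ᵥ v = 0
  mul_inv : J * Ji = 1
  inv_mul : Ji * J = 1

namespace Factor

variable (D : Factor F k)

/-- The form. -/
def f (a b : Fin k → F) : F := (a ᵥ* D.J) ⬝ᵥ b

/-- The rank one map of two vectors, sending `x` to `f b x • a`. -/
def R (a b : Fin k → F) : Matrix (Fin k) (Fin k) F := Matrix.vecMulVec a (b ᵥ* D.J)

/-- The adjoint. -/
def adj (B : Matrix (Fin k) (Fin k) F) : Matrix (Fin k) (Fin k) F := D.Ji * Bᵀ * D.J

/-- The isometries. -/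
def Iso (B : Matrix (Fin k) (Fin k) F) : Prop := D.adj B * B = 1

theorem f_self (a : Fin k → F) : D.f a a = 0 := D.alt a

theorem f_add_left (a b c : Fin k → F) : D.f (a + b) c = D.f a c + D.f b c := by
  simp [f, Matrix.add_vecMul, add_dotProduct]

theorem f_add_right (a b c : Fin k → F) : D.f a (b + c) = D.f a b + D.f a c := by simp [f, dotProduct_add]

theorem f_sub_left (a b c : Fin k → F) : D.f (a - b) c = D.f a c - D.f b c := by
  simp [f, Matrix.sub_vecMul, sub_dotProduct]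

theorem f_sub_right (a b c : Fin k → F) : D.f a (b - c) = D.f a b - D.f a c := by simp [f, dotProduct_sub]

theorem f_smul_left (s : F) (a b : Fin k → F) : D.f (s • a) b = s * D.f a b := by
  simp [f, Matrix.smul_vecMul, smul_dotProduct]

theorem f_smul_right (s : F) (a b : Fin k → F) : D.f a (s • b) = s * D.f a b := by simp [f, dotProduct_smul]

theorem f_neg_left (a b : Fin k → F) : D.f (-a) b = -D.f a b := by simp [f, Matrix.neg_vecMul]

theorem f_neg_right (a b : Fin k → F) : D.f a (-b) = -D.f a b := by simp [f]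

@[simp] theorem f_zero_left (b : Fin k → F) : D.f 0 b = 0 := by simp [f]

@[simp] theorem f_zero_right (a : Fin k → F) : D.f a 0 = 0 := by simp [f]

theorem f_swap (a b : Fin k → F) : D.f b a = -D.f a b := by
  have h := D.f_self (a + b)
  rw [D.f_add_left, D.f_add_right, D.f_add_right, D.f_self, D.f_self, add_zero, zero_add] at h
  linear_combination h

theorem vecMul_J_injective {a b : Fin k → F} (h : a ᵥ* D.J = b ᵥ* D.J) : a = b := by
  have := congrArg (· ᵥ* D.Ji) h
  simpa [Matrix.vecMul_vecMul, D.mul_inv] using this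

theorem nondeg {a : Fin k → F} (ha : a ≠ 0) : ∃ b, D.f a b = 1 := by
  obtain ⟨χ, hχ⟩ := CfsgLib.Geo.TensorLinear.exists_dual (v := a ᵥ* D.J) fun h =>
    ha (D.vecMul_J_injective (by rw [h, Matrix.zero_vecMul]))
  exact ⟨χ, by rw [f, dotProduct_comm]; exact hχ⟩

theorem eq_of_f {a b : Fin k → F} (h : ∀ z, D.f a z = D.f b z) : a = b := by
  by_contra hne
  obtain ⟨z, hz⟩ := D.nondeg (sub_ne_zero.2 hne)
  rw [D.f_sub_left, h, sub_self] at hz
  exact zero_ne_one hz

/-- A partner of the second vector orthogonal to the first. -/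
theorem exists_partner {a b : Fin k → F} (h : b ∉ Submodule.span F {a}) :
    ∃ b', D.f a b' = 0 ∧ D.f b b' = 1 := by
  obtain ⟨φ, h0, h1⟩ := CfsgLib.Geo.exists_functional (a ᵥ* D.J) (b ᵥ* D.J) fun hm => by
    obtain ⟨c, hc⟩ := Submodule.mem_span_singleton.1 hm
    exact h (Submodule.mem_span_singleton.2 ⟨c, D.vecMul_J_injective (by rw [Matrix.smul_vecMul, hc])⟩)
  exact ⟨φ, by rw [f, dotProduct_comm]; exact h0, by rw [f, dotProduct_comm]; exact h1⟩

theorem notMem_span_of_f {a b z : Fin k → F} (ha : D.f a z = 0) (hb : D.f b z ≠ 0) :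
    b ∉ Submodule.span F {a} := fun hm => by
  obtain ⟨c, rfl⟩ := Submodule.mem_span_singleton.1 hm
  rw [D.f_smul_left, ha, mul_zero] at hb
  exact hb rfl

/-! ### The rank one maps -/

theorem R_mulVec (a b x : Fin k → F) : D.R a b *ᵥ x = D.f b x • a := by
  rw [R, Matrix.vecMulVec_mulVec, op_smul_eq_smul]; rfl

theorem R_mul (a b c d : Fin k → F) : D.R a b * D.R c d = D.f b c • D.R a d := by
  rw [R, R, Matrix.vecMulVec_mul_vecMulVec, Matrix.vecMulVec_smul]; rfl

theorem R_add_left (a b c : Fin k → F) : D.R (a + b) c = D.R a c + D.R b c := by simp [R, Matrix.add_vecMulVec]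

theorem R_add_right (a b c : Fin k → F) : D.R a (b + c) = D.R a b + D.R a c := by
  simp [R, Matrix.add_vecMul, Matrix.vecMulVec_add]

theorem R_smul_left (s : F) (a b : Fin k → F) : D.R (s • a) b = s • D.R a b := by
  simp [R, Matrix.smul_vecMulVec]

theorem R_smul_right (s : F) (a b : Fin k → F) : D.R a (s • b) = s • D.R a b := by
  simp [R, Matrix.smul_vecMul, Matrix.vecMulVec_smul]

theorem R_neg_left (a b : Fin k → F) : D.R (-a) b = -D.R a b := by
  rw [← neg_one_smul F a, D.R_smul_left, neg_one_smul]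

theorem R_neg_right (a b : Fin k → F) : D.R a (-b) = -D.R a b := by
  rw [← neg_one_smul F b, D.R_smul_right, neg_one_smul]

theorem mul_R (B : Matrix (Fin k) (Fin k) F) (a b : Fin k → F) : B * D.R a b = D.R (B *ᵥ a) b := by
  rw [R, R, Matrix.mul_vecMulVec]

theorem R_ne_zero {a b : Fin k → F} (ha : a ≠ 0) (hb : b ≠ 0) : D.R a b ≠ 0 := fun h => by
  obtain ⟨x, hx⟩ := D.nondeg hb
  have h1 := D.R_mulVec a b x
  rw [h, Matrix.zero_mulVec, hx, one_smul] at h1
  exact ha h1.symm

/-! ### The adjoint -/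

theorem Ji_transpose : D.Jiᵀ = -D.Ji := by
  have h1 := congrArg Matrix.transpose D.mul_inv
  rw [Matrix.transpose_mul, D.skew, Matrix.transpose_one, Matrix.mul_neg] at h1
  calc D.Jiᵀ = -(-(D.Jiᵀ * D.J)) * D.Ji := by rw [neg_neg, Matrix.mul_assoc, D.mul_inv, Matrix.mul_one]
    _ = -D.Ji := by rw [h1, Matrix.neg_mul, Matrix.one_mul]

theorem adj_one : D.adj 1 = 1 := by rw [adj, Matrix.transpose_one, Matrix.mul_one, D.inv_mul]

theorem adj_mul (A B : Matrix (Fin k) (Fin k) F) : D.adj (A * B) = D.adj B * D.adj A := by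
  simp only [adj, Matrix.transpose_mul, Matrix.mul_assoc]
  rw [← Matrix.mul_assoc D.J D.Ji, D.mul_inv, Matrix.one_mul]

theorem adj_add (A B : Matrix (Fin k) (Fin k) F) : D.adj (A + B) = D.adj A + D.adj B := by
  simp [adj, Matrix.mul_add, Matrix.add_mul]

theorem adj_sub (A B : Matrix (Fin k) (Fin k) F) : D.adj (A - B) = D.adj A - D.adj B := by
  simp [adj, Matrix.mul_sub, Matrix.sub_mul]

theorem adj_smul (c : F) (A : Matrix (Fin k) (Fin k) F) : D.adj (c • A) = c • D.adj A := by simp [adj]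

theorem adj_neg (A : Matrix (Fin k) (Fin k) F) : D.adj (-A) = -D.adj A := by
  simp [adj]

theorem adj_adj (A : Matrix (Fin k) (Fin k) F) : D.adj (D.adj A) = A := by
  simp only [adj, Matrix.transpose_mul, Matrix.transpose_transpose, D.Ji_transpose, D.skew]
  simp only [Matrix.mul_neg, Matrix.neg_mul, neg_neg]
  rw [← Matrix.mul_assoc, ← Matrix.mul_assoc, D.inv_mul, Matrix.one_mul, Matrix.mul_assoc, D.inv_mul,
    Matrix.mul_one]

theorem adj_R (a b : Fin k → F) : D.adj (D.R a b) = -D.R b a := by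
  rw [adj, R, R, Matrix.transpose_vecMulVec, Matrix.mul_vecMulVec, Matrix.vecMulVec_mul,
    show D.Ji *ᵥ (b ᵥ* D.J) = -b by
      rw [← Matrix.mulVec_transpose, Matrix.mulVec_mulVec, D.skew, Matrix.mul_neg, D.inv_mul, Matrix.neg_mulVec,
        Matrix.one_mulVec],
    Matrix.neg_vecMulVec]

theorem f_adj (B : Matrix (Fin k) (Fin k) F) (a b : Fin k → F) : D.f a (D.adj B *ᵥ b) = D.f (B *ᵥ a) b := by
  rw [f, f, adj, Matrix.dotProduct_mulVec, Matrix.vecMul_vecMul, ← Matrix.mul_assoc, ← Matrix.mul_assoc, D.mul_inv,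
    Matrix.one_mul, ← Matrix.vecMul_vecMul, Matrix.vecMul_transpose]

theorem Iso.mul_adj {D : Factor F k} {B : Matrix (Fin k) (Fin k) F} (h : D.Iso B) : B * D.adj B = 1 :=
  mul_eq_one_comm.1 h

theorem Iso.adj_self {D : Factor F k} {B : Matrix (Fin k) (Fin k) F} (h : D.Iso B) : D.Iso (D.adj B) := by
  rw [Iso, D.adj_adj]; exact h.mul_adj

theorem Iso.mul {D : Factor F k} {B C : Matrix (Fin k) (Fin k) F} (h : D.Iso B) (h' : D.Iso C) :
    D.Iso (B * C) := by
  rw [Iso, D.adj_mul, Matrix.mul_assoc, ← Matrix.mul_assoc (D.adj B), show D.adj B * B = 1 from h, Matrix.one_mul]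
  exact h'

theorem Iso.map {D : Factor F k} {B : Matrix (Fin k) (Fin k) F} (h : D.Iso B) (a b : Fin k → F) :
    D.f (B *ᵥ a) (B *ᵥ b) = D.f a b := by
  rw [← D.f_adj, Matrix.mulVec_mulVec, show D.adj B * B = 1 from h, Matrix.one_mulVec]

theorem iso_of_map {B : Matrix (Fin k) (Fin k) F} (h : ∀ a b, D.f (B *ᵥ a) (B *ᵥ b) = D.f a b) : D.Iso B := by
  refine Matrix.toLin'.injective (LinearMap.ext fun b => ?_)
  rw [Matrix.toLin'_apply, Matrix.toLin'_apply, Matrix.one_mulVec]
  refine sub_eq_zero.1 (D.eq_of_f (b := 0) fun z => ?_)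
  rw [D.f_zero_left, D.f_swap, D.f_sub_right, ← Matrix.mulVec_mulVec, D.f_adj, h, sub_self, neg_zero]

theorem Iso.mul_R_mul {D : Factor F k} {B : Matrix (Fin k) (Fin k) F} (_h : D.Iso B) (a b : Fin k → F) :
    B * D.R a b * D.adj B = D.R (B *ᵥ a) (B *ᵥ b) := by
  rw [D.mul_R, R, R, Matrix.vecMulVec_mul, Matrix.vecMul_vecMul, adj, ← Matrix.mul_assoc, ← Matrix.mul_assoc,
    D.mul_inv, Matrix.one_mul, ← Matrix.vecMul_vecMul, Matrix.vecMul_transpose]

theorem iso_one : D.Iso 1 := by rw [Iso, D.adj_one, Matrix.mul_one]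

theorem iso_neg {B : Matrix (Fin k) (Fin k) F} (h : D.Iso B) : D.Iso (-B) := by
  rw [Iso, D.adj_neg, neg_mul_neg]; exact h

/-! ### Special isometries -/

/-- A transvection. -/
theorem iso_transv (v : Fin k → F) (c : F) : D.Iso (1 + c • D.R v v) := by
  rw [Iso, D.adj_add, D.adj_one, D.adj_smul, D.adj_R, smul_neg, add_mul, one_mul, mul_add, mul_one,
    neg_mul, Matrix.smul_mul, Matrix.mul_smul, D.R_mul, D.f_self, zero_smul, smul_zero, smul_zero, neg_zero,
    add_zero]
  abel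

theorem transv_mulVec (v x : Fin k → F) (c : F) : (1 + c • D.R v v) *ᵥ x = x + (c * D.f v x) • v := by
  rw [Matrix.add_mulVec, Matrix.one_mulVec, Matrix.smul_mulVec, D.R_mulVec, smul_smul]

/-- The isometries are transitive on non-zero vectors. -/
theorem exists_iso {e x : Fin k → F} (he : e ≠ 0) (hx : x ≠ 0) : ∃ B, D.Iso B ∧ B *ᵥ e = x := by
  have step : ∀ {a b : Fin k → F}, D.f a b ≠ 0 → ∃ B, D.Iso B ∧ B *ᵥ a = b := by
    intro a b hab
    refine ⟨1 + (D.f b a)⁻¹ • D.R (b - a) (b - a), D.iso_transv _ _, ?_⟩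
    rw [D.transv_mulVec, D.f_sub_left, D.f_self, sub_zero, inv_mul_cancel₀, one_smul, add_sub_cancel]
    rw [D.f_swap a b]; exact neg_ne_zero.2 hab
  by_cases h : D.f e x = 0
  · obtain ⟨y, hy1, hy2⟩ := CfsgLib.Geo.TensorWreath.exists_common_dual
      (v := e ᵥ* D.J) (w := x ᵥ* D.J) (fun h => he (D.vecMul_J_injective (by rw [h, Matrix.zero_vecMul])))
      (fun h => hx (D.vecMul_J_injective (by rw [h, Matrix.zero_vecMul])))
    rw [dotProduct_comm] at hy1 hy2
    obtain ⟨B₁, hB₁, e₁⟩ := step (a := e) (b := y) hy1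
    obtain ⟨B₂, hB₂, e₂⟩ := step (a := y) (b := x) (by rw [D.f_swap x y]; exact neg_ne_zero.2 hy2)
    exact ⟨B₂ * B₁, hB₂.mul hB₁, by rw [← Matrix.mulVec_mulVec, e₁, e₂]⟩
  · exact step h

/-- The projection on a hyperbolic plane. -/
def plane (b b' : Fin k → F) : Matrix (Fin k) (Fin k) F := D.R b' b - D.R b b'

theorem plane_mulVec (b b' x : Fin k → F) : D.plane b b' *ᵥ x = D.f b x • b' - D.f b' x • b := by
  rw [plane, Matrix.sub_mulVec, D.R_mulVec, D.R_mulVec]

theorem plane_left {b b' : Fin k → F} (h : D.f b b' = 1) : D.plane b b' *ᵥ b = b := by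
  rw [D.plane_mulVec, D.f_self, D.f_swap b b', h]; simp

theorem plane_right {b b' : Fin k → F} (h : D.f b b' = 1) : D.plane b b' *ᵥ b' = b' := by
  rw [D.plane_mulVec, D.f_self, h]; simp

theorem plane_perp {b b' x : Fin k → F} (h : D.f b x = 0) (h' : D.f b' x = 0) : D.plane b b' *ᵥ x = 0 := by
  rw [D.plane_mulVec, h, h']; simp

/-- The negation of a hyperbolic plane. -/
def negPlane (b b' : Fin k → F) : Matrix (Fin k) (Fin k) F := 1 - (2 : F) • D.plane b b'

theorem negPlane_mulVec (b b' x : Fin k → F) :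
    D.negPlane b b' *ᵥ x = x - (2 : F) • (D.f b x • b' - D.f b' x • b) := by
  rw [negPlane, Matrix.sub_mulVec, Matrix.one_mulVec, Matrix.smul_mulVec, D.plane_mulVec]

theorem negPlane_left {b b' : Fin k → F} (h : D.f b b' = 1) : D.negPlane b b' *ᵥ b = -b := by
  rw [D.negPlane_mulVec, D.f_self, D.f_swap b b', h]; simp [two_smul]

theorem negPlane_perp {b b' x : Fin k → F} (h : D.f b x = 0) (h' : D.f b' x = 0) : D.negPlane b b' *ᵥ x = x := by
  rw [D.negPlane_mulVec, h, h']; simp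

theorem iso_negPlane {b b' : Fin k → F} (h : D.f b b' = 1) : D.Iso (D.negPlane b b') := by
  refine D.iso_of_map fun x y => ?_
  simp only [D.negPlane_mulVec, D.f_sub_left, D.f_sub_right, D.f_smul_left, D.f_smul_right, D.f_self, h,
    D.f_swap b b', D.f_swap b x, D.f_swap b' x]
  ring

/-- The Weyl element of a hyperbolic plane, `b ↦ b'`, `b' ↦ -b`. -/
def weyl (b b' : Fin k → F) : Matrix (Fin k) (Fin k) F := 1 - D.plane b b' - D.R b b - D.R b' b'

theorem weyl_mulVec (b b' x : Fin k → F) :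
    D.weyl b b' *ᵥ x = x - (D.f b x • b' - D.f b' x • b) - D.f b x • b - D.f b' x • b' := by
  rw [weyl, Matrix.sub_mulVec, Matrix.sub_mulVec, Matrix.sub_mulVec, Matrix.one_mulVec, D.plane_mulVec,
    D.R_mulVec, D.R_mulVec]

theorem weyl_left {b b' : Fin k → F} (h : D.f b b' = 1) : D.weyl b b' *ᵥ b = b' := by
  rw [D.weyl_mulVec, D.f_self, D.f_swap b b', h]
  module

theorem weyl_perp {b b' x : Fin k → F} (h : D.f b x = 0) (h' : D.f b' x = 0) : D.weyl b b' *ᵥ x = x := by
  rw [D.weyl_mulVec, h, h']; simp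

theorem iso_weyl {b b' : Fin k → F} (h : D.f b b' = 1) : D.Iso (D.weyl b b') := by
  refine D.iso_of_map fun x y => ?_
  simp only [D.weyl_mulVec, D.f_sub_left, D.f_sub_right, D.f_smul_left, D.f_smul_right, D.f_self, h,
    D.f_swap b b', D.f_swap b x, D.f_swap b' x]
  ring

/-- The torus element of a hyperbolic plane, `b ↦ c b`, `b' ↦ c⁻¹ b'`. -/
def torus (b b' : Fin k → F) (c : F) : Matrix (Fin k) (Fin k) F :=
  1 - (c - 1) • D.R b b' + (c⁻¹ - 1) • D.R b' b

theorem torus_mulVec (b b' x : Fin k → F) (c : F) :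
    D.torus b b' c *ᵥ x = x - ((c - 1) * D.f b' x) • b + ((c⁻¹ - 1) * D.f b x) • b' := by
  rw [torus, Matrix.add_mulVec, Matrix.sub_mulVec, Matrix.one_mulVec, Matrix.smul_mulVec, Matrix.smul_mulVec,
    D.R_mulVec, D.R_mulVec, smul_smul, smul_smul]

theorem torus_left {b b' : Fin k → F} (h : D.f b b' = 1) (c : F) : D.torus b b' c *ᵥ b = c • b := by
  rw [D.torus_mulVec, D.f_self, D.f_swap b b', h]
  module

theorem torus_perp {b b' x : Fin k → F} (h : D.f b x = 0) (h' : D.f b' x = 0) (c : F) :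
    D.torus b b' c *ᵥ x = x := by
  rw [D.torus_mulVec, h, h']; simp

theorem iso_torus {b b' : Fin k → F} (h : D.f b b' = 1) {c : F} (hc : c ≠ 0) : D.Iso (D.torus b b' c) := by
  refine D.iso_of_map fun x y => ?_
  simp only [D.torus_mulVec, D.f_add_left, D.f_add_right, D.f_sub_left, D.f_sub_right, D.f_smul_left,
    D.f_smul_right, D.f_self, h, D.f_swap b b', D.f_swap b x, D.f_swap b' x]
  field_simp
  ring

end Factor

end CfsgLib.HallGen.SympWreath
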