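/-
A space with a symmetric or alternating form tensored with a symplectic factor: adjoints and contractions.
-/
import Cfsg.Agent.Lib.HallGen.SympWreath.Form
import Cfsg.Agent.Lib.Geo.TensorLinearFinal

set_option autoImplicit false
set_option linter.unusedSectionVars false

namespace CfsgLib.HallGen.SympWreath

open Matrix
open CfsgLib.Geo
open scoped Kronecker

variable {F : Type*} [Field F] {k : ℕ} {α : Type} [Fintype α] [DecidableEq α]

/-- The Gram matrix of the complementary factor. -/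
structure Outer (F : Type*) [Field F] (α : Type) [Fintype α] [DecidableEq α] where
  /-- The Gram matrix. -/
  G : Matrix α α F
  /-- Its inverse. -/
  Gi : Matrix α α F
  /-- The symmetry sign. -/
  σ : F
  sign : σ * σ = 1
  symm : Gᵀ = σ • G
  mul_inv : G * Gi = 1
  inv_mul : Gi * G = 1

/-- A subgroup member with the given matrix. -/
def Mem {n : Type} [Fintype n] [DecidableEq n] (X : Subgroup (GL n F)) (M : Matrix n n F) : Prop :=
  ∃ x ∈ X, (x : Matrix n n F) = M

section Mem

variable {n : Type} [Fintype n] [DecidableEq n] {X : Subgroup (GL n F)} {M N M' N' : Matrix n n F}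

theorem mem_one : Mem X (1 : Matrix n n F) := ⟨1, X.one_mem, rfl⟩

theorem Mem.mul (hM : Mem X M) (hN : Mem X N) : Mem X (M * N) := by
  obtain ⟨x, hx, rfl⟩ := hM
  obtain ⟨y, hy, rfl⟩ := hN
  exact ⟨x * y, X.mul_mem hx hy, rfl⟩

theorem Mem.left_inv (hM : Mem X M) (h : M' * M = 1) : Mem X M' := by
  obtain ⟨x, hx, rfl⟩ := hM
  exact ⟨x⁻¹, X.inv_mem hx, (left_inv_eq_right_inv h x.mul_inv).symm⟩

theorem Mem.comm (hM : Mem X M) (hN : Mem X N) (hM' : M' * M = 1) (hN' : N' * N = 1) :
    Mem X (M * N * M' * N') := ((hM.mul hN).mul (hM.left_inv hM')).mul (hN.left_inv hN')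

/-- The commutator of two square-zero unipotent elements. -/
theorem Mem.comm_sq {A B : Matrix n n F} (hA : Mem X (1 + A)) (hB : Mem X (1 + B)) (hAA : A * A = 0)
    (hBB : B * B = 0) : Mem X (1 + A * B - B * A - A * B * A + B * A * B + A * B * A * B) := by
  have h := hA.comm hB (M' := 1 - A) (N' := 1 - B) (by rw [sub_mul, one_mul, mul_add, mul_one, hAA]; abel)
    (by rw [sub_mul, one_mul, mul_add, mul_one, hBB]; abel)
  convert h using 1
  have h1 : A * (B * B) = 0 := by rw [hBB, mul_zero]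
  have h2 : ∀ z, A * (A * z) = 0 := fun z => by rw [← mul_assoc, hAA, zero_mul]
  simp only [mul_add, add_mul, mul_sub, sub_mul, one_mul, mul_one, mul_assoc, hAA, hBB, h1, h2, mul_zero, zero_mul]
  abel

end Mem

variable (D : Factor F k) (O : Outer F α)

/-- The adjoint on the complementary factor. -/
def Outer.adj (θ : Matrix α α F) : Matrix α α F := O.Gi * θᵀ * O.G

/-- The adjoint on the tensor product. -/
def adjP (M : Matrix (α × Fin k) (α × Fin k) F) : Matrix (α × Fin k) (α × Fin k) F :=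
  (O.Gi ⊗ₖ D.Ji) * Mᵀ * (O.G ⊗ₖ D.J)

/-- The adjoint of a rectangular block. -/
def adjR (Λ : Matrix (α × Fin k) α F) : Matrix α (α × Fin k) F := O.Gi * Λᵀ * (O.G ⊗ₖ D.J)

/-- The embedding `y ↦ y ⊗ a`. -/
def inc (α : Type) [DecidableEq α] (a : Fin k → F) : Matrix (α × Fin k) α F := TensorLinear.emb α a

/-- The contraction with the form against `b`. -/
def out (α : Type) [DecidableEq α] (b : Fin k → F) : Matrix α (α × Fin k) F :=
  TensorLinear.con α (b ᵥ* D.J)

/-! ### The complementary factor -/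

namespace Outer

theorem Gi_transpose : O.Giᵀ = O.σ • O.Gi := by
  have h1 := congrArg Matrix.transpose O.mul_inv
  rw [Matrix.transpose_mul, O.symm, Matrix.transpose_one, Matrix.mul_smul] at h1
  calc O.Giᵀ = O.σ • ((O.σ • (O.Giᵀ * O.G)) * O.Gi) := by
        rw [Matrix.smul_mul, smul_smul, O.sign, one_smul, Matrix.mul_assoc, O.mul_inv, Matrix.mul_one]
    _ = O.σ • O.Gi := by rw [h1, Matrix.one_mul]

theorem adj_one : O.adj 1 = 1 := by rw [adj, Matrix.transpose_one, Matrix.mul_one, O.inv_mul]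

theorem adj_mul (A B : Matrix α α F) : O.adj (A * B) = O.adj B * O.adj A := by
  simp only [adj, Matrix.transpose_mul, Matrix.mul_assoc]
  rw [← Matrix.mul_assoc O.G O.Gi, O.mul_inv, Matrix.one_mul]

theorem adj_add (A B : Matrix α α F) : O.adj (A + B) = O.adj A + O.adj B := by
  simp [adj, Matrix.mul_add, Matrix.add_mul]

theorem adj_sub (A B : Matrix α α F) : O.adj (A - B) = O.adj A - O.adj B := by
  simp [adj, Matrix.mul_sub, Matrix.sub_mul]

theorem adj_neg (A : Matrix α α F) : O.adj (-A) = -O.adj A := by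
  simp [adj]

theorem adj_smul (c : F) (A : Matrix α α F) : O.adj (c • A) = c • O.adj A := by simp [adj]

@[simp] theorem adj_zero : O.adj 0 = 0 := by simp [adj]

theorem adj_adj (A : Matrix α α F) : O.adj (O.adj A) = A := by
  simp only [adj, Matrix.transpose_mul, Matrix.transpose_transpose, O.Gi_transpose, O.symm]
  simp only [Matrix.mul_smul, Matrix.smul_mul, smul_smul, O.sign, one_smul]
  rw [← Matrix.mul_assoc, ← Matrix.mul_assoc, O.inv_mul, Matrix.one_mul, Matrix.mul_assoc, O.inv_mul,
    Matrix.mul_one]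

end Outer

/-! ### The tensor product -/

theorem G_inv : (O.Gi ⊗ₖ D.Ji) * (O.G ⊗ₖ D.J) = 1 := by
  rw [← Matrix.mul_kronecker_mul, O.inv_mul, D.inv_mul, Matrix.one_kronecker_one]

theorem G_inv' : (O.G ⊗ₖ D.J) * (O.Gi ⊗ₖ D.Ji) = 1 := by
  rw [← Matrix.mul_kronecker_mul, O.mul_inv, D.mul_inv, Matrix.one_kronecker_one]

theorem adjP_kronecker (θ : Matrix α α F) (B : Matrix (Fin k) (Fin k) F) :
    adjP D O (θ ⊗ₖ B) = O.adj θ ⊗ₖ D.adj B := by
  rw [adjP, ← Matrix.kroneckerMap_transpose, ← Matrix.mul_kronecker_mul, ← Matrix.mul_kronecker_mul]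
  rfl

theorem adjP_mul (M N : Matrix (α × Fin k) (α × Fin k) F) :
    adjP D O (M * N) = adjP D O N * adjP D O M := by
  simp only [adjP, Matrix.transpose_mul, Matrix.mul_assoc]
  rw [← Matrix.mul_assoc (O.G ⊗ₖ D.J) (O.Gi ⊗ₖ D.Ji), G_inv', Matrix.one_mul]

theorem adjR_mul (M : Matrix (α × Fin k) (α × Fin k) F) (Λ : Matrix (α × Fin k) α F) :
    adjR D O (M * Λ) = adjR D O Λ * adjP D O M := by
  simp only [adjR, adjP, Matrix.transpose_mul, Matrix.mul_assoc]
  rw [← Matrix.mul_assoc (O.G ⊗ₖ D.J) (O.Gi ⊗ₖ D.Ji), G_inv', Matrix.one_mul]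

theorem adjR_add (Λ Λ' : Matrix (α × Fin k) α F) : adjR D O (Λ + Λ') = adjR D O Λ + adjR D O Λ' := by
  simp [adjR, Matrix.mul_add, Matrix.add_mul]

theorem inc_transpose (a : Fin k → F) :
    (inc α a)ᵀ = (TensorLinear.con α a : Matrix α (α × Fin k) F) := by
  ext i ⟨p, q⟩
  show (if p = i then a q else 0) = if p = i then a q else 0
  rfl

theorem adjR_inc (a : Fin k → F) : adjR D O (inc α a) = out D α a := by
  rw [adjR, inc_transpose, Matrix.mul_assoc, TensorLinear.con_mul_kronecker, ← Matrix.mul_assoc, O.inv_mul,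
    Matrix.one_mul]
  rfl

theorem adjR_right (Λ : Matrix (α × Fin k) α F) (A : Matrix α α F) :
    adjR D O (Λ * A) = O.adj A * adjR D O Λ := by
  simp only [adjR, Outer.adj, Matrix.transpose_mul, Matrix.mul_assoc]
  rw [← Matrix.mul_assoc O.G O.Gi, O.mul_inv, Matrix.one_mul]

theorem adjR_inc_mul (a : Fin k → F) (A : Matrix α α F) :
    adjR D O (inc α a * A) = O.adj A * out D α a := by rw [adjR_right, adjR_inc]

theorem out_inc (b a : Fin k → F) :
    out D α b * inc α a = D.f b a • (1 : Matrix α α F) :=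
  TensorLinear.con_mul_emb _ _

theorem inc_out (a b : Fin k → F) (θ : Matrix α α F) :
    inc α a * θ * out D α b = θ ⊗ₖ D.R a b :=
  TensorLinear.emb_mul_mul_con _ _ _

theorem kronecker_inc (θ : Matrix α α F) (B : Matrix (Fin k) (Fin k) F) (a : Fin k → F) :
    (θ ⊗ₖ B) * inc α a = inc α (B *ᵥ a) * θ :=
  TensorLinear.kronecker_mul_emb _ _ _

theorem inc_add (a b : Fin k → F) :
    (inc α (a + b) : Matrix (α × Fin k) α F) = inc α a + inc α b := by
  ext p i
  show (if p.1 = i then (a + b) p.2 else 0) = (if p.1 = i then a p.2 else 0) + (if p.1 = i then b p.2 else 0)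
  split_ifs <;> simp

theorem inc_smul (c : F) (a : Fin k → F) :
    (inc α (c • a) : Matrix (α × Fin k) α F) = c • inc α a := by
  ext p i
  show (if p.1 = i then (c • a) p.2 else 0) = c • (if p.1 = i then a p.2 else 0)
  split_ifs <;> simp

theorem inc_sub (a b : Fin k → F) :
    (inc α (a - b) : Matrix (α × Fin k) α F) = inc α a - inc α b := by
  rw [eq_sub_iff_add_eq, ← inc_add, sub_add_cancel]

theorem out_add (a b : Fin k → F) :
    (out D α (a + b) : Matrix α (α × Fin k) F) = out D α a + out D α b := by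
  rw [out, Matrix.add_vecMul]
  ext i p
  simp only [out, Matrix.add_apply, TensorLinear.con, Pi.add_apply]
  split_ifs <;> simp

theorem out_smul (c : F) (a : Fin k → F) :
    (out D α (c • a) : Matrix α (α × Fin k) F) = c • out D α a := by
  rw [out, Matrix.smul_vecMul]
  ext i p
  simp only [out, Matrix.smul_apply, TensorLinear.con, Pi.smul_apply]
  split_ifs <;> simp

theorem out_sub (a b : Fin k → F) :
    (out D α (a - b) : Matrix α (α × Fin k) F) = out D α a - out D α b := by
  rw [eq_sub_iff_add_eq, ← out_add, sub_add_cancel]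

theorem adjR_mul_inc (Λ : Matrix (α × Fin k) α F) (z : Fin k → F) :
    adjR D O Λ * inc α z = -O.adj (out D α z * Λ) := by
  have h : ((O.G ⊗ₖ D.J) * inc α z : Matrix (α × Fin k) α F) = -((out D α z)ᵀ * O.G) := by
    have ht : (out D α z : Matrix α (α × Fin k) F)ᵀ = inc α (z ᵥ* D.J) := by
      ext p i; rfl
    rw [kronecker_inc, ht, ← Matrix.neg_mul]
    congr 1
    rw [show D.J *ᵥ z = -(z ᵥ* D.J) by
      rw [← Matrix.mulVec_transpose, D.skew, Matrix.neg_mulVec, neg_neg], ← neg_one_smul F (z ᵥ* D.J), inc_smul,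
      neg_one_smul]
  rw [adjR, Matrix.mul_assoc, h, Matrix.mul_neg, Outer.adj, Matrix.transpose_mul]
  simp [Matrix.mul_assoc]

theorem ext_out {Λ Λ' : Matrix (α × Fin k) α F}
    (h : ∀ z : Fin k → F, out D α z * Λ = out D α z * Λ') : Λ = Λ' := by
  ext ⟨p, q⟩ i
  have h1 := congrFun (congrFun (h (fun j => D.Ji q j)) p) i
  have e : (fun j => D.Ji q j) ᵥ* D.J = Pi.single q 1 := by
    funext j
    rw [Matrix.vecMul, dotProduct, ← Matrix.mul_apply, D.inv_mul, Matrix.one_apply, Pi.single_apply]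
    simp [eq_comm]
  have e2 : ∀ M : Matrix (α × Fin k) α F,
      (out D α (fun j => D.Ji q j) * M) p i = M (p, q) i := fun M => by
    rw [out, e, Matrix.mul_apply]
    simp [TensorLinear.con, Fintype.sum_prod_type, Pi.single_apply]
  rwa [e2, e2] at h1

theorem ext_inc {M M' : Matrix (α × Fin k) (α × Fin k) F}
    (h : ∀ q : Fin k, M * inc α (Pi.single q (1 : F)) = M' * inc α (Pi.single q (1 : F))) : M = M' := by
  ext r ⟨p, q⟩
  have h1 := congrFun (congrFun (h q) r) p
  simpa [inc, TensorLinear.emb, Matrix.mul_apply, Fintype.sum_prod_type, Pi.single_apply] using h1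

/-- Rectangular blocks whose contractions are multiples of one matrix. -/
theorem exists_eq_inc {Λ : Matrix (α × Fin k) α F} {A : Matrix α α F}
    (h : ∀ z : Fin k → F, ∃ c : F, out D α z * Λ = c • A) : ∃ v : Fin k → F, Λ = inc α v * A := by
  choose c hc using fun q : Fin k => h (fun j => D.Ji q j)
  refine ⟨c, ?_⟩
  ext ⟨p, q⟩ i
  have e : (fun j => D.Ji q j) ᵥ* D.J = Pi.single q 1 := by
    funext j
    rw [Matrix.vecMul, dotProduct, ← Matrix.mul_apply, D.inv_mul, Matrix.one_apply, Pi.single_apply]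
    simp [eq_comm]
  have e2 : (out D α (fun j => D.Ji q j) * Λ) p i = Λ (p, q) i := by
    rw [out, e, Matrix.mul_apply]
    simp [TensorLinear.con, Fintype.sum_prod_type, Pi.single_apply]
  rw [← e2, hc q]
  show c q * A p i = ∑ j, inc α c (p, q) j * A j i
  rw [Finset.sum_eq_single p]
  · show c q * A p i = (if p = p then c q else 0) * A p i
    rw [if_pos rfl]
  · intro b _ hb
    show (if p = b then c q else 0) * A b i = 0
    rw [if_neg hb.symm, zero_mul]
  · simp

/-- Rectangular blocks whose contractions are multiples of one matrix on a hyperplane. -/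
theorem exists_eq_inc_perp {Λ : Matrix (α × Fin k) α F} {A : Matrix α α F} {e e' : Fin k → F}
    (he : D.f e e' = 1) (h : ∀ z : Fin k → F, D.f e z = 0 → ∃ c : F, out D α z * Λ = c • A) :
    ∃ (v : Fin k → F) (N : Matrix α α F), Λ = inc α v * A + inc α e * N := by
  set N := -(out D α e' * Λ)
  obtain ⟨v, hv⟩ := exists_eq_inc D (Λ := Λ - inc α e * N) (A := A) fun z => by
    obtain ⟨c, hc⟩ := h (z - D.f e z • e') (by rw [D.f_sub_right, D.f_smul_right, he, mul_one, sub_self])
    refine ⟨c, ?_⟩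
    rw [out_sub, out_smul, Matrix.sub_mul, Matrix.smul_mul] at hc
    rw [Matrix.mul_sub, ← Matrix.mul_assoc, out_inc, Matrix.smul_mul, Matrix.one_mul, ← hc,
      D.f_swap e z]
    simp only [N, smul_neg, neg_smul, neg_neg]
  exact ⟨v, N, by rw [← hv]; exact (sub_add_cancel _ _).symm⟩

end CfsgLib.HallGen.SympWreath
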