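/-
Overgroups of a symplectic factor with scalar central maps: every short root coefficient is scalar.
-/
import Cfsg.Agent.Lib.HallGen.SympWreath.Pair

set_option autoImplicit false
set_option linter.unusedSectionVars false

namespace CfsgLib.HallGen.SympWreath

open Matrix
open scoped Kronecker

variable {F : Type*} [Field F] {k : ℕ} {α : Type} [Fintype α] [DecidableEq α]
  (D : Factor F k) (O : Outer F α)

/-- A short root block. -/
def SH (a b : Fin k → F) (θ : Matrix α α F) : Matrix (α × Fin k) (α × Fin k) F :=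
  θ ⊗ₖ D.R a b + O.adj θ ⊗ₖ D.R b a

/-- An overgroup of the symplectic factor. -/
structure PairBase (X : Subgroup (GL (α × Fin k) F)) : Prop where
  two : (2 : F) ≠ 0
  iso : ∀ x ∈ X, adjP D O (x : Matrix (α × Fin k) (α × Fin k) F) * (x : Matrix (α × Fin k) (α × Fin k) F) = 1
  base : ∀ B, D.Iso B → Mem X ((1 : Matrix α α F) ⊗ₖ B)

/-- An overgroup of the symplectic factor with scalar central maps. -/
structure PairCtx (X : Subgroup (GL (α × Fin k) F)) : Prop extends PairBase D O X where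
  ng : ∀ (e : Fin k → F) (φ : Matrix α α F), e ≠ 0 → Mem X (1 + φ ⊗ₖ D.R e e) → ∃ c : F, φ = c • 1

/-- No non-zero invariant space of skew maps has scalar anticommutators. -/
def Rigid (X : Subgroup (GL (α × Fin k) F)) : Prop :=
  ∀ S : Submodule F (Matrix α α F), (∀ θ ∈ S, O.adj θ = -θ) →
    (∀ A : Matrix α α F, Mem X (A ⊗ₖ (1 : Matrix (Fin k) (Fin k) F)) → ∀ θ ∈ S, A * θ * O.adj A ∈ S) →
    (∀ θ ∈ S, ∀ τ ∈ S, ∃ c : F, θ * τ + τ * θ = c • 1) → S = ⊥

variable {D O}

theorem kr_mul (θ τ : Matrix α α F) (a b c d : Fin k → F) :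
    (θ ⊗ₖ D.R a b) * (τ ⊗ₖ D.R c d) = D.f b c • ((θ * τ) ⊗ₖ D.R a d) := by
  rw [← Matrix.mul_kronecker_mul, D.R_mul, Matrix.kronecker_smul]

theorem neg_kronecker' (θ : Matrix α α F) (B : Matrix (Fin k) (Fin k) F) : (-θ) ⊗ₖ B = -(θ ⊗ₖ B) := by
  rw [← neg_one_smul F θ, Matrix.smul_kronecker, neg_one_smul]

theorem kronecker_neg' (θ : Matrix α α F) (B : Matrix (Fin k) (Fin k) F) : θ ⊗ₖ (-B) = -(θ ⊗ₖ B) := by
  rw [← neg_one_smul F B, Matrix.kronecker_smul, neg_one_smul]

theorem sub_kronecker' (θ τ : Matrix α α F) (B : Matrix (Fin k) (Fin k) F) :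
    (θ - τ) ⊗ₖ B = θ ⊗ₖ B - τ ⊗ₖ B := by
  rw [sub_eq_add_neg, Matrix.add_kronecker, neg_kronecker', ← sub_eq_add_neg]

/-- The coefficient in front of a rank one map is determined. -/
theorem coeff_injective {a b : Fin k → F} (ha : a ≠ 0) (hb : b ≠ 0) {θ τ : Matrix α α F}
    (h : θ ⊗ₖ D.R a b = τ ⊗ₖ D.R a b) : θ = τ := by
  obtain ⟨a', ha'⟩ := D.nondeg ha
  obtain ⟨b', hb'⟩ := D.nondeg hb
  have key : ∀ θ : Matrix α α F, out D α a' * (θ ⊗ₖ D.R a b) * inc α b' = -θ := fun θ => by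
    rw [← inc_out, ← Matrix.mul_assoc, ← Matrix.mul_assoc, out_inc, Matrix.mul_assoc, out_inc, hb', one_smul,
      Matrix.mul_one, D.f_swap a a', ha', neg_one_smul, Matrix.neg_mul, Matrix.one_mul]
  exact neg_injective (by rw [← key θ, ← key τ, h])

theorem SH_add (a b : Fin k → F) (θ τ : Matrix α α F) : SH D O a b (θ + τ) = SH D O a b θ + SH D O a b τ := by
  simp only [SH, O.adj_add, Matrix.add_kronecker]
  abel

theorem SH_smul_right (a b : Fin k → F) (c : F) (θ : Matrix α α F) :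
    SH D O a (c • b) θ = SH D O a b (c • θ) := by
  simp only [SH, D.R_smul_left, D.R_smul_right, O.adj_smul, Matrix.kronecker_smul, Matrix.smul_kronecker]

theorem SH_zero (a b : Fin k → F) : SH D O a b 0 = 0 := by simp [SH]

theorem SH_mul_SH {a b : Fin k → F} (hab : D.f a b = 0) (θ τ : Matrix α α F) :
    SH D O a b θ * SH D O a b τ = 0 := by
  simp [SH, add_mul, mul_add, kr_mul, D.f_self, hab, D.f_swap a b]

theorem conj_kronecker {B : Matrix (Fin k) (Fin k) F} (hB : D.Iso B) (A θ : Matrix α α F) (a b : Fin k → F) :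
    (A ⊗ₖ B) * (θ ⊗ₖ D.R a b) * adjP D O (A ⊗ₖ B) = (A * θ * O.adj A) ⊗ₖ D.R (B *ᵥ a) (B *ᵥ b) := by
  rw [adjP_kronecker, ← Matrix.mul_kronecker_mul, ← Matrix.mul_kronecker_mul, hB.mul_R_mul]

namespace PairBase

variable {X : Subgroup (GL (α × Fin k) F)} (C : PairBase D O X)
include C

theorem mem_inv {M : Matrix (α × Fin k) (α × Fin k) F} (hM : Mem X M) : adjP D O M * M = 1 := by
  obtain ⟨x, hx, rfl⟩ := hM
  exact C.iso x hx

theorem conj {M N : Matrix (α × Fin k) (α × Fin k) F} (hM : Mem X M) (hN : Mem X (1 + N)) :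
    Mem X (1 + M * N * adjP D O M) := by
  have h := (hM.mul hN).mul (hM.left_inv (C.mem_inv hM))
  rw [mul_add, mul_one, add_mul, show M * adjP D O M = 1 from mul_eq_one_comm.1 (C.mem_inv hM)] at h
  exact h

theorem conj_base {B : Matrix (Fin k) (Fin k) F} (hB : D.Iso B) {θ : Matrix α α F} {a b : Fin k → F}
    (h : Mem X (1 + SH D O a b θ)) : Mem X (1 + SH D O (B *ᵥ a) (B *ᵥ b) θ) := by
  have h1 := C.conj (C.base B hB) h
  rwa [SH, mul_add, add_mul, conj_kronecker hB, conj_kronecker hB, O.adj_one, Matrix.one_mul, Matrix.mul_one,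
    Matrix.one_mul, Matrix.mul_one] at h1

theorem conj_base_centre {B : Matrix (Fin k) (Fin k) F} (hB : D.Iso B) {φ : Matrix α α F} {a : Fin k → F}
    (h : Mem X (1 + φ ⊗ₖ D.R a a)) : Mem X (1 + φ ⊗ₖ D.R (B *ᵥ a) (B *ᵥ a)) := by
  have h1 := C.conj (C.base B hB) h
  rwa [conj_kronecker hB, O.adj_one, Matrix.one_mul, Matrix.mul_one] at h1

/-- The scalar central maps are in the group. -/
theorem base_centre (a : Fin k → F) (c : F) : Mem X (1 + (c • (1 : Matrix α α F)) ⊗ₖ D.R a a) := by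
  have h := C.base _ (D.iso_transv a c)
  rwa [Matrix.kronecker_add, Matrix.one_kronecker_one, Matrix.kronecker_smul, ← Matrix.smul_kronecker] at h

/-- The scalar short root blocks are in the group. -/
theorem base_short {a b : Fin k → F} (hab : D.f a b = 0) (c : F) :
    Mem X (1 + SH D O a b (c • (1 : Matrix α α F))) := by
  have hI : D.Iso (1 + c • D.R a b + c • D.R b a) := by
    rw [Factor.Iso, D.adj_add, D.adj_add, D.adj_one, D.adj_smul, D.adj_smul, D.adj_R, D.adj_R]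
    simp [add_mul, mul_add, D.R_mul, D.f_self, hab, D.f_swap a b]
  have h := C.base _ hI
  rw [Matrix.kronecker_add, Matrix.kronecker_add, Matrix.one_kronecker_one, Matrix.kronecker_smul,
    Matrix.kronecker_smul, add_assoc] at h
  simpa [SH, O.adj_smul, O.adj_one, Matrix.smul_kronecker] using h

/-- The coefficients at a pair. -/
def coeffs {a b b' : Fin k → F} (hab : D.f a b = 0) (hab' : D.f a b' = 0) (hbb' : D.f b b' = 1) :
    Submodule F (Matrix α α F) where
  carrier := {θ | Mem X (1 + SH D O a b θ)}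
  zero_mem' := by
    show Mem X (1 + SH D O a b 0)
    rw [SH_zero, add_zero]
    exact mem_one
  add_mem' {θ τ} hθ hτ := by
    show Mem X (1 + SH D O a b (θ + τ))
    have h := Mem.mul (show Mem X (1 + SH D O a b θ) from hθ) (show Mem X (1 + SH D O a b τ) from hτ)
    rwa [mul_add, mul_one, add_mul, one_mul, SH_mul_SH hab, add_zero, add_assoc, ← SH_add] at h
  smul_mem' c θ hθ := by
    show Mem X (1 + SH D O a b (c • θ))
    by_cases hc : c = 0
    · rw [hc, zero_smul, SH_zero, add_zero]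
      exact mem_one
    have hba : D.f b a = 0 := by rw [D.f_swap a b, hab, neg_zero]
    have hb'a : D.f b' a = 0 := by rw [D.f_swap a b', hab', neg_zero]
    have h := C.conj_base (D.iso_torus hbb' hc) (show Mem X (1 + SH D O a b θ) from hθ)
    rwa [D.torus_left hbb', D.torus_perp hba hb'a, SH_smul_right] at h

end PairBase

namespace PairCtx

variable {X : Subgroup (GL (α × Fin k) F)} (C : PairCtx D O X)
include C

/-- A central map with a short root block splits. -/
theorem split {a b b' : Fin k → F} (ha : a ≠ 0) (hab : D.f a b = 0) (hab' : D.f a b' = 0)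
    (hbb' : D.f b b' = 1) {θ φ : Matrix α α F} (h : Mem X (1 + (SH D O a b θ + φ ⊗ₖ D.R a a))) :
    (∃ c : F, φ = c • 1) ∧ Mem X (1 + SH D O a b θ) := by
  have hba : D.f b a = 0 := by rw [D.f_swap a b, hab, neg_zero]
  have hb'a : D.f b' a = 0 := by rw [D.f_swap a b', hab', neg_zero]
  have hN := D.iso_negPlane hbb'
  have h1 := C.conj (C.base _ hN) h
  rw [mul_add, add_mul, SH, mul_add, add_mul, conj_kronecker hN, conj_kronecker hN, conj_kronecker hN,
    D.negPlane_left hbb', D.negPlane_perp hba hb'a, O.adj_one, Matrix.one_mul, Matrix.mul_one,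
    Matrix.one_mul, Matrix.mul_one, Matrix.one_mul, Matrix.mul_one, D.R_neg_left, D.R_neg_right, kronecker_neg',
    kronecker_neg', ← neg_add] at h1
  have h2 := h.mul h1
  have hsq := SH_mul_SH (O := O) hab θ θ
  have e1 : SH D O a b θ * (φ ⊗ₖ D.R a a) = 0 := by simp [SH, add_mul, kr_mul, D.f_self, hba]
  have e2 : (φ ⊗ₖ D.R a a) * SH D O a b θ = 0 := by simp [SH, mul_add, kr_mul, D.f_self, hab]
  have e3 : (φ ⊗ₖ D.R a a) * (φ ⊗ₖ D.R a a) = 0 := by simp [kr_mul, D.f_self]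
  have e : (1 + (SH D O a b θ + φ ⊗ₖ D.R a a)) * (1 + (-SH D O a b θ + φ ⊗ₖ D.R a a)) =
      1 + ((2 : F) • φ) ⊗ₖ D.R a a := by
    rw [Matrix.smul_kronecker, two_smul]
    simp only [mul_add, add_mul, mul_neg, mul_one, one_mul, hsq, e1, e2, e3, neg_zero, add_zero]
    abel
  rw [show θ ⊗ₖ D.R a b + O.adj θ ⊗ₖ D.R b a = SH D O a b θ from rfl] at h1
  rw [show θ ⊗ₖ D.R a b + O.adj θ ⊗ₖ D.R b a = SH D O a b θ from rfl, e] at h2
  obtain ⟨c, hc⟩ := C.ng a _ ha h2
  have hφ : φ = (c / 2) • 1 := by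
    rw [show φ = (2 : F)⁻¹ • ((2 : F) • φ) by rw [smul_smul, inv_mul_cancel₀ C.two, one_smul], hc, smul_smul,
      mul_comm, ← div_eq_mul_inv]
  refine ⟨⟨_, hφ⟩, ?_⟩
  have h3 := h.mul (C.base_centre a (-(c / 2)))
  rw [neg_smul, ← hφ, neg_kronecker'] at h3
  convert h3 using 1
  simp only [mul_add, add_mul, mul_neg, mul_one, one_mul, e1, e3, neg_zero, add_zero]
  abel

/-- **Every short root coefficient is a scalar.** -/
theorem short_scalar (hrig : Rigid O X) {a b b' : Fin k → F} (ha : a ≠ 0) (hab : D.f a b = 0)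
    (hab' : D.f a b' = 0) (hbb' : D.f b b' = 1) {θ φ : Matrix α α F}
    (h : Mem X (1 + (SH D O a b θ + φ ⊗ₖ D.R a a))) : ∃ c : F, θ = c • 1 := by
  obtain ⟨-, hθ⟩ := C.split ha hab hab' hbb' h
  set T := C.coeffs hab hab' hbb'
  have hb : b ≠ 0 := fun h0 => by rw [h0, D.f_zero_left] at hbb'; exact zero_ne_one hbb'
  have hba : D.f b a = 0 := by rw [D.f_swap a b, hab, neg_zero]
  have hb'a : D.f b' a = 0 := by rw [D.f_swap a b', hab', neg_zero]
  have key : ∀ θ ∈ T, ∀ τ ∈ T, ∃ c : F, θ * O.adj τ + τ * O.adj θ = c • 1 := by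
    intro θ hθ τ hτ
    have hW := C.conj_base (D.iso_weyl hbb') (show Mem X (1 + SH D O a b τ) from hτ)
    rw [D.weyl_left hbb', D.weyl_perp hba hb'a] at hW
    have hb'b : D.f b' b = -1 := by rw [D.f_swap b b', hbb']
    have h1 := Mem.comm_sq (show Mem X (1 + SH D O a b θ) from hθ) hW (SH_mul_SH hab θ θ)
      (SH_mul_SH hab' τ τ)
    have e : SH D O a b θ * SH D O a b' τ = (θ * O.adj τ) ⊗ₖ D.R a a := by
      simp [SH, add_mul, mul_add, kr_mul, D.f_self, hab', hba, hbb']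
    have e' : SH D O a b' τ * SH D O a b θ = -((τ * O.adj θ) ⊗ₖ D.R a a) := by
      simp [SH, add_mul, mul_add, kr_mul, D.f_self, hab, hb'a, hb'b]
    have z1 : SH D O a b θ * SH D O a b' τ * SH D O a b θ = 0 := by
      rw [e]
      simp [SH, mul_add, kr_mul, D.f_self, hab]
    have z2 : SH D O a b' τ * SH D O a b θ * SH D O a b' τ = 0 := by
      rw [e']
      simp [SH, mul_add, kr_mul, D.f_self, hab']
    have z3 : SH D O a b θ * SH D O a b' τ * SH D O a b θ * SH D O a b' τ = 0 := by rw [z1, zero_mul]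
    rw [z3, z2, z1, e, e', sub_zero, add_zero, add_zero, sub_neg_eq_add, add_assoc, ← Matrix.add_kronecker] at h1
    obtain ⟨c, hc⟩ := C.ng a (θ * O.adj τ + τ * O.adj θ) ha h1
    exact ⟨c, hc⟩
  have hone : (1 : Matrix α α F) ∈ T := by
    have := C.base_short hab (1 : F)
    rwa [one_smul] at this
  obtain ⟨c, hc⟩ := key θ hθ 1 hone
  rw [O.adj_one, Matrix.mul_one, Matrix.one_mul] at hc
  let S : Submodule F (Matrix α α F) :=
    { carrier := {θ | θ ∈ T ∧ O.adj θ = -θ}
      zero_mem' := ⟨T.zero_mem, by rw [O.adj_zero, neg_zero]⟩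
      add_mem' := fun {x y} hx hy => ⟨T.add_mem hx.1 hy.1, by rw [O.adj_add, hx.2, hy.2, neg_add]⟩
      smul_mem' := fun s x hx => ⟨T.smul_mem s hx.1, by rw [O.adj_smul, hx.2, smul_neg]⟩ }
  have hS := hrig S (fun x hx => hx.2) (fun A hA x hx => by
    refine ⟨?_, by rw [O.adj_mul, O.adj_mul, O.adj_adj, hx.2, neg_mul, mul_neg, Matrix.mul_assoc]⟩
    have h1 := C.conj hA (show Mem X (1 + SH D O a b x) from hx.1)
    rw [SH, mul_add, add_mul, conj_kronecker D.iso_one, conj_kronecker D.iso_one, Matrix.one_mulVec,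
      Matrix.one_mulVec] at h1
    show Mem X (1 + SH D O a b (A * x * O.adj A))
    rwa [SH, show O.adj (A * x * O.adj A) = A * O.adj x * O.adj A by
      rw [O.adj_mul, O.adj_mul, O.adj_adj, Matrix.mul_assoc]]) (fun x hx y hy => by
    obtain ⟨s, hs⟩ := key x hx.1 y hy.1
    rw [hx.2, hy.2, mul_neg, mul_neg] at hs
    exact ⟨-s, by rw [neg_smul, ← hs, neg_add, neg_neg, neg_neg]⟩)
  have hmem : θ - (c / 2) • 1 ∈ S := by
    refine ⟨T.sub_mem hθ (T.smul_mem _ hone), ?_⟩
    rw [O.adj_sub, O.adj_smul, O.adj_one, eq_sub_of_add_eq' hc, neg_sub]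
    have h2 : c • (1 : Matrix α α F) = (c / 2) • 1 + (c / 2) • 1 := by
      rw [← add_smul]; congr 1
      rw [← two_mul, mul_div_cancel₀ c C.two]
    rw [h2]
    abel
  rw [hS, Submodule.mem_bot, sub_eq_zero] at hmem
  exact ⟨_, hmem⟩

end PairCtx

end CfsgLib.HallGen.SympWreath
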