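/-
An element of the overgroup sending a line of pure tensors to a line is a Kronecker product.
-/
import Cfsg.Agent.Lib.HallGen.SympWreath.Centre

set_option autoImplicit false
set_option linter.unusedSectionVars false

namespace CfsgLib.HallGen.SympWreath

open Matrix
open scoped Kronecker

variable {F : Type*} [Field F] {k : ℕ} {α : Type} [Fintype α] [DecidableEq α]
  (D : Factor F k) (O : Outer F α)

/-- An isometry conjugating the symplectic factor into the group. -/
def Mov (X : Subgroup (GL (α × Fin k) F)) (M : Matrix (α × Fin k) (α × Fin k) F) : Prop :=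
  adjP D O M * M = 1 ∧ ∀ B, D.Iso B → Mem X (M * ((1 : Matrix α α F) ⊗ₖ B) * adjP D O M)

variable {D O} {X : Subgroup (GL (α × Fin k) F)} {M : Matrix (α × Fin k) (α × Fin k) F}

theorem gram (hM : adjP D O M * M = 1) (a b : Fin k → F) :
    adjR D O (M * inc α a) * (M * inc α b) = D.f a b • (1 : Matrix α α F) := by
  rw [adjR_mul, adjR_inc, Matrix.mul_assoc, ← Matrix.mul_assoc (adjP D O M), hM, Matrix.one_mul, out_inc]

theorem move_kr (M : Matrix (α × Fin k) (α × Fin k) F) (θ : Matrix α α F) (a b : Fin k → F) :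
    M * (θ ⊗ₖ D.R a b) * adjP D O M = (M * inc α a) * θ * adjR D O (M * inc α b) := by
  rw [adjR_mul, adjR_inc, ← inc_out]
  simp only [Matrix.mul_assoc]

theorem kr_inc_out (a b c d : Fin k → F) (θ τ : Matrix α α F) :
    (inc α a * θ * out D α b) * (inc α c * τ * out D α d) = D.f b c • ((θ * τ) ⊗ₖ D.R a d) := by
  rw [inc_out, inc_out, kr_mul]

theorem sq_move (hM : adjP D O M * M = 1) {N : Matrix (α × Fin k) (α × Fin k) F} (h : N * N = 0) :
    M * N * adjP D O M * (M * N * adjP D O M) = 0 := by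
  rw [show M * N * adjP D O M * (M * N * adjP D O M) = M * (N * (adjP D O M * M) * N) * adjP D O M by
    simp only [Matrix.mul_assoc], hM, Matrix.mul_one, h, Matrix.mul_zero, Matrix.zero_mul]

theorem inc_left_injective [Nonempty α] {a b : Fin k → F} (h : (inc α a : Matrix (α × Fin k) α F) = inc α b) :
    a = b := by
  funext q
  obtain ⟨p⟩ := ‹Nonempty α›
  have h1 := congrFun (congrFun h (p, q)) p
  simpa [inc, CfsgLib.Geo.TensorLinear.emb] using h1

theorem inc_smul_mul (c : F) (a : Fin k → F) (A : Matrix α α F) :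
    inc α a * (c • A) = inc α (c • a) * A := by
  rw [Matrix.mul_smul, inc_smul, Matrix.smul_mul]

namespace PairCtx

variable (C : PairCtx D O X)
include C

theorem mov_of_mem (hM : Mem X M) : Mov D O X M :=
  ⟨C.mem_inv hM, fun B hB => (hM.mul (C.base B hB)).mul (hM.left_inv (C.mem_inv hM))⟩

theorem mov_base_mul (hM : Mov D O X M) {B : Matrix (Fin k) (Fin k) F} (hB : D.Iso B) :
    Mov D O X (((1 : Matrix α α F) ⊗ₖ B) * M) := by
  refine ⟨?_, fun B' hB' => ?_⟩
  · rw [adjP_mul, Matrix.mul_assoc, ← Matrix.mul_assoc (adjP D O ((1 : Matrix α α F) ⊗ₖ B)),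
      C.mem_inv (C.base B hB), Matrix.one_mul, hM.1]
  · have h := ((C.base B hB).mul (hM.2 B' hB')).mul ((C.base B hB).left_inv (C.mem_inv (C.base B hB)))
    rw [adjP_mul]
    simpa only [Matrix.mul_assoc] using h

/-- The image of a line is similar to the line. -/
theorem similitude [Nonempty α] (hM : Mov D O X M) {e : Fin k → F} (he : e ≠ 0) {A : Matrix α α F}
    (hA : M * inc α e = inc α e * A) :
    ∃ μ : F, μ ≠ 0 ∧ A * O.adj A = μ • 1 ∧ A * (μ⁻¹ • O.adj A) = 1 ∧ (μ⁻¹ • O.adj A) * A = 1 := by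
  have h := hM.2 _ (D.iso_transv e 1)
  rw [one_smul, Matrix.kronecker_add, Matrix.one_kronecker_one, mul_add, mul_one, add_mul, move_kr, hA,
    Matrix.mul_one, adjR_inc_mul, ← Matrix.mul_assoc, Matrix.mul_assoc (inc α e) A, inc_out,
    mul_eq_one_comm.1 hM.1] at h
  obtain ⟨μ, hμ⟩ := C.ng e _ he h
  have hμ0 : μ ≠ 0 := fun h0 => by
    have h1 : M * ((1 : Matrix α α F) ⊗ₖ D.R e e) * adjP D O M = 0 := by
      rw [move_kr, hA, Matrix.mul_one, adjR_inc_mul, ← Matrix.mul_assoc, Matrix.mul_assoc (inc α e) A, inc_out,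
        hμ, h0, zero_smul, Matrix.zero_kronecker]
    have h2 : adjP D O M * (M * ((1 : Matrix α α F) ⊗ₖ D.R e e) * adjP D O M) * M = 0 := by
      rw [h1, Matrix.mul_zero, Matrix.zero_mul]
    rw [show adjP D O M * (M * ((1 : Matrix α α F) ⊗ₖ D.R e e) * adjP D O M) * M =
      (adjP D O M * M) * ((1 : Matrix α α F) ⊗ₖ D.R e e) * (adjP D O M * M) by simp only [Matrix.mul_assoc],
      hM.1, Matrix.one_mul, Matrix.mul_one, ← Matrix.zero_kronecker (l := α) (m := α) (D.R e e)] at h2
    exact one_ne_zero (coeff_injective he he h2)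
  have h1 : A * (μ⁻¹ • O.adj A) = 1 := by rw [Matrix.mul_smul, hμ, smul_smul, inv_mul_cancel₀ hμ0, one_smul]
  exact ⟨μ, hμ0, hμ, h1, mul_eq_one_comm.1 h1⟩

/-- The contractions of the image of a line orthogonal to a fixed line. -/
theorem contract [Nonempty α] (hrig : Rigid O X) (hM : Mov D O X M) {e w z : Fin k → F} (he : e ≠ 0)
    {A : Matrix α α F} (hA : M * inc α e = inc α e * A) (hw : D.f e w = 0) (hz : D.f e z = 0) :
    ∃ c : F, out D α z * (M * inc α w) = c • A := by
  obtain ⟨μ, hμ, hAA, hAi, hiA⟩ := C.similitude hM he hA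
  set Λ := M * inc α w
  have h0 : out D α e * Λ = 0 := by
    have h1 := gram hM.1 e w
    rw [hA, adjR_inc_mul, hw, zero_smul, Matrix.mul_assoc] at h1
    have h2 := congrArg (fun N => A * (μ⁻¹ • N)) h1
    simp only [smul_zero, Matrix.mul_zero, ← Matrix.smul_mul, ← Matrix.mul_assoc, hAi, Matrix.one_mul] at h2
    rw [← Matrix.mul_assoc]
    exact h2
  by_cases hzs : z ∈ Submodule.span F {e}
  · obtain ⟨c, rfl⟩ := Submodule.mem_span_singleton.1 hzs
    exact ⟨0, by rw [out_smul, Matrix.smul_mul, h0, smul_zero, zero_smul]⟩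
  obtain ⟨z', hez', hzz'⟩ := D.exists_partner hzs
  have hze : D.f z e = 0 := by rw [D.f_swap e z, hz, neg_zero]
  set P := out D α z * Λ
  set N := M * SH D O e w 1 * adjP D O M
  have hX : N = inc α e * A * adjR D O Λ + Λ * O.adj A * out D α e := by
    simp only [N, SH, O.adj_one, mul_add, add_mul, move_kr, hA, Matrix.mul_one, adjR_inc_mul]
    simp only [Λ, Matrix.mul_assoc]
  have hXm : Mem X (1 + N) := by
    have h := C.base_short hw (1 : F)
    rw [one_smul] at h
    have hI : ∃ B, D.Iso B ∧ ((1 : Matrix α α F) ⊗ₖ B) = 1 + SH D O e w 1 := by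
      refine ⟨1 + D.R e w + D.R w e, ?_, ?_⟩
      · rw [Factor.Iso, D.adj_add, D.adj_add, D.adj_one, D.adj_R, D.adj_R]
        simp [add_mul, mul_add, D.R_mul, D.f_self, hw, D.f_swap e w]
      · rw [SH, O.adj_one, Matrix.kronecker_add, Matrix.kronecker_add, Matrix.one_kronecker_one, add_assoc]
    obtain ⟨B, hB, eB⟩ := hI
    have h2 := hM.2 B hB
    rwa [eB, mul_add, mul_one, add_mul, mul_eq_one_comm.1 hM.1] at h2
  set Y : Matrix (α × Fin k) (α × Fin k) F := inc α z * (1 : Matrix α α F) * out D α z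
  have hY : Mem X (1 + Y) := by
    have h := C.base_centre z (1 : F)
    rw [one_smul] at h
    simpa only [Y, inc_out] using h
  have hYY : Y * Y = 0 := by rw [kr_inc_out, D.f_self, zero_smul]
  have h := hXm.comm_sq hY (sq_move hM.1 (SH_mul_SH hw _ _)) hYY
  have eXY : N * Y = -(inc α e * (A * O.adj P) * out D α z) := by
    have e1 : out D α e * Y = 0 := by
      simp only [Y, Matrix.mul_one, ← Matrix.mul_assoc, out_inc, hz, zero_smul, Matrix.zero_mul]
    have e2 : adjR D O Λ * Y = -(O.adj P * out D α z) := by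
      simp only [Y, Matrix.mul_one, ← Matrix.mul_assoc, adjR_mul_inc, Matrix.neg_mul, P]
    rw [hX, add_mul, Matrix.mul_assoc _ (out D α e) Y, e1, Matrix.mul_zero, add_zero, Matrix.mul_assoc, e2,
      Matrix.mul_neg]
    simp only [Matrix.mul_assoc]
  have eYX : Y * N = inc α z * (P * O.adj A) * out D α e := by
    have e1 : out D α z * (inc α e * A * adjR D O Λ) = 0 := by
      simp only [← Matrix.mul_assoc, out_inc, hze, zero_smul, Matrix.zero_mul]
    rw [hX, mul_add]
    simp only [Y, Matrix.mul_one, Matrix.mul_assoc (inc α z) (out D α z), e1, Matrix.mul_zero, zero_add]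
    simp only [P, Matrix.mul_assoc]
  have eXYX : N * Y * N = -((A * O.adj P * P * O.adj A) ⊗ₖ D.R e e) := by
    have e1 : out D α z * N = P * O.adj A * out D α e := by
      rw [hX, Matrix.mul_add]
      simp only [← Matrix.mul_assoc, out_inc, hze, zero_smul, Matrix.zero_mul, zero_add, P]
    rw [eXY, Matrix.neg_mul, Matrix.mul_assoc _ (out D α z) N, e1, ← inc_out]
    simp only [Matrix.mul_assoc]
  have eYXY : Y * N * Y = 0 := by rw [eYX, kr_inc_out, hz, zero_smul]
  have e4 : N * Y * N * Y = 0 := by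
    rw [eXYX]
    simp only [Y, inc_out, neg_mul, kr_mul, hz, zero_smul, neg_zero]
  rw [e4, eYXY, eXYX, eXY, eYX, inc_out, inc_out, add_zero, add_zero] at h
  obtain ⟨c, hc⟩ := C.short_scalar hrig he hz hez' hzz' (θ := -(A * O.adj P))
    (φ := A * O.adj P * P * O.adj A) (by
      convert h using 1
      rw [SH, O.adj_neg, O.adj_mul, O.adj_adj, neg_kronecker', neg_kronecker', sub_neg_eq_add]
      abel)
  refine ⟨-(c / μ), ?_⟩
  have h1 : O.adj P = -(c / μ) • O.adj A := by
    have h2 := congrArg (fun N => (μ⁻¹ • O.adj A) * N) hc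
    simp only [Matrix.mul_neg, ← Matrix.mul_assoc, hiA, Matrix.one_mul, Matrix.mul_smul, Matrix.mul_one,
      smul_smul] at h2
    rw [← neg_neg (O.adj P), h2, neg_smul, div_eq_mul_inv]
  rw [← O.adj_adj P, h1, O.adj_smul, O.adj_adj]

/-- Lines orthogonal to a line going to a line go to lines. -/
theorem line_step [Nonempty α] (hrig : Rigid O X) (hM : Mov D O X M) {e e' : Fin k → F} (he : e ≠ 0)
    {A : Matrix α α F} (hA : M * inc α e = inc α e' * A) {w : Fin k → F} (hw : D.f e w = 0) :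
    ∃ v : Fin k → F, M * inc α w = inc α v * A := by
  have he' : e' ≠ 0 := fun h0 => by
    have h1 := congrArg (adjP D O M * ·) hA
    simp only [← Matrix.mul_assoc, hM.1, Matrix.one_mul, h0] at h1
    have h2 : (inc α (0 : Fin k → F) : Matrix (α × Fin k) α F) = 0 := by
      rw [← zero_smul F (0 : Fin k → F), inc_smul, zero_smul]
    rw [Matrix.mul_assoc, h2, Matrix.zero_mul, Matrix.mul_zero, ← h2] at h1
    exact he (inc_left_injective h1)
  obtain ⟨B, hB, hBe⟩ := D.exists_iso he' he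
  set M' := ((1 : Matrix α α F) ⊗ₖ B) * M
  have hM' : Mov D O X M' := C.mov_base_mul hM hB
  have hA' : M' * inc α e = inc α e * A := by
    rw [Matrix.mul_assoc, hA, ← Matrix.mul_assoc, kronecker_inc, hBe, Matrix.mul_one]
  suffices ∃ v : Fin k → F, M' * inc α w = inc α v * A by
    obtain ⟨v, hv⟩ := this
    refine ⟨D.adj B *ᵥ v, ?_⟩
    have h1 := congrArg (((1 : Matrix α α F) ⊗ₖ D.adj B) * ·) hv
    simp only [M', ← Matrix.mul_assoc, ← Matrix.mul_kronecker_mul, Matrix.mul_one,
      show D.adj B * B = 1 from hB, Matrix.one_kronecker_one, Matrix.one_mul] at h1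
    rwa [kronecker_inc, Matrix.mul_one] at h1
  clear_value M'
  by_cases hws : w ∈ Submodule.span F {e}
  · obtain ⟨c, rfl⟩ := Submodule.mem_span_singleton.1 hws
    exact ⟨c • e, by rw [inc_smul, Matrix.mul_smul, hA', Matrix.smul_mul]⟩
  obtain ⟨μ, hμ, hAA, hAi, hiA⟩ := C.similitude hM' he hA'
  obtain ⟨e₁, he₁⟩ := D.nondeg he
  obtain ⟨v, N, hΛ⟩ := exists_eq_inc_perp D he₁ fun z hz => C.contract hrig hM' he hA' hw hz
  obtain ⟨w', hew', hww'⟩ := D.exists_partner hws
  have hA0 : A ≠ 0 := fun h0 => by rw [h0, Matrix.zero_mul] at hAi; exact zero_ne_one hAi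
  have hev : D.f e v = 0 := by
    have h1 := gram hM'.1 e w
    rw [hA', adjR_inc_mul, hw, zero_smul, hΛ, Matrix.mul_assoc, Matrix.mul_add, ← Matrix.mul_assoc,
      ← Matrix.mul_assoc, out_inc, out_inc, D.f_self, zero_smul, Matrix.zero_mul, add_zero, Matrix.smul_mul,
      Matrix.one_mul, Matrix.mul_smul] at h1
    have h2 := congrArg (A * ·) h1
    simp only [Matrix.mul_zero, Matrix.mul_smul, ← Matrix.mul_assoc, hAA, Matrix.smul_mul, Matrix.one_mul,
      smul_smul] at h2
    exact (mul_eq_zero.1 ((smul_eq_zero.1 h2).resolve_right hA0)).resolve_right hμ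
  have hvs : v ∉ Submodule.span F {e} := fun hm => by
    obtain ⟨c, rfl⟩ := Submodule.mem_span_singleton.1 hm
    have h1 : M' * inc α w = M' * (inc α e * ((μ⁻¹ • O.adj A) * (c • A + N))) := by
      rw [hΛ, ← Matrix.mul_assoc M', hA', Matrix.mul_assoc (inc α e), ← Matrix.mul_assoc A, hAi, Matrix.one_mul,
        Matrix.mul_add, inc_smul_mul]
    have h2 := congrArg (adjP D O M' * ·) h1
    simp only [← Matrix.mul_assoc, hM'.1, Matrix.one_mul] at h2
    have h3 := congrArg (out D α w' * ·) h2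
    simp only [← Matrix.mul_assoc, out_inc, D.f_swap w w', hww', D.f_swap e w', hew', neg_zero, zero_smul,
      Matrix.zero_mul] at h3
    rw [neg_one_smul, neg_eq_zero] at h3
    exact one_ne_zero h3
  obtain ⟨v', hev', hvv'⟩ := D.exists_partner hvs
  have h := hM'.2 _ (D.iso_transv w 1)
  rw [one_smul, Matrix.kronecker_add, Matrix.one_kronecker_one, mul_add, mul_one, add_mul, move_kr, hΛ,
    Matrix.mul_one, adjR_add, adjR_inc_mul, adjR_inc_mul, mul_eq_one_comm.1 hM'.1] at h
  have hve : D.f v e = 0 := by rw [D.f_swap e v, hev, neg_zero]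
  have h1 := h.mul (C.base_centre v (-μ))
  have e1 : (inc α v * A + inc α e * N) * (O.adj A * out D α v + O.adj N * out D α e) =
      (μ • (1 : Matrix α α F)) ⊗ₖ D.R v v + (SH D O e v (N * O.adj A) + (N * O.adj N) ⊗ₖ D.R e e) := by
    rw [← hAA, SH, O.adj_mul, O.adj_adj, ← inc_out, ← inc_out, ← inc_out, ← inc_out]
    simp only [Matrix.mul_add, Matrix.add_mul, Matrix.mul_assoc]
    abel
  rw [e1] at h1
  obtain ⟨c, hc⟩ := C.short_scalar hrig he hev hev' hvv' (θ := N * O.adj A) (φ := N * O.adj N) (by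
    convert h1 using 1
    simp only [SH, mul_add, add_mul, mul_one, one_mul, neg_smul, neg_kronecker', mul_neg,
      kr_mul, D.f_self, hev, zero_smul, neg_zero, add_zero]
    abel)
  refine ⟨v + (c / μ) • e, ?_⟩
  have hN : N = (c / μ) • A := by
    have h2 := congrArg (· * (μ⁻¹ • A)) hc
    simp only [Matrix.mul_assoc, Matrix.mul_smul, Matrix.smul_mul, Matrix.one_mul] at h2
    have h3 : μ⁻¹ • (O.adj A * A) = 1 := by rw [← Matrix.smul_mul]; exact hiA
    rwa [← Matrix.mul_smul, h3, Matrix.mul_one, smul_smul, ← div_eq_inv_mul] at h2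
  rw [hΛ, hN, inc_smul_mul, inc_add, Matrix.add_mul]

/-- Lines everywhere give a Kronecker product. -/
theorem kronecker_of_all {A : Matrix α α F}
    (h : ∀ w : Fin k → F, ∃ v : Fin k → F, M * inc α w = inc α v * A) : ∃ B, M = A ⊗ₖ B := by
  choose v hv using fun q : Fin k => h (Pi.single q (1 : F))
  refine ⟨Matrix.of fun r q => v q r, ext_inc fun q => ?_⟩
  rw [hv, kronecker_inc]
  congr 2
  funext r
  simp

theorem kronecker_two [Nonempty α] (hM : Mov D O X M) (hk : k = 2) {s : F} (hs : s ≠ 0) (hs2 : s * s ≠ 1)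
    {e e' : Fin k → F} (he : e ≠ 0) {A : Matrix α α F} (hA : M * inc α e = inc α e' * A) :
    ∃ B, M = A ⊗ₖ B := by
  have he' : e' ≠ 0 := fun h0 => by
    have h1 := congrArg (adjP D O M * ·) hA
    simp only [← Matrix.mul_assoc, hM.1, Matrix.one_mul, h0] at h1
    have h2 : (inc α (0 : Fin k → F) : Matrix (α × Fin k) α F) = 0 := by
      rw [← zero_smul F (0 : Fin k → F), inc_smul, zero_smul]
    rw [Matrix.mul_assoc, h2, Matrix.zero_mul, Matrix.mul_zero, ← h2] at h1
    exact he (inc_left_injective h1)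
  obtain ⟨B, hB, hBe⟩ := D.exists_iso he' he
  set M' := ((1 : Matrix α α F) ⊗ₖ B) * M
  have hM' : Mov D O X M' := C.mov_base_mul hM hB
  have hA' : M' * inc α e = inc α e * A := by
    rw [Matrix.mul_assoc, hA, ← Matrix.mul_assoc, kronecker_inc, hBe, Matrix.mul_one]
  have back : ∀ (w v : Fin k → F), M' * inc α w = inc α v * A → M * inc α w = inc α (D.adj B *ᵥ v) * A := by
    intro w v h2
    have h3 := congrArg (((1 : Matrix α α F) ⊗ₖ D.adj B) * ·) h2
    simp only [M', ← Matrix.mul_assoc, ← Matrix.mul_kronecker_mul, Matrix.mul_one,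
      show D.adj B * B = 1 from hB, Matrix.one_kronecker_one, Matrix.one_mul] at h3
    rwa [kronecker_inc, Matrix.mul_one] at h3
  clear_value M'
  obtain ⟨μ, hμ, hAA, hAi, hiA⟩ := C.similitude hM' he hA'
  obtain ⟨e₁, he₁⟩ := D.nondeg he
  have hspan : ∀ z, D.f e z = 0 → ∃ c : F, z = c • e := by
    intro z hz
    subst hk
    have hJ00 : D.J 0 0 = 0 := by
      have := D.alt (Pi.single 0 1)
      simpa [Matrix.single_vecMul] using this
    have hJ11 : D.J 1 1 = 0 := by
      have := D.alt (Pi.single 1 1)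
      simpa [Matrix.single_vecMul] using this
    have hJ10 : D.J 1 0 = -D.J 0 1 := by
      have := congrFun (congrFun D.skew 0) 1
      simpa using this
    have hz' : D.J 0 1 * (e 0 * z 1 - e 1 * z 0) = 0 := by
      rw [← hz]
      simp [Factor.f, Matrix.vecMul, dotProduct, Fin.sum_univ_two, hJ00, hJ11, hJ10]
      ring
    have hJ : D.J 0 1 ≠ 0 := fun h0 => by
      have := congrFun (congrFun D.mul_inv 0) 0
      simp [Matrix.mul_apply, Fin.sum_univ_two, hJ00, h0] at this
    have hd := (mul_eq_zero.1 hz').resolve_left hJ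
    by_cases h0 : e 0 = 0
    · have h1 : e 1 ≠ 0 := fun h1 => he (funext fun i => by fin_cases i <;> assumption)
      refine ⟨z 1 / e 1, funext fun i => ?_⟩
      have hz0 : z 0 = 0 := by
        rw [h0, zero_mul, zero_sub, neg_eq_zero, mul_eq_zero] at hd
        exact hd.resolve_left h1
      fin_cases i
      · simp [h0, hz0]
      · simp [div_mul_cancel₀ _ h1]
    · refine ⟨z 0 / e 0, funext fun i => ?_⟩
      fin_cases i
      · simp [div_mul_cancel₀ _ h0]
      · simp only [Pi.smul_apply, smul_eq_mul, Fin.mk_one, Fin.isValue]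
        field_simp
        linear_combination hd
  have hout : out D α e * (M' * inc α e₁) = μ⁻¹ • A := by
    have h1 := gram hM'.1 e e₁
    rw [hA', adjR_inc_mul, he₁, one_smul, Matrix.mul_assoc] at h1
    have h2 := congrArg (fun N => μ⁻¹ • (A * N)) h1
    simp only [← Matrix.mul_assoc, hAA, Matrix.smul_mul, Matrix.one_mul, Matrix.mul_one, smul_smul,
      inv_mul_cancel₀ hμ, one_smul] at h2
    rw [← Matrix.mul_assoc]
    exact h2
  obtain ⟨v, N, hΛ⟩ := exists_eq_inc_perp D he₁ (Λ := M' * inc α e₁) (A := A) fun z hz => by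
    obtain ⟨c, rfl⟩ := hspan z hz
    exact ⟨c * μ⁻¹, by rw [out_smul, Matrix.smul_mul, hout, smul_smul]⟩
  have hA0 : A ≠ 0 := fun h0 => by rw [h0, Matrix.zero_mul] at hAi; exact zero_ne_one hAi
  have hev : D.f e v = μ⁻¹ := by
    rw [hΛ, Matrix.mul_add, ← Matrix.mul_assoc, ← Matrix.mul_assoc, out_inc, out_inc, D.f_self, zero_smul,
      Matrix.zero_mul, add_zero, Matrix.smul_mul, Matrix.one_mul] at hout
    exact smul_left_injective F hA0 hout
  have hsym : A * O.adj N = N * O.adj A := by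
    have h1 := gram hM'.1 e₁ e₁
    rw [hΛ, D.f_self, zero_smul, adjR_add, adjR_inc_mul, adjR_inc_mul] at h1
    simp only [Matrix.add_mul, Matrix.mul_add, Matrix.mul_assoc] at h1
    simp only [← Matrix.mul_assoc (out D α _) (inc α _), out_inc, D.f_self, hev, D.f_swap e v, Matrix.smul_mul,
      Matrix.one_mul, Matrix.mul_smul, Matrix.zero_mul, zero_smul, smul_zero, zero_add, add_zero, neg_smul] at h1
    have h2 : O.adj N * A = O.adj A * N := by
      have h5 := congrArg (fun N => μ • N) h1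
      simp only [Matrix.mul_zero, Matrix.neg_mul, Matrix.mul_neg, Matrix.smul_mul, Matrix.mul_smul, Matrix.one_mul,
        Matrix.zero_mul, smul_add, smul_neg, smul_smul, mul_inv_cancel₀ hμ, one_smul, smul_zero, add_zero, zero_add] at h5
      exact add_neg_eq_zero.1 h5
    have h3 := congrArg (fun N => A * N * O.adj A) h2
    simp only [Matrix.mul_assoc] at h3
    rw [hAA, ← Matrix.mul_assoc A (O.adj A) (N * _), hAA] at h3
    simp only [Matrix.mul_smul, Matrix.smul_mul, Matrix.mul_one, Matrix.one_mul] at h3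
    exact smul_right_injective _ hμ h3
  obtain ⟨c, hc⟩ : ∃ c : F, N * O.adj A = c • 1 := by
    set v' := μ • v
    have hev' : D.f e v' = 1 := by rw [D.f_smul_right, hev, mul_inv_cancel₀ hμ]
    set ψ := (s⁻¹ - s) • (N * O.adj A)
    have h := hM'.2 _ (D.iso_torus he₁ hs)
    have hI := D.iso_torus hev' hs
    have e0 : M' * ((1 : Matrix α α F) ⊗ₖ D.torus e e₁ s) * adjP D O M' =
        (1 : Matrix α α F) ⊗ₖ D.torus e v' s + ψ ⊗ₖ D.R e e := by
      have hT : ∀ (a b : Fin k → F), (1 : Matrix α α F) ⊗ₖ D.torus a b s = 1 +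
          (-(s - 1)) • ((1 : Matrix α α F) ⊗ₖ D.R a b) + (s⁻¹ - 1) • ((1 : Matrix α α F) ⊗ₖ D.R b a) := fun a b => by
        rw [Factor.torus, sub_eq_add_neg, Matrix.kronecker_add, Matrix.kronecker_add, Matrix.one_kronecker_one,
          kronecker_neg', Matrix.kronecker_smul, Matrix.kronecker_smul, neg_smul]
      rw [hT, hT]
      simp only [mul_add, add_mul, mul_one, Matrix.mul_smul, Matrix.smul_mul, move_kr, mul_eq_one_comm.1 hM'.1,
        Matrix.mul_one, hA', hΛ, adjR_add, adjR_inc_mul]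
      have k1 : inc α e * A * (O.adj A * out D α v) = (1 : Matrix α α F) ⊗ₖ D.R e v' := by
        rw [← Matrix.mul_assoc, Matrix.mul_assoc (inc α e) A, hAA, inc_out, D.R_smul_right, Matrix.kronecker_smul,
          ← Matrix.smul_kronecker]
      have k2 : inc α v * A * (O.adj A * out D α e) = (1 : Matrix α α F) ⊗ₖ D.R v' e := by
        rw [← Matrix.mul_assoc, Matrix.mul_assoc (inc α v) A, hAA, inc_out, D.R_smul_left, Matrix.kronecker_smul,
          ← Matrix.smul_kronecker]
      have k3 : inc α e * A * (O.adj N * out D α e) = (N * O.adj A) ⊗ₖ D.R e e := by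
        rw [← Matrix.mul_assoc, Matrix.mul_assoc (inc α e) A, hsym, inc_out]
      have k4 : inc α e * N * (O.adj A * out D α e) = (N * O.adj A) ⊗ₖ D.R e e := by
        rw [← Matrix.mul_assoc, Matrix.mul_assoc (inc α e) N, inc_out]
      rw [Matrix.mul_add, Matrix.add_mul, k1, k2, k3, k4]
      simp only [ψ, Matrix.smul_kronecker]
      module
    have hi : Mem X ((1 : Matrix α α F) ⊗ₖ D.adj (D.torus e v' s)) := C.base _ hI.adj_self
    have h1 := h.mul hi
    rw [e0, add_mul, ← Matrix.mul_kronecker_mul, ← Matrix.mul_kronecker_mul, hI.mul_adj, Matrix.one_mul,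
      Matrix.one_kronecker_one, Matrix.mul_one,
      show D.R e e * D.adj (D.torus e v' s) = s • D.R e e by
        rw [show D.R e e * D.adj (D.torus e v' s) = D.R e (D.torus e v' s *ᵥ e) by
          rw [Factor.R, Factor.R, Matrix.vecMulVec_mul, Matrix.vecMul_vecMul, Factor.adj, ← Matrix.mul_assoc,
            ← Matrix.mul_assoc, D.mul_inv, Matrix.one_mul, ← Matrix.vecMul_vecMul, Matrix.vecMul_transpose],
          D.torus_left hev', D.R_smul_right],
      Matrix.kronecker_smul, ← Matrix.smul_kronecker] at h1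
    obtain ⟨c, hc⟩ := C.ng e _ he h1
    have hne : s * (s⁻¹ - s) ≠ 0 := by
      rw [mul_sub, mul_inv_cancel₀ hs]
      exact sub_ne_zero.2 fun h => hs2 h.symm
    refine ⟨(s * (s⁻¹ - s))⁻¹ * c, ?_⟩
    rw [← smul_smul, ← hc, smul_smul s, smul_smul, inv_mul_cancel₀ hne, one_smul]
  have hN : N = (c / μ) • A := by
    have h2 := congrArg (· * (μ⁻¹ • A)) hc
    simp only [Matrix.mul_assoc, Matrix.mul_smul, Matrix.smul_mul, Matrix.one_mul] at h2
    have h3 : μ⁻¹ • (O.adj A * A) = 1 := by rw [← Matrix.smul_mul]; exact hiA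
    rwa [← Matrix.mul_smul, h3, Matrix.mul_one, smul_smul, ← div_eq_inv_mul] at h2
  refine C.kronecker_of_all fun w => ?_
  obtain ⟨d, hd⟩ := hspan (w - D.f e w • e₁) (by rw [D.f_sub_right, D.f_smul_right, he₁, mul_one, sub_self])
  refine ⟨d • e' + D.f e w • (D.adj B *ᵥ (v + (c / μ) • e)), ?_⟩
  have h1 : M * inc α e₁ = inc α (D.adj B *ᵥ (v + (c / μ) • e)) * A := by
    have h2 : M' * inc α e₁ = inc α (v + (c / μ) • e) * A := by
      rw [hΛ, hN, inc_smul_mul, inc_add, Matrix.add_mul]
    exact back _ _ h2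
  generalize hfw : D.f e w = r at hd ⊢
  rw [show w = d • e + r • e₁ by rw [← hd, sub_add_cancel], inc_add, inc_smul, inc_smul, Matrix.mul_add,
    Matrix.mul_smul, Matrix.mul_smul, hA, h1, inc_add, inc_smul, inc_smul, Matrix.add_mul, Matrix.smul_mul,
    Matrix.smul_mul]

/-- **An element sending a line to a line is a Kronecker product.** -/
theorem kronecker_big [Nonempty α] (hrig : Rigid O X) (hM : Mov D O X M) (hk : 3 ≤ k) {e e' : Fin k → F}
    (he : e ≠ 0) {A : Matrix α α F} (hA : M * inc α e = inc α e' * A) : ∃ B, M = A ⊗ₖ B := by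
  refine C.kronecker_of_all fun w => ?_
  obtain ⟨χ, hχ⟩ := CfsgLib.Geo.TensorLinear.exists_dual he
  obtain ⟨c, hc0, hc⟩ := CfsgLib.Geo.TensorLinear.exists_perp ![e ᵥ* D.J, χ]
    (show 2 < Fintype.card (Fin k) by rw [Fintype.card_fin]; omega)
  have hec : D.f e c = 0 := by rw [Factor.f, dotProduct_comm]; exact hc 0
  have hcs : e ∉ Submodule.span F {c} := fun hm => by
    obtain ⟨d, hd⟩ := Submodule.mem_span_singleton.1 hm
    have h1 : χ ⬝ᵥ c = 0 := by rw [dotProduct_comm]; exact hc 1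
    rw [← hd, dotProduct_smul, h1, smul_zero] at hχ
    exact zero_ne_one hχ
  obtain ⟨e₂, hce₂, hee₂⟩ := D.exists_partner hcs
  obtain ⟨c', hc'⟩ := C.line_step hrig hM he hA hec
  obtain ⟨v₁, hv₁⟩ := C.line_step hrig hM he hA (w := w - D.f e w • e₂)
    (by rw [D.f_sub_right, D.f_smul_right, hee₂, mul_one, sub_self])
  obtain ⟨v₂, hv₂⟩ := C.line_step hrig hM hc0 hc' hce₂
  refine ⟨v₁ + D.f e w • v₂, ?_⟩
  rw [inc_add, inc_smul, Matrix.add_mul, Matrix.smul_mul, ← hv₁, ← hv₂, inc_sub, inc_smul, Matrix.mul_sub,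
    Matrix.mul_smul, sub_add_cancel]

end PairCtx

end CfsgLib.HallGen.SympWreath
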