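/-
An element of the overgroup commuting with an involution of one factor is a Kronecker product.
-/
import Cfsg.Agent.Lib.HallGen.SympWreath.Line

set_option autoImplicit false
set_option linter.unusedSectionVars false

namespace CfsgLib.HallGen.SympWreath

open Matrix
open CfsgLib.Geo
open scoped Kronecker

variable {F : Type*} [Field F] {k : ℕ} {α : Type} [Fintype α] [DecidableEq α]
  {D : Factor F k} {O : Outer F α}

theorem out_kronecker (z : Fin k → F) (θ : Matrix α α F) (B : Matrix (Fin k) (Fin k) F) :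
    out D α z * (θ ⊗ₖ B) = θ * out D α (D.adj B *ᵥ z) := by
  rw [out, out, TensorLinear.con_mul_kronecker]
  congr 2
  rw [← Matrix.mulVec_transpose, ← Matrix.mulVec_transpose, ← Matrix.mulVec_transpose, Factor.adj, D.skew,
    Matrix.mulVec_mulVec, Matrix.mulVec_mulVec, Matrix.neg_mul D.J, Matrix.mul_neg, ← Matrix.mul_assoc D.J,
    ← Matrix.mul_assoc D.J, D.mul_inv, Matrix.one_mul]

namespace PairCtx

variable {X : Subgroup (GL (α × Fin k) F)} {M : Matrix (α × Fin k) (α × Fin k) F} (C : PairCtx D O X)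
include C

/-- **An element commuting with an involution of the factor sends a fixed line to a line.** -/
theorem line_of_commute [Nonempty α] (hrig : Rigid O X) (hM : Mov D O X M) {B : Matrix (Fin k) (Fin k) F}
    (hB : D.Iso B) (hBB : B * B = 1) (hB1 : B ≠ 1) {e : Fin k → F} (he : e ≠ 0) (hBe : B *ᵥ e = e)
    (hc : M * ((1 : Matrix α α F) ⊗ₖ B) = ((1 : Matrix α α F) ⊗ₖ B) * M) :
    ∃ (e' : Fin k → F) (A : Matrix α α F), M * inc α e = inc α e' * A := by
  have hadj : D.adj B = B := left_inv_eq_right_inv hB hBB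
  have hP : adjP D O ((1 : Matrix α α F) ⊗ₖ B) = (1 : Matrix α α F) ⊗ₖ B := by
    rw [adjP_kronecker, O.adj_one, hadj]
  have hfix : ∀ w, ((1 : Matrix α α F) ⊗ₖ B) * (M * inc α w) = M * inc α (B *ᵥ w) := fun w => by
    rw [← Matrix.mul_assoc, ← hc, Matrix.mul_assoc, kronecker_inc, Matrix.mul_one]
  have hout : ∀ z w, out D α z * (M * inc α (B *ᵥ w)) = out D α (B *ᵥ z) * (M * inc α w) := fun z w => by
    rw [← hfix, ← Matrix.mul_assoc, out_kronecker, hadj, Matrix.one_mul]
  have hswap : ∀ x : Fin k → F, B *ᵥ (B *ᵥ x) = x := fun x => by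
    rw [Matrix.mulVec_mulVec, hBB, Matrix.one_mulVec]
  have hperp : ∀ a d, B *ᵥ a = a → B *ᵥ d = -d → D.f a d = 0 := fun a d ha hd => by
    have h := hB.map a d
    rw [ha, hd, D.f_neg_right] at h
    have h2 : (2 : F) * D.f a d = 0 := by linear_combination -h
    exact (mul_eq_zero.1 h2).resolve_left C.two
  have hzero : ∀ z w, B *ᵥ z = -z → B *ᵥ w = w → out D α z * (M * inc α w) = 0 := fun z w hz hw => by
    have h := hout z w
    rw [hw, hz, show (out D α (-z) : Matrix α (α × Fin k) F) = -out D α z by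
      rw [← neg_one_smul F z, out_smul, neg_one_smul], Matrix.neg_mul] at h
    have h2 : (2 : F) • (out D α z * (M * inc α w)) = 0 := by
      rw [two_smul]; nth_rewrite 1 [h]; exact neg_add_cancel _
    exact (smul_eq_zero.1 h2).resolve_left C.two
  obtain ⟨x, hx⟩ : ∃ x, B *ᵥ x ≠ x := by
    by_contra! h
    exact hB1 (Matrix.toLin'.injective (LinearMap.ext fun v => by
      rw [Matrix.toLin'_apply, Matrix.toLin'_apply, h, Matrix.one_mulVec]))
  set c := x - B *ᵥ x
  have hc0 : c ≠ 0 := sub_ne_zero.2 (Ne.symm hx)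
  have hBc : B *ᵥ c = -c := by rw [Matrix.mulVec_sub, hswap, neg_sub]
  obtain ⟨Λe, hΛe⟩ : ∃ L, L = M * inc α e := ⟨_, rfl⟩
  obtain ⟨Λc, hΛc⟩ : ∃ L, L = M * inc α c := ⟨_, rfl⟩
  -- the key scalars
  have key : ∀ a d, B *ᵥ a = a → B *ᵥ d = -d →
      ∃ s : F, out D α d * Λc * O.adj (out D α a * Λe) = s • 1 := by
    intro a d ha hd
    by_cases ha0 : a = 0
    · refine ⟨0, ?_⟩
      rw [ha0, ← zero_smul F (0 : Fin k → F), out_smul, zero_smul, Matrix.zero_mul, O.adj_zero, Matrix.mul_zero,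
        zero_smul]
    by_cases hd0 : d = 0
    · refine ⟨0, ?_⟩
      rw [hd0, ← zero_smul F (0 : Fin k → F), out_smul, zero_smul, Matrix.zero_mul, Matrix.zero_mul, zero_smul]
    have had : D.f a d = 0 := hperp a d ha hd
    have hda : D.f d a = 0 := by rw [D.f_swap a d, had, neg_zero]
    set Q := out D α d * Λc
    set P := out D α a * Λe
    have hec : D.f e c = 0 := hperp e c hBe hBc
    set N := M * SH D O e c 1 * adjP D O M
    have hN : N = Λe * adjR D O Λc + Λc * adjR D O Λe := by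
      simp only [N, SH, O.adj_one, mul_add, add_mul, move_kr, Matrix.mul_one, hΛe, hΛc]
    have hNm : Mem X (1 + N) := by
      have hI : D.Iso (1 + D.R e c + D.R c e) := by
        rw [Factor.Iso, D.adj_add, D.adj_add, D.adj_one, D.adj_R, D.adj_R]
        simp [add_mul, mul_add, D.R_mul, D.f_self, hec, D.f_swap e c]
      have h2 := hM.2 _ hI
      rwa [Matrix.kronecker_add, Matrix.kronecker_add, Matrix.one_kronecker_one, add_assoc,
        show (1 : Matrix α α F) ⊗ₖ D.R e c + (1 : Matrix α α F) ⊗ₖ D.R c e = SH D O e c 1 by rw [SH, O.adj_one],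
        mul_add, mul_one, add_mul, mul_eq_one_comm.1 hM.1] at h2
    have e0 : out D α d * Λe = 0 := by rw [hΛe]; exact hzero d e hd hBe
    have e0' : adjR D O Λe * inc α d = 0 := by rw [adjR_mul_inc, e0, O.adj_zero, neg_zero]
    have eQ : adjR D O Λc * inc α d = -O.adj Q := adjR_mul_inc D O Λc d
    have hee : adjR D O Λe * Λe = 0 := by rw [hΛe, gram hM.1, D.f_self, zero_smul]
    set Y : Matrix (α × Fin k) (α × Fin k) F := inc α d * (1 : Matrix α α F) * out D α d
    have hY : Mem X (1 + Y) := by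
      have h := C.base_centre d (1 : F)
      rw [one_smul, ← inc_out] at h
      exact h
    have hYY : Y * Y = 0 := by rw [kr_inc_out, D.f_self, zero_smul]
    have h := hNm.comm_sq hY (sq_move hM.1 (SH_mul_SH hec _ _)) hYY
    set U := Λe * O.adj Q * out D α d
    set V := inc α d * Q * adjR D O Λe
    set Φ := Λe * (O.adj Q * Q) * adjR D O Λe
    have eNY : N * Y = -U := by
      rw [hN, add_mul]
      simp only [Y, Matrix.mul_one, Matrix.mul_assoc Λe, Matrix.mul_assoc Λc, ← Matrix.mul_assoc (adjR D O _) (inc α d),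
        eQ, e0', Matrix.zero_mul, Matrix.mul_zero, add_zero, Matrix.neg_mul, Matrix.mul_neg]
      simp only [U, Matrix.mul_assoc]
    have eON : out D α d * N = Q * adjR D O Λe := by
      rw [hN, Matrix.mul_add, ← Matrix.mul_assoc, ← Matrix.mul_assoc, e0, Matrix.zero_mul, zero_add]
    have eYN : Y * N = V := by
      simp only [Y, Matrix.mul_one, Matrix.mul_assoc (inc α d), Matrix.one_mul, eON, V]
    have eNYN : N * Y * N = -Φ := by
      rw [eNY, Matrix.neg_mul]
      simp only [U, Matrix.mul_assoc, eON, Φ]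
    have eYNY : Y * N * Y = 0 := by
      rw [eYN]
      simp only [V, Y, Matrix.mul_one, Matrix.mul_assoc, ← Matrix.mul_assoc (adjR D O Λe) (inc α d), e0',
        Matrix.zero_mul, Matrix.mul_zero]
    have eNYNY : N * Y * N * Y = 0 := by
      rw [eNYN]
      simp only [Φ, Y, Matrix.neg_mul, Matrix.mul_one, Matrix.mul_assoc, ← Matrix.mul_assoc (adjR D O Λe) (inc α d),
        e0', Matrix.zero_mul, Matrix.mul_zero, neg_zero]
    rw [eNYNY, eYNY, eNYN, eNY, eYN, add_zero, add_zero, sub_neg_eq_add] at h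
    set Z := -U - V
    replace h : Mem X (1 + (Z + Φ)) := by
      convert h using 1
      simp only [Z]
      abel
    have h1 := C.conj (C.base B hB) h
    have k1 : ((1 : Matrix α α F) ⊗ₖ B) * Λe = Λe := by
      rw [hΛe, hfix, hBe]
    have k2 : adjR D O Λe * ((1 : Matrix α α F) ⊗ₖ B) = adjR D O Λe := by
      conv_rhs => rw [← k1, adjR_mul, hP]
    have k3 : ((1 : Matrix α α F) ⊗ₖ B) * inc α d = -inc α d := by
      rw [kronecker_inc, Matrix.mul_one, hd, ← neg_one_smul F d, inc_smul, neg_one_smul]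
    have k4 : out D α d * ((1 : Matrix α α F) ⊗ₖ B) = -out D α d := by
      rw [out_kronecker, hadj, Matrix.one_mul, hd, ← neg_one_smul F d, out_smul, neg_one_smul]
    have hZ : ((1 : Matrix α α F) ⊗ₖ B) * (Z + Φ) * adjP D O ((1 : Matrix α α F) ⊗ₖ B) = -Z + Φ := by
      simp only [hP, Z, U, V, Φ, mul_add, add_mul, mul_sub, sub_mul, mul_neg, neg_mul,
        ← Matrix.mul_assoc ((1 : Matrix α α F) ⊗ₖ B), k1, k3, Matrix.neg_mul]
      simp only [Matrix.mul_assoc _ (adjR D O Λe) ((1 : Matrix α α F) ⊗ₖ B),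
        Matrix.mul_assoc _ (out D α d) ((1 : Matrix α α F) ⊗ₖ B), k2, k4, Matrix.mul_neg]
      abel
    rw [hZ] at h1
    have q1 : out D α d * Λe = 0 := e0
    have q2 : out D α d * inc α d = (0 : Matrix α α F) := by rw [out_inc, D.f_self, zero_smul]
    have hkill : Z * Z = 0 ∧ Z * Φ = 0 ∧ Φ * Z = 0 ∧ Φ * Φ = 0 := by
      refine ⟨?_, ?_, ?_, ?_⟩ <;>
      simp only [Z, U, V, Φ, mul_sub, sub_mul, mul_neg, neg_mul, Matrix.mul_assoc,
        ← Matrix.mul_assoc (out D α d) Λe, ← Matrix.mul_assoc (adjR D O Λe) Λe,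
        ← Matrix.mul_assoc (out D α d) (inc α d), ← Matrix.mul_assoc (adjR D O Λe) (inc α d),
        q1, q2, hee, e0', Matrix.zero_mul, Matrix.mul_zero, neg_zero, sub_zero]
    obtain ⟨z1, z2, z3, z4⟩ := hkill
    have h2 := h.mul (h1.left_inv (M' := 1 + (Z + -Φ)) (by
      simp only [mul_add, add_mul, mul_neg, neg_mul, mul_one, one_mul, z1, z2, z3, z4, neg_zero, add_zero]
      abel))
    replace h2 : Mem X (1 + (Z + Z)) := by
      convert h2 using 1
      simp only [mul_add, add_mul, mul_neg, neg_mul, mul_one, one_mul, z1, z2, z3, z4, neg_zero, add_zero]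
      abel
    set W := Z + Z
    set Y2 : Matrix (α × Fin k) (α × Fin k) F := inc α a * (1 : Matrix α α F) * out D α a
    have hY2 : Mem X (1 + Y2) := by
      have h := C.base_centre a (1 : F)
      rw [one_smul, ← inc_out] at h
      exact h
    have h3 := h2.comm_sq hY2 (by simp only [W, mul_add, add_mul, z1, add_zero])
      (by rw [kr_inc_out, D.f_self, zero_smul])
    have r1 : adjR D O Λe * inc α a = -O.adj P := adjR_mul_inc D O Λe a
    have r2 : out D α d * inc α a = (0 : Matrix α α F) := by rw [out_inc, hda, zero_smul]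
    have r3 : out D α a * inc α d = (0 : Matrix α α F) := by rw [out_inc, had, zero_smul]
    have eZY : Z * Y2 = (Q * O.adj P) ⊗ₖ D.R d a := by
      simp only [Z, U, V, Y2, sub_mul, neg_mul, Matrix.mul_one, Matrix.one_mul, Matrix.mul_assoc,
        ← Matrix.mul_assoc (out D α d) (inc α a), ← Matrix.mul_assoc (adjR D O Λe) (inc α a), r1, r2,
        Matrix.zero_mul, Matrix.mul_zero, neg_zero, Matrix.neg_mul, Matrix.mul_neg, zero_sub, neg_neg, ← inc_out]
    have eYZ : Y2 * Z = -((P * O.adj Q) ⊗ₖ D.R a d) := by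
      simp only [Z, U, V, Y2, mul_sub, mul_neg, Matrix.mul_one, Matrix.one_mul, Matrix.mul_assoc,
        ← Matrix.mul_assoc (out D α a) (inc α d), r3, Matrix.zero_mul, Matrix.mul_zero, neg_zero, sub_zero,
        ← inc_out, P]
    have eWY : W * Y2 = ((2 : F) • (Q * O.adj P)) ⊗ₖ D.R d a := by
      simp only [W, add_mul, eZY, two_smul, Matrix.add_kronecker]
    have eYW : Y2 * W = -(((2 : F) • (P * O.adj Q)) ⊗ₖ D.R a d) := by
      simp only [W, mul_add, eYZ, two_smul, Matrix.add_kronecker, neg_add]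
    have eWYW : W * Y2 * W = -(((2 : F) • (Q * O.adj P) * ((2 : F) • (P * O.adj Q))) ⊗ₖ D.R d d) := by
      have e : out D α a * W = -(((2 : F) • (P * O.adj Q)) * out D α d) := by
        simp only [W, Z, U, V, Matrix.mul_add, Matrix.mul_sub, Matrix.mul_neg, ← Matrix.mul_assoc, r3,
          Matrix.zero_mul, sub_zero, P, two_smul, Matrix.add_mul, neg_add]
      rw [eWY, ← inc_out, ← inc_out, Matrix.mul_assoc, e, Matrix.mul_neg]
      simp only [Matrix.mul_assoc]
    have eYWY : Y2 * W * Y2 = 0 := by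
      rw [eYW]
      simp only [Y2, inc_out, neg_mul, kr_mul, hda, zero_smul, neg_zero]
    have eWYWY : W * Y2 * W * Y2 = 0 := by
      rw [eWYW]
      simp only [Y2, inc_out, neg_mul, kr_mul, hda, zero_smul, neg_zero]
    rw [eWYWY, eYWY, eWYW, eWY, eYW, add_zero, add_zero, sub_neg_eq_add, sub_neg_eq_add] at h3
    have hsp : a ∉ Submodule.span F {d} := fun hm => by
      obtain ⟨s, hs⟩ := Submodule.mem_span_singleton.1 hm
      have h4 := ha
      rw [← hs, Matrix.mulVec_smul, hd, smul_neg] at h4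
      have h5 : (2 : F) • (s • d) = 0 := by rw [two_smul]; nth_rewrite 1 [← h4]; exact neg_add_cancel _
      exact ha0 (by rw [← hs]; exact (smul_eq_zero.1 h5).resolve_left C.two)
    obtain ⟨a', hda', haa'⟩ := D.exists_partner hsp
    obtain ⟨s, hs⟩ := C.short_scalar hrig hd0 hda hda' haa' (θ := (2 : F) • (Q * O.adj P))
      (φ := ((2 : F) • (Q * O.adj P)) * ((2 : F) • (P * O.adj Q))) (by
      rw [SH, O.adj_smul, O.adj_mul, O.adj_adj, ← add_assoc, ← add_assoc]
      exact h3)
    exact ⟨s / 2, by rw [div_eq_inv_mul, ← smul_smul, ← hs, smul_smul, inv_mul_cancel₀ C.two, one_smul]⟩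
  -- reduction of arbitrary vectors
  have hplus : ∀ w, B *ᵥ (w + B *ᵥ w) = w + B *ᵥ w := fun w => by rw [Matrix.mulVec_add, hswap, add_comm]
  have hminus : ∀ w, B *ᵥ (w - B *ᵥ w) = -(w - B *ᵥ w) := fun w => by rw [Matrix.mulVec_sub, hswap, neg_sub]
  have hPe : ∀ w, out D α (w + B *ᵥ w) * Λe = (2 : F) • (out D α w * Λe) := fun w => by
    rw [out_add, Matrix.add_mul, two_smul]
    congr 1
    rw [hΛe, ← hout, hBe]
  have hQc : ∀ z, out D α (z - B *ᵥ z) * Λc = (2 : F) • (out D α z * Λc) := fun z => by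
    rw [out_sub, Matrix.sub_mul, two_smul, sub_eq_add_neg]
    congr 1
    rw [hΛc, ← hout, hBc, ← neg_one_smul F c, inc_smul, neg_one_smul, Matrix.mul_neg, Matrix.mul_neg, neg_neg]
  have key' : ∀ z w, ∃ s : F, out D α z * Λc * O.adj (out D α w * Λe) = s • 1 := fun z w => by
    obtain ⟨s, hs⟩ := key _ _ (hplus w) (hminus z)
    rw [hQc, hPe, O.adj_smul, Matrix.smul_mul, Matrix.mul_smul, smul_smul] at hs
    refine ⟨(2 * 2 : F)⁻¹ * s, ?_⟩
    rw [← smul_smul, ← hs, smul_smul, inv_mul_cancel₀ (mul_ne_zero C.two C.two), one_smul]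
  choose s hs using key'
  obtain ⟨z₀, w₀, hne⟩ : ∃ z w, s z w ≠ 0 := by
    by_contra! h
    have h1 : ∀ w, Λc * O.adj (out D α w * Λe) = 0 := fun w => ext_out D fun z => by
      rw [← Matrix.mul_assoc, hs, h, zero_smul, Matrix.mul_zero]
    obtain ⟨c', hc'⟩ := D.nondeg hc0
    have h2 : ∀ w, out D α w * Λe = 0 := fun w => by
      have h3 := congrArg (fun N => out D α c' * (adjP D O M * N)) (h1 w)
      simp only [hΛc, Matrix.mul_zero, ← Matrix.mul_assoc (adjP D O M), hM.1, Matrix.one_mul,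
        ← Matrix.mul_assoc (out D α c'), out_inc, D.f_swap c c', hc', Matrix.smul_mul, neg_one_smul, neg_mul, Matrix.neg_mul, Matrix.one_mul, neg_eq_zero] at h3
      rw [← O.adj_adj (out D α w * Λe), h3, O.adj_zero]
    have h4 : Λe = 0 := ext_out D fun w => by rw [h2, Matrix.mul_zero]
    have h5 := congrArg (adjP D O M * ·) h4
    simp only [hΛe, ← Matrix.mul_assoc, hM.1, Matrix.one_mul, Matrix.mul_zero] at h5
    refine he (inc_left_injective (α := α) ?_)
    rw [h5, ← zero_smul F (0 : Fin k → F), inc_smul, zero_smul]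
  set P₀ := out D α w₀ * Λe
  set Q₀ := out D α z₀ * Λc
  have hinv : ((s z₀ w₀)⁻¹ • Q₀) * O.adj P₀ = 1 := by
    rw [Matrix.smul_mul, hs, smul_smul, inv_mul_cancel₀ hne, one_smul]
  have hinv' := mul_eq_one_comm.1 hinv
  obtain ⟨e', he'⟩ := exists_eq_inc D (Λ := Λe) (A := P₀) fun w => by
    refine ⟨(s z₀ w₀)⁻¹ * s z₀ w, ?_⟩
    rw [← O.adj_adj (out D α w * Λe), ← O.adj_adj P₀, ← O.adj_smul]
    congr 1
    calc O.adj (out D α w * Λe) = O.adj P₀ * (((s z₀ w₀)⁻¹ • Q₀) * O.adj (out D α w * Λe)) := by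
          rw [← Matrix.mul_assoc, hinv', Matrix.one_mul]
      _ = _ := by rw [Matrix.smul_mul, hs, smul_smul, Matrix.mul_smul, Matrix.mul_one]
  exact ⟨e', P₀, by rw [← hΛe]; exact he'⟩

end PairCtx

end CfsgLib.HallGen.SympWreath
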