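/-
Tensor powers of a symplectic factor: adjoints, the standing hypotheses, and their passage to fewer factors.
-/
import Cfsg.Agent.Lib.HallGen.SympWreath.Centraliser
import Cfsg.Agent.Lib.Geo.TensorWreath.Ctx
import Cfsg.Agent.Lib.Geo.TensorWreath.Fac

set_option autoImplicit false
set_option linter.unusedSectionVars false
set_option maxHeartbeats 400000

namespace CfsgLib.HallGen.SympWreath

open Matrix CfsgLib.Geo CfsgLib.Geo.SpinTensor CfsgLib.Geo.TensorWreath
open scoped Kronecker

variable {F : Type*} [Field F] {k t : ℕ}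

theorem pure_neg (gs : Fin t → Matrix (Fin k) (Fin k) F) :
    SpinTensor.pure (fun l => -gs l) = (-1 : F) ^ t • SpinTensor.pure gs := by
  ext a b
  simp [pure_apply, Finset.prod_neg]

/-- The Gram matrix of the tensor power. -/
def outerT (D : Factor F k) (t : ℕ) : Outer F (Fin t → Fin k) where
  G := SpinTensor.pure fun _ => D.J
  Gi := SpinTensor.pure fun _ => D.Ji
  σ := (-1) ^ t
  sign := by rw [← mul_pow]; simp
  symm := by rw [pure_transpose]; simp only [D.skew]; exact pure_neg _
  mul_inv := by rw [pure_mul]; simp only [D.mul_inv]; exact pure_one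
  inv_mul := by rw [pure_mul]; simp only [D.inv_mul]; exact pure_one

/-- The adjoint on the tensor power. -/
abbrev adjV (D : Factor F k) (M : Matrix (Fin t → Fin k) (Fin t → Fin k) F) :
    Matrix (Fin t → Fin k) (Fin t → Fin k) F := (outerT D t).adj M

variable {D : Factor F k}

theorem adjV_pure (gs : Fin t → Matrix (Fin k) (Fin k) F) :
    adjV D (SpinTensor.pure gs) = SpinTensor.pure fun l => D.adj (gs l) := by
  show SpinTensor.pure _ * _ * SpinTensor.pure _ = _
  rw [pure_transpose, pure_mul, pure_mul]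
  rfl

theorem adjV_emb (i : Fin t) (B : Matrix (Fin k) (Fin k) F) :
    adjV D (SpinTensor.emb i B) = SpinTensor.emb i (D.adj B) := by
  show adjV D (SpinTensor.pure _) = SpinTensor.pure _
  rw [adjV_pure]
  congr 1
  funext l
  by_cases hl : l = i
  · subst hl; simp
  · simp [Function.update_of_ne hl, D.adj_one]

theorem adjV_perm (π : Equiv.Perm (Fin t)) : adjV D (perm (F := F) (J := Fin k) π) = perm π⁻¹ := by
  have h : (perm (F := F) (J := Fin k) π)ᵀ = perm π⁻¹ := by
    ext a b
    show (if a = b ∘ π then (1 : F) else 0) = if b = a ∘ ⇑π⁻¹ then 1 else 0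
    congr 1
    refine propext ⟨fun e => ?_, fun e => ?_⟩
    · rw [e]; funext x; simp
    · rw [e]; funext x; simp
  show SpinTensor.pure _ * _ * SpinTensor.pure _ = _
  rw [h, mul_assoc, perm_mul_pure, ← mul_assoc, pure_mul]
  simp only [D.inv_mul]
  rw [pure_one, one_mul]

/-! ### Splitting -/

theorem eq_of_sub (i : Fin (t + 1)) {M N : Matrix (Fin (t + 1) → Fin k) (Fin (t + 1) → Fin k) F}
    (h : M.submatrix (sp i) (sp i) = N.submatrix (sp i) (sp i)) : M = N :=
  (Matrix.reindex (sp i).symm (sp i).symm).injective h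

theorem sub_mul_sub (i : Fin (t + 1)) (M N : Matrix (Fin (t + 1) → Fin k) (Fin (t + 1) → Fin k) F) :
    (M * N).submatrix (sp i) (sp i) = M.submatrix (sp i) (sp i) * N.submatrix (sp i) (sp i) :=
  (Matrix.submatrix_mul_equiv M N _ _ _).symm

theorem sub_one (i : Fin (t + 1)) :
    (1 : Matrix (Fin (t + 1) → Fin k) (Fin (t + 1) → Fin k) F).submatrix (sp i) (sp i) = 1 :=
  Matrix.submatrix_one_equiv _

theorem adjP_sub (i : Fin (t + 1)) (M : Matrix (Fin (t + 1) → Fin k) (Fin (t + 1) → Fin k) F) :
    adjP D (outerT D t) (M.submatrix (sp i) (sp i)) = (adjV D M).submatrix (sp i) (sp i) := by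
  show _ = (SpinTensor.pure _ * Mᵀ * SpinTensor.pure _).submatrix _ _
  rw [sub_mul_sub, sub_mul_sub, sub_pure, sub_pure, adjP, Matrix.transpose_submatrix]
  rfl

/-- A matrix on the other factors, seen on all factors. -/
def upM (i : Fin (t + 1)) :
    Matrix (Fin t → Fin k) (Fin t → Fin k) F →ₐ[F] Matrix (Fin (t + 1) → Fin k) (Fin (t + 1) → Fin k) F where
  toFun A := (A ⊗ₖ (1 : Matrix (Fin k) (Fin k) F)).submatrix (sp i).symm (sp i).symm
  map_one' := by rw [Matrix.one_kronecker_one, Matrix.submatrix_one_equiv]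
  map_mul' A B := by rw [Matrix.submatrix_mul_equiv, ← Matrix.mul_kronecker_mul, mul_one]
  map_zero' := by rw [Matrix.zero_kronecker]; rfl
  map_add' A B := by rw [Matrix.add_kronecker]; rfl
  commutes' c := by
    rw [Algebra.algebraMap_eq_smul_one, Algebra.algebraMap_eq_smul_one, Matrix.smul_kronecker,
      Matrix.one_kronecker_one]
    ext a b
    simp [Matrix.one_apply, (sp i).symm.injective.eq_iff]

theorem sub_upM (i : Fin (t + 1)) (A : Matrix (Fin t → Fin k) (Fin t → Fin k) F) :
    (upM i A).submatrix (sp i) (sp i) = A ⊗ₖ (1 : Matrix (Fin k) (Fin k) F) := by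
  show ((A ⊗ₖ (1 : Matrix (Fin k) (Fin k) F)).submatrix _ _).submatrix _ _ = _
  rw [Matrix.submatrix_submatrix]
  simp

theorem sub_upM_mul_emb (i : Fin (t + 1)) (φ : Matrix (Fin t → Fin k) (Fin t → Fin k) F)
    (B : Matrix (Fin k) (Fin k) F) :
    (upM i φ * SpinTensor.emb i B).submatrix (sp i) (sp i) = φ ⊗ₖ B := by
  rw [sub_mul_sub, sub_upM, sub_emb, ← Matrix.mul_kronecker_mul, mul_one, one_mul]

theorem upM_emb (i : Fin (t + 1)) (j : Fin t) (B : Matrix (Fin k) (Fin k) F) :
    upM i (SpinTensor.emb j B) = SpinTensor.emb (i.succAbove j) B :=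
  eq_of_sub i (by rw [sub_upM, sub_emb_succAbove])

theorem upM_comm (i : Fin (t + 1)) (A : Matrix (Fin t → Fin k) (Fin t → Fin k) F)
    (B : Matrix (Fin k) (Fin k) F) : Commute (upM i A) (SpinTensor.emb i B) :=
  eq_of_sub i (by
    rw [sub_mul_sub, sub_mul_sub, sub_upM, sub_emb, ← Matrix.mul_kronecker_mul, ← Matrix.mul_kronecker_mul, mul_one,
      one_mul, mul_one, one_mul])

theorem upM_injective [NeZero k] (i : Fin (t + 1)) : Function.Injective (upM (F := F) (k := k) i) := by
  intro A B h
  have h1 := congrArg (fun M : Matrix (Fin (t + 1) → Fin k) (Fin (t + 1) → Fin k) F => M.submatrix (sp i) (sp i)) h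
  simp only [sub_upM] at h1
  ext a b
  simpa using congrFun (congrFun h1 (a, 0)) (b, 0)

theorem adjV_upM (i : Fin (t + 1)) (A : Matrix (Fin t → Fin k) (Fin t → Fin k) F) :
    adjV D (upM i A) = upM i (adjV D A) :=
  eq_of_sub i (by rw [← adjP_sub, sub_upM, sub_upM, adjP_kronecker, D.adj_one])

/-- An element on the other factors, as a unit. -/
def upGL (i : Fin (t + 1)) : GL (Fin t → Fin k) F →* GL (Fin (t + 1) → Fin k) F :=
  Units.map (upM (F := F) (k := k) i).toMonoidHom

theorem upGL_val (i : Fin (t + 1)) (A : GL (Fin t → Fin k) F) :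
    (upGL i A : Matrix (Fin (t + 1) → Fin k) (Fin (t + 1) → Fin k) F) =
      upM i (A : Matrix (Fin t → Fin k) (Fin t → Fin k) F) := rfl

theorem upGL_std (i : Fin (t + 1)) (gs : Fin t → GL (Fin k) F) (π : Equiv.Perm (Fin t)) :
    upGL i (pureGL gs * permGL k F π) = pureGL (i.insertNth 1 gs) * permGL k F (extPerm i π) := by
  refine (spGL i).injective (Units.ext ?_)
  rw [spGL_val, upGL_val, sub_upM]
  refine Eq.trans ?_ (spGL_kronecker_mul (spGL_pureGL i _) (spGL_permGL i π)).symm
  simp [pureGL, permGL]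

/-! ### The standing hypotheses -/

variable (D) in
/-- The standing hypotheses on an overgroup of the tensor-wreath group. -/
structure Hyp (X : Subgroup (GL (Fin t → Fin k) F)) : Prop where
  two : (2 : F) ≠ 0
  iso : ∀ x ∈ X, adjV D (x : Matrix (Fin t → Fin k) (Fin t → Fin k) F) *
    (x : Matrix (Fin t → Fin k) (Fin t → Fin k) F) = 1
  base : ∀ (i : Fin t) (B : Matrix (Fin k) (Fin k) F), D.Iso B → Mem X (SpinTensor.emb i B)
  lift : 3 ≤ t → ∀ (gs : Fin t → GL (Fin k) F) (π : Equiv.Perm (Fin t)) (l : Fin t), π l = l → gs l = 1 →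
    adjV D ((pureGL gs * permGL k F π : GL (Fin t → Fin k) F) : Matrix (Fin t → Fin k) (Fin t → Fin k) F) *
      ((pureGL gs * permGL k F π : GL (Fin t → Fin k) F) : Matrix (Fin t → Fin k) (Fin t → Fin k) F) = 1 →
    pureGL gs * permGL k F π ∈ X

variable (D) in
/-- The central maps of one factor are scalars. -/
def NG (X : Subgroup (GL (Fin t → Fin k) F)) : Prop :=
  ∀ (i : Fin t) (e : Fin k → F) (Φ : Matrix (Fin t → Fin k) (Fin t → Fin k) F), e ≠ 0 →
    (∀ B : Matrix (Fin k) (Fin k) F, Commute Φ (SpinTensor.emb i B)) → Mem X (1 + Φ * SpinTensor.emb i (D.R e e)) →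
    ∃ c : F, Φ * SpinTensor.emb i (D.R e e) = c • SpinTensor.emb i (D.R e e)

theorem mem_map_sub {X : Subgroup (GL (Fin (t + 1) → Fin k) F)} (i : Fin (t + 1))
    {M : Matrix (Fin (t + 1) → Fin k) (Fin (t + 1) → Fin k) F} :
    Mem (X.map (spGL i).toMonoidHom) (M.submatrix (sp i) (sp i)) ↔ Mem X M := by
  constructor
  · rintro ⟨-, ⟨g, hg, rfl⟩, e⟩
    exact ⟨g, hg, eq_of_sub i e⟩
  · rintro ⟨g, hg, rfl⟩
    exact ⟨spGL i g, Subgroup.mem_map_of_mem _ hg, rfl⟩

namespace Hyp

variable {X : Subgroup (GL (Fin (t + 1) → Fin k) F)} (H : Hyp D X)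
include H

theorem comap (i : Fin (t + 1)) [NeZero k] : Hyp D (X.comap (upGL i)) where
  two := H.two
  iso A hA := upM_injective i (by
    rw [map_mul, ← adjV_upM, map_one]
    have h := H.iso _ (Subgroup.mem_comap.1 hA)
    rw [upGL_val] at h
    exact h)
  base j B hB := by
    obtain ⟨g, hg, eg⟩ := H.base (i.succAbove j) B hB
    set u : GL (Fin k) F := ⟨B, D.adj B, hB.mul_adj, hB⟩
    refine ⟨fac j u, ?_, by rw [val_fac]⟩
    show upGL i (fac j u) ∈ X
    rw [show upGL i (fac j u) = g from Units.ext (by rw [upGL_val, val_fac, upM_emb, eg])]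
    exact hg
  lift ht gs π l hl hgl hiso := by
    show upGL i (pureGL gs * permGL k F π) ∈ X
    rw [upGL_std]
    refine H.lift (by omega) _ _ (i.succAbove l) (by rw [extPerm_succAbove, hl]) (by simp [hgl]) ?_
    rw [← upGL_std, upGL_val, adjV_upM, ← map_mul, hiso, map_one]

theorem ng_comap (i : Fin (t + 1)) [NeZero k] (hX : NG D X) : NG D (X.comap (upGL i)) := by
  intro j e Φ he hΦ hm
  obtain ⟨A, hA, eA⟩ := hm
  obtain ⟨c, hc⟩ := hX (i.succAbove j) e (upM i Φ) he
    (fun B => by rw [← upM_emb]; exact (hΦ B).map (upM i))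
    ⟨upGL i A, hA, by rw [upGL_val, eA, map_add, map_one, map_mul, upM_emb]⟩
  exact ⟨c, upM_injective i (by rw [map_mul, map_smul, upM_emb, hc])⟩

/-- The hypotheses at one factor. -/
theorem pairCtx (hX : NG D X) (i : Fin (t + 1)) :
    PairCtx D (outerT D t) (X.map (spGL i).toMonoidHom) where
  two := H.two
  iso := by
    rintro - ⟨g, hg, rfl⟩
    rw [MulEquiv.coe_toMonoidHom, spGL_val, adjP_sub, ← sub_mul_sub, H.iso g hg, sub_one]
  base B hB := by
    rw [← sub_emb i]
    exact (mem_map_sub i).2 (H.base i B hB)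
  ng e φ he hm := by
    rw [← sub_upM_mul_emb i φ (D.R e e), ← sub_one i,
      ← show ∀ M N : Matrix (Fin (t + 1) → Fin k) (Fin (t + 1) → Fin k) F,
        (M + N).submatrix (sp i) (sp i) = M.submatrix (sp i) (sp i) + N.submatrix (sp i) (sp i) from
          fun _ _ => rfl] at hm
    obtain ⟨c, hc⟩ := hX i e (upM i φ) he (upM_comm i φ) ((mem_map_sub i).1 hm)
    refine ⟨c, coeff_injective (D := D) he he ?_⟩
    have h1 := congrArg (fun M : Matrix (Fin (t + 1) → Fin k) (Fin (t + 1) → Fin k) F =>
      M.submatrix (sp i) (sp i)) hc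
    simp only [sub_upM_mul_emb] at h1
    rw [h1, Matrix.smul_kronecker, ← sub_emb i]
    rfl

end Hyp

/-! ### Generation -/

/-- A space of matrices containing the identity and stable under all squares is everything. -/
theorem mem_of_closed {S : Submodule F (Matrix (Fin t → Fin k) (Fin t → Fin k) F)} (h1 : 1 ∈ S)
    (h : ∀ (l : Fin t) (x : Fin k → F), ∀ M ∈ S, SpinTensor.emb l (D.R x x) * M ∈ S)
    (M : Matrix (Fin t → Fin k) (Fin t → Fin k) F) : M ∈ S := by
  classical
  have hall : ∀ (l : Fin t) (B : Matrix (Fin k) (Fin k) F), ∀ N ∈ S, SpinTensor.emb l B * N ∈ S := by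
    intro l B N hN
    have hxy : ∀ x y, D.f x y ≠ 0 → SpinTensor.emb l (D.R x y) * N ∈ S := by
      intro x y hf
      have h2 := S.smul_mem (D.f x y)⁻¹ (h l x _ (h l y N hN))
      rwa [← mul_assoc, emb_mul_emb, D.R_mul, map_smul, smul_mul_assoc, smul_smul, inv_mul_cancel₀ hf, one_smul]
        at h2
    have hR : ∀ x y, SpinTensor.emb l (D.R x y) * N ∈ S := by
      intro x y
      by_cases hy : y = 0
      · subst hy
        rw [show D.R x 0 = 0 by simp [Factor.R], map_zero, zero_mul]
        exact S.zero_mem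
      by_cases hf : D.f x y = 0
      · obtain ⟨z, hz⟩ := D.nondeg hy
        have hz' : D.f z y ≠ 0 := by rw [D.f_swap y z, hz]; exact neg_ne_zero.2 one_ne_zero
        rw [show x = (x + z) - z by simp, show D.R (x + z - z) y = D.R (x + z) y - D.R z y by
          rw [eq_sub_iff_add_eq, ← D.R_add_left, sub_add_cancel], map_sub, sub_mul]
        exact S.sub_mem (hxy _ _ (by rwa [D.f_add_left, hf, zero_add])) (hxy _ _ hz')
      · exact hxy x y hf
    rw [Matrix.matrix_eq_sum_single B, map_sum, Finset.sum_mul]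
    refine S.sum_mem fun p _ => ?_
    rw [map_sum, Finset.sum_mul]
    refine S.sum_mem fun q _ => ?_
    obtain ⟨y, hy⟩ : ∃ y, y ᵥ* D.J = Pi.single q (B p q) :=
      ⟨Pi.single q (B p q) ᵥ* D.Ji, by rw [Matrix.vecMul_vecMul, D.inv_mul, Matrix.vecMul_one]⟩
    have h2 := hR (Pi.single p 1) y
    rw [Factor.R, hy] at h2
    have hs : Matrix.single p q (B p q) = Matrix.vecMulVec (Pi.single p (1 : F)) (Pi.single q (B p q)) := by
      ext a b
      rw [Matrix.vecMulVec_apply, Matrix.single_apply, Pi.single_apply, Pi.single_apply]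
      by_cases h1 : a = p
      · by_cases h2 : b = q
        · rw [if_pos h1, if_pos h2, if_pos ⟨h1.symm, h2.symm⟩, one_mul]
        · rw [if_neg h2, if_neg fun h => h2 h.2.symm, mul_zero]
      · rw [if_neg h1, if_neg fun h => h1 h.1.symm, zero_mul]
    rw [hs]
    exact h2
  have key : ∀ (s : Finset (Fin t)) (g : Fin t → Matrix (Fin k) (Fin k) F),
      (∀ l ∉ s, g l = 1) → SpinTensor.pure g ∈ S := by
    intro s
    induction s using Finset.induction with
    | empty =>
      intro g hg
      rw [show g = fun _ => 1 from funext fun l => hg l (Finset.notMem_empty l), pure_one]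
      exact h1
    | @insert a s ha ih =>
      intro g hg
      have e : SpinTensor.pure g = SpinTensor.emb a (g a) * SpinTensor.pure (Function.update g a 1) := by
        show _ = SpinTensor.pure _ * _
        rw [pure_mul]
        congr 1
        funext l
        by_cases hl : l = a
        · subst hl; simp
        · simp [Function.update_of_ne hl]
      rw [e]
      refine hall a _ _ (ih _ fun l hl => ?_)
      by_cases hla : l = a
      · subst hla; simp
      · rw [Function.update_of_ne hla]; exact hg l (by simp [hla, hl])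
  rw [Matrix.matrix_eq_sum_single M]
  refine S.sum_mem fun a _ => S.sum_mem fun b _ => ?_
  have e : Matrix.single a b (M a b) = M a b • SpinTensor.pure fun l => Matrix.single (a l) (b l) (1 : F) := by
    ext x y
    simp only [pure_apply, Matrix.single_apply, Matrix.smul_apply, smul_eq_mul]
    by_cases hxy : a = x ∧ b = y
    · rw [if_pos hxy, Finset.prod_eq_one, mul_one]
      intro l _
      rw [if_pos ⟨congrFun hxy.1 l, congrFun hxy.2 l⟩]
    · rw [if_neg hxy]
      obtain ⟨l, hl⟩ : ∃ l, ¬(a l = x l ∧ b l = y l) := by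
        by_contra! hc
        exact hxy ⟨funext fun l => (hc l).1, funext fun l => (hc l).2⟩
      rw [Finset.prod_eq_zero (Finset.mem_univ l) (if_neg hl), mul_zero]
  rw [e]
  exact S.smul_mem _ (key Finset.univ _ fun l hl => absurd (Finset.mem_univ l) hl)

end CfsgLib.HallGen.SympWreath
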