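/-
Skew invariant spaces of the complementary factors have no scalar anticommutators.
-/
import Cfsg.Agent.Lib.HallGen.SympWreath.Wreath

set_option autoImplicit false
set_option linter.unusedSectionVars false
set_option maxHeartbeats 400000

namespace CfsgLib.HallGen.SympWreath

open Matrix CfsgLib.Geo CfsgLib.Geo.SpinTensor CfsgLib.Geo.TensorWreath
open scoped Kronecker

variable {F : Type*} [Field F] {k t : ℕ} {D : Factor F k}

theorem emb_inj [NeZero k] (i : Fin t) : Function.Injective (SpinTensor.emb (F := F) (J := Fin k) i) := by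
  intro A B h
  ext a b
  have := congrFun (congrFun h (Function.update (fun _ => 0) i a)) (Function.update (fun _ => 0) i b)
  rw [emb_apply, emb_apply, if_pos (fun j hj => by simp [Function.update_of_ne hj]),
    if_pos (fun j hj => by simp [Function.update_of_ne hj])] at this
  simpa using this

theorem emb_comm_ne' {i j : Fin t} (h : i ≠ j) (A B : Matrix (Fin k) (Fin k) F) :
    Commute (SpinTensor.emb i A) (SpinTensor.emb j B) := by
  show SpinTensor.pure _ * SpinTensor.pure _ = SpinTensor.pure _ * SpinTensor.pure _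
  rw [pure_mul, pure_mul]
  congr 1
  funext l
  by_cases hl : l = i
  · subst hl; simp [Function.update_of_ne h]
  · simp [Function.update_of_ne hl]

/-- The squares of one factor square to zero. -/
theorem embR_sq (l : Fin t) (e : Fin k → F) :
    SpinTensor.emb l (D.R e e) * SpinTensor.emb l (D.R e e) = 0 := by
  rw [emb_mul_emb, D.R_mul, D.f_self, zero_smul, map_zero]

theorem adjV_embR (l : Fin t) (e : Fin k → F) :
    adjV D (SpinTensor.emb l (D.R e e)) = -SpinTensor.emb l (D.R e e) := by
  rw [adjV_emb, D.adj_R, map_neg]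

theorem pvec_update (ξ : Fin t → Fin k → F) (l : Fin t) (a : Fin k → F) (c : Fin t → Fin k) :
    pvec (Function.update ξ l a) c = a (c l) * ∏ j ∈ Finset.univ.erase l, ξ j (c j) := by
  rw [pvec, ← Finset.mul_prod_erase _ _ (Finset.mem_univ l), Function.update_self]
  congr 1
  exact Finset.prod_congr rfl fun j hj => by rw [Function.update_of_ne (Finset.mem_erase.1 hj).1]

theorem pvec_update_add (ξ : Fin t → Fin k → F) (l : Fin t) (a b : Fin k → F) :
    pvec (Function.update ξ l (a + b)) = pvec (Function.update ξ l a) + pvec (Function.update ξ l b) := by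
  funext c
  rw [Pi.add_apply, pvec_update, pvec_update, pvec_update, Pi.add_apply, add_mul]

theorem embR_pvec (ξ : Fin t → Fin k → F) (l : Fin t) (x y : Fin k → F) :
    SpinTensor.emb l (D.R x x) *ᵥ pvec (Function.update ξ l y) = pvec (Function.update ξ l (D.f x y • x)) := by
  show SpinTensor.pure _ *ᵥ _ = _
  rw [pure_mulVec]
  congr 1
  funext j
  by_cases hj : j = l
  · subst hj; simp [D.R_mulVec]
  · simp [Function.update_of_ne hj]

/-- A skew matrix killed by every square on both sides of every factor vanishes. -/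
theorem eq_zero_of_alternating (h2 : (2 : F) ≠ 0) {θ : Matrix (Fin t → Fin k) (Fin t → Fin k) F}
    (hθ : adjV D θ = -θ)
    (h : ∀ (l : Fin t) (e : Fin k → F), SpinTensor.emb l (D.R e e) * θ * SpinTensor.emb l (D.R e e) = 0) : θ = 0 := by
  classical
  set G := (outerT D t).G
  set σ := (outerT D t).σ
  let β : (Fin t → Fin k → F) → (Fin t → Fin k → F) → F := fun ξ η => pvec ξ ⬝ᵥ ((G * θ) *ᵥ pvec η)
  have halt : ∀ ξ η l x, β (Function.update ξ l x) (Function.update η l x) = 0 := by
    intro ξ η l x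
    by_cases hx : x = 0
    · subst hx
      have h0 : pvec (Function.update ξ l (0 : Fin k → F)) = 0 := by
        funext c; rw [pvec_update]; simp
      simp only [β, h0, zero_dotProduct]
    obtain ⟨y, hy⟩ := D.nondeg hx
    set N := SpinTensor.emb l (D.R x x) with hN
    have e1 : ∀ ξ : Fin t → Fin k → F, pvec (Function.update ξ l x) = N *ᵥ pvec (Function.update ξ l y) :=
      fun ξ => by rw [hN, embR_pvec, hy, one_smul]
    have hNG : Nᵀ * G = -(G * N) := by
      have h1 : (outerT D t).Gi * Nᵀ * G = -N := adjV_embR l x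
      calc Nᵀ * G = G * ((outerT D t).Gi * Nᵀ * G) := by
            rw [← mul_assoc, ← mul_assoc, (outerT D t).mul_inv, one_mul]
        _ = -(G * N) := by rw [h1, mul_neg]
    show pvec _ ⬝ᵥ _ = 0
    rw [e1, e1, ← Matrix.vecMul_transpose, ← Matrix.dotProduct_mulVec, Matrix.mulVec_mulVec, Matrix.mulVec_mulVec,
      show Nᵀ * (G * θ) * N = 0 by
        rw [← mul_assoc, hNG, neg_mul, neg_mul, mul_assoc G, mul_assoc G, h l x, mul_zero, neg_zero],
      Matrix.zero_mulVec, dotProduct_zero]
  have hstep : ∀ ξ η l a b,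
      β (Function.update ξ l a) (Function.update η l b) = -β (Function.update ξ l b) (Function.update η l a) := by
    intro ξ η l a b
    have h1 := halt ξ η l (a + b)
    have ha := halt ξ η l a
    have hb := halt ξ η l b
    simp only [β, pvec_update_add, Matrix.mulVec_add, add_dotProduct, dotProduct_add] at h1 ha hb ⊢
    linear_combination h1 - ha - hb
  have hswap : ∀ (s : Finset (Fin t)) ξ η, β ξ η = (-1 : F) ^ s.card * β (s.piecewise η ξ) (s.piecewise ξ η) := by
    intro s
    induction s using Finset.induction with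
    | empty => simp
    | @insert a s ha ih =>
      intro ξ η
      rw [ih ξ η, Finset.card_insert_of_notMem ha, Finset.piecewise_insert, Finset.piecewise_insert]
      have h3 := hstep (s.piecewise η ξ) (s.piecewise ξ η) a (ξ a) (η a)
      rw [Function.update_eq_self_iff.2 (Finset.piecewise_eq_of_notMem s η ξ ha).symm,
        Function.update_eq_self_iff.2 (Finset.piecewise_eq_of_notMem s ξ η ha).symm] at h3
      rw [h3, pow_succ]
      ring
  have hflip : ∀ ξ η, β ξ η = -σ * β η ξ := by
    intro ξ η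
    have e : (G * θ)ᵀ = (-σ) • (G * θ) := by
      rw [Matrix.transpose_mul, (outerT D t).symm, Matrix.mul_smul]
      have : θᵀ * G = -(G * θ) := by
        calc θᵀ * G = G * ((outerT D t).Gi * θᵀ * G) := by
              rw [← mul_assoc, ← mul_assoc, (outerT D t).mul_inv, one_mul]
          _ = -(G * θ) := by rw [show (outerT D t).Gi * θᵀ * G = -θ from hθ, mul_neg]
      rw [this, smul_neg, neg_smul]
    show pvec ξ ⬝ᵥ _ = _ * (pvec η ⬝ᵥ _)
    rw [Matrix.dotProduct_mulVec, dotProduct_comm, ← Matrix.mulVec_transpose, e, Matrix.smul_mulVec,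
      dotProduct_smul, smul_eq_mul]
  have hzero : ∀ ξ η, β ξ η = 0 := by
    intro ξ η
    have h1 := hswap Finset.univ ξ η
    rw [Finset.piecewise_univ, Finset.piecewise_univ, Finset.card_univ, Fintype.card_fin] at h1
    have h3 := hflip ξ η
    have h4 : (2 : F) * β ξ η = 0 := by
      have : σ = (-1) ^ t := rfl
      rw [this] at h3
      linear_combination h1 + h3
    exact (mul_eq_zero.1 h4).resolve_left h2
  have hsingle : ∀ c : Fin t → Fin k, pvec (fun l => Pi.single (c l) (1 : F)) = Pi.single c 1 := by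
    intro c
    funext d
    rw [pvec]
    by_cases hd : d = c
    · subst hd; simp
    · obtain ⟨l, hl⟩ := Function.ne_iff.1 hd
      rw [Finset.prod_eq_zero (Finset.mem_univ l) (by simp [hl]), Pi.single_eq_of_ne hd]
  have hG : G * θ = 0 := by
    ext c d
    have h1 := hzero (fun l => Pi.single (c l) 1) (fun l => Pi.single (d l) 1)
    simpa [β, hsingle] using h1
  have h5 := congrArg ((outerT D t).Gi * ·) hG
  simpa only [← mul_assoc, (outerT D t).inv_mul, one_mul, mul_zero, G] using h5

/-- No skew space stable under the factors has scalar anticommutators. -/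
theorem eq_bot_of_skew (h2 : (2 : F) ≠ 0) (hk : 3 ≤ k)
    (S : Submodule F (Matrix (Fin t → Fin k) (Fin t → Fin k) F)) (hskew : ∀ θ ∈ S, adjV D θ = -θ)
    (hinv : ∀ (l : Fin t) (B : Matrix (Fin k) (Fin k) F), D.Iso B → ∀ θ ∈ S,
      SpinTensor.emb l B * θ * adjV D (SpinTensor.emb l B) ∈ S)
    (hanti : ∀ θ ∈ S, ∀ τ ∈ S, ∃ c : F, θ * τ + τ * θ = c • 1) : S = ⊥ := by
  classical
  haveI : NeZero k := ⟨by omega⟩
  rw [Submodule.eq_bot_iff]
  intro θ hθ
  refine eq_zero_of_alternating h2 (hskew θ hθ) fun l e => ?_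
  obtain ⟨s, rfl⟩ : ∃ s, t = s + 1 := ⟨t - 1, by have := l.pos; omega⟩
  set N := SpinTensor.emb l (D.R e e) with hN
  have hψ : N * θ * N ∈ S := by
    have h1 := hinv l _ (D.iso_transv e 1) θ hθ
    have h1' := hinv l _ (D.iso_transv e (-1)) θ hθ
    have e1 : ∀ c : F, adjV D (SpinTensor.emb l (1 + c • D.R e e)) = 1 + (-c) • N := fun c => by
      rw [adjV_emb, D.adj_add, D.adj_one, D.adj_smul, D.adj_R, map_add, emb_one, map_smul, map_neg, neg_smul,
        smul_neg]
    have e2 : ∀ c : F, SpinTensor.emb l (1 + c • D.R e e) = 1 + c • N := fun c => by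
      rw [map_add, emb_one, map_smul]
    rw [e1, e2] at h1 h1'
    have h3 := S.smul_mem (2 : F)⁻¹ (S.add_mem h1 h1')
    have e3 : (2 : F)⁻¹ • ((1 + (1 : F) • N) * θ * (1 + (-1 : F) • N) + (1 + (-1 : F) • N) * θ * (1 + (- -1 : F) • N)) =
        θ - N * θ * N := by
      simp only [one_smul, neg_smul, neg_neg, mul_add, add_mul, mul_one, one_mul, mul_neg, neg_mul]
      rw [inv_smul_eq_iff₀ h2, two_smul]
      abel
    rw [e3] at h3
    simpa using S.sub_mem hθ h3
  set φ : Matrix (Fin s → Fin k) (Fin s → Fin k) F :=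
    out D (Fin s → Fin k) e * θ.submatrix (sp l) (sp l) * inc (Fin s → Fin k) e
  set Φ := upM l φ
  have hΦ : N * θ * N = Φ * N := eq_of_sub l (by
    rw [sub_upM_mul_emb, ← inc_out, sub_mul_sub, sub_mul_sub, hN, sub_emb, ← inc_out]
    simp only [φ, Matrix.mul_one, Matrix.mul_assoc])
  rw [hΦ] at hψ
  have hc : ∀ B : Matrix (Fin k) (Fin k) F, Commute Φ (SpinTensor.emb l B) := fun B => upM_comm l φ B
  set E := fun B : Matrix (Fin k) (Fin k) F => SpinTensor.emb l B with hE
  have hE2 : ∀ A B, E A * E B = E (A * B) := fun A B => emb_mul_emb _ _ _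
  by_cases he : e = 0
  · subst he
    rw [hN, show D.R 0 0 = 0 by simp [Factor.R], map_zero, mul_zero]
  let Γ : Set (Matrix (Fin (s + 1) → Fin k) (Fin (s + 1) → Fin k) F) :=
    {g | (∀ B, Commute g (E B)) ∧ adjV D g * g = 1 ∧ ∀ τ ∈ S, g * τ * adjV D g ∈ S}
  have hkey : ∀ g ∈ Γ, Φ * g * (Φ * N) = 0 := by
    rintro g ⟨hg, hgi, hgS⟩
    obtain ⟨x, hx⟩ := D.nondeg he
    have hxe : D.f x e = -1 := by rw [D.f_swap e x, hx]
    have hx0 : x ≠ 0 := fun h => by rw [h, D.f_zero_right] at hx; exact zero_ne_one hx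
    obtain ⟨B, hB, hBx⟩ := D.exists_iso he hx0
    have hψx : Φ * E (D.R x x) ∈ S := by
      have h1 := hinv l B hB _ hψ
      rwa [hN, adjV_emb, ← mul_assoc, ← (hc B).eq, mul_assoc Φ, mul_assoc, hE2, hE2, hB.mul_R_mul, hBx] at h1
    obtain ⟨Ψ, hΨdef⟩ : ∃ P, P = g * Φ * adjV D g := ⟨_, rfl⟩
    have hag : ∀ B, Commute (adjV D g) (E B) := fun B => by
      have h1 : adjV D g * E B * g = E B := by rw [mul_assoc, ← (hg B).eq, ← mul_assoc, hgi, one_mul]
      show adjV D g * E B = E B * adjV D g
      conv_rhs => rw [← h1, mul_assoc, mul_eq_one_comm.1 hgi, mul_one]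
    have hΨ : ∀ B, Commute Ψ (E B) := fun B => hΨdef ▸ ((hg B).mul_left (hc B)).mul_left (hag B)
    have hgψ : Ψ * E (D.R x x) ∈ S := by
      have h1 := hgS _ hψx
      rw [hΨdef]
      rwa [← mul_assoc, mul_assoc (g * Φ), ← (hag _).eq, ← mul_assoc] at h1
    obtain ⟨c, hcc⟩ := hanti _ hψ _ hgψ
    have m1 : ∀ A B, (Φ * E A) * (Ψ * E B) = Φ * Ψ * E (A * B) := fun A B => by
      rw [mul_assoc, ← mul_assoc (E A), ← (hΨ A).eq, mul_assoc Ψ, hE2, mul_assoc]
    have m2 : ∀ A B, (Ψ * E A) * (Φ * E B) = Ψ * Φ * E (A * B) := fun A B => by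
      rw [mul_assoc, ← mul_assoc (E A), ← (hc A).eq, mul_assoc Φ, hE2, mul_assoc]
    rw [hN, show SpinTensor.emb l (D.R e e) = E (D.R e e) from rfl] at hcc
    rw [m1, m2, D.R_mul, D.R_mul, hx, hxe, one_smul] at hcc
    obtain ⟨w, hw0, hw⟩ := TensorLinear.exists_perp ![e ᵥ* D.J, x ᵥ* D.J]
      (show 2 < Fintype.card (Fin k) by rw [Fintype.card_fin]; omega)
    have hew : D.f e w = 0 := by rw [Factor.f, dotProduct_comm]; exact hw 0
    have hxw : D.f x w = 0 := by rw [Factor.f, dotProduct_comm]; exact hw 1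
    have h4 := congrArg (· * E (D.R w w)) hcc
    simp only [hE, add_mul, mul_assoc, emb_mul_emb, smul_mul_assoc, neg_smul, one_smul, neg_mul, map_neg, map_smul,
      D.R_mul, hew, hxw, one_mul, zero_smul, smul_zero, map_zero, neg_zero, mul_zero, add_zero] at h4
    have hc0 : c = 0 := by
      refine (smul_eq_zero.1 h4.symm).resolve_right fun h5 => ?_
      exact D.R_ne_zero hw0 hw0 (emb_inj l (by rw [map_zero]; exact h5))
    rw [hc0, zero_smul] at hcc
    have h5 : Φ * Ψ * E (D.R e e) = 0 := by
      have h5 := congrArg (· * E (D.R e e)) hcc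
      simp only [hE, add_mul, mul_assoc, emb_mul_emb, smul_mul_assoc, neg_smul, one_smul, neg_mul, map_neg, map_smul,
        D.R_mul, D.f_self, hxe, zero_smul, smul_zero, zero_mul, map_zero, neg_zero, mul_zero, add_zero, mul_neg,
        neg_eq_zero] at h5
      rw [mul_assoc]
      exact h5
    calc Φ * g * (Φ * N) = Φ * g * Φ * ((adjV D g * g) * E (D.R e e)) := by
          rw [hgi, one_mul, hN, mul_assoc (Φ * g)]
      _ = Φ * Ψ * E (D.R e e) * g := by
          rw [mul_assoc (adjV D g), (hg _).eq, hΨdef]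
          simp only [mul_assoc]
      _ = 0 := by rw [h5, zero_mul]
  let W : Submodule F (Matrix (Fin (s + 1) → Fin k) (Fin (s + 1) → Fin k) F) :=
    { carrier := {M | ∀ g ∈ Γ, Φ * g * (M * (Φ * N)) = 0}
      zero_mem' := fun g _ => by simp
      add_mem' := fun {a b} ha hb g hg => by rw [add_mul, mul_add, ha g hg, hb g hg, add_zero]
      smul_mem' := fun c a ha g hg => by rw [smul_mul_assoc, mul_smul_comm, ha g hg, smul_zero] }
  have hW : ∀ M, M ∈ W := fun M => mem_of_closed (D := D) (S := W)
    (fun g hg => by rw [one_mul]; exact hkey g hg) (fun j x M hM g hg => by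
      by_cases hj : j = l
      · subst hj
        have := hM g hg
        rw [mul_assoc (SpinTensor.emb j _), ← mul_assoc (Φ * g), mul_assoc Φ g, (hg.1 _).eq, ← mul_assoc Φ,
          (hc _).eq, mul_assoc, mul_assoc, ← mul_assoc Φ, this, mul_zero]
      · have h1 := hM g hg
        have hgj : g * SpinTensor.emb j (1 + (1 : F) • D.R x x) ∈ Γ := by
          obtain ⟨hg1, hg2, hg3⟩ := hg
          refine ⟨fun B => (hg1 B).mul_left (emb_comm_ne' hj _ _), ?_, fun τ hτ => ?_⟩
          · have h7 : adjV D (SpinTensor.emb j (1 + (1 : F) • D.R x x)) * SpinTensor.emb j (1 + (1 : F) • D.R x x) = 1 := by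
              rw [adjV_emb, emb_mul_emb, D.iso_transv x 1, emb_one]
            rw [show adjV D (g * _) = _ from (outerT D (s + 1)).adj_mul g _, mul_assoc, ← mul_assoc (adjV D g), hg2,
              one_mul, h7]
          · have h8 := hg3 _ (hinv j _ (D.iso_transv x 1) τ hτ)
            rw [show adjV D (g * _) = _ from (outerT D (s + 1)).adj_mul g _]
            simpa only [mul_assoc] using h8
        have h9 := hM _ hgj
        rw [map_add, emb_one, map_smul, one_smul, mul_add, mul_one, mul_add, add_mul, h1, zero_add] at h9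
        simpa only [mul_assoc] using h9) M
  have hall : ∀ M, Φ * M * (Φ * N) = 0 := fun M => by
    have a1 : adjV D (1 : Matrix (Fin (s + 1) → Fin k) (Fin (s + 1) → Fin k) F) = 1 := (outerT D (s + 1)).adj_one
    have h1 : (1 : Matrix (Fin (s + 1) → Fin k) (Fin (s + 1) → Fin k) F) ∈ Γ :=
      ⟨fun B => Commute.one_left _, by rw [a1, one_mul], fun τ hτ => by
        rw [a1, one_mul, mul_one]; exact hτ⟩
    have := hW M 1 h1
    rwa [mul_one, ← mul_assoc] at this
  rw [hΦ]
  set Y := Φ * N with hY
  have hYM : ∀ M, Y * M * Y = 0 := fun M => by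
    rw [show Y * M * Y = N * (Φ * M * Y) by
      rw [show Y = N * Φ from (hc _).eq]
      simp only [mul_assoc], hall, mul_zero]
  by_contra hY0
  obtain ⟨a, b, hab⟩ : ∃ a b, Y a b ≠ 0 := by
    by_contra! h
    exact hY0 (Matrix.ext fun a b => h a b)
  have h1 := congrFun (congrFun (hYM (Matrix.single b a 1)) a) b
  rw [Matrix.mul_apply, Finset.sum_eq_single a] at h1
  · simp [Matrix.mul_apply, Matrix.single_apply, hab] at h1
  · intro x _ hx; simp [Matrix.mul_apply, Matrix.single_apply, Ne.symm hx]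
  · simp

/-- The hypothesis on skew spaces holds for an overgroup. -/
theorem Hyp.rigid {X : Subgroup (GL (Fin (t + 1) → Fin k) F)} (H : Hyp D X) (hk : 3 ≤ k) (i : Fin (t + 1)) :
    Rigid (outerT D t) (X.map (spGL i).toMonoidHom) := by
  refine fun S hskew hinv hanti => eq_bot_of_skew H.two hk S hskew (fun l B hB => ?_) hanti
  refine hinv _ ?_
  rw [← sub_emb_succAbove i l B]
  exact (mem_map_sub i).2 (H.base _ B hB)

end CfsgLib.HallGen.SympWreath
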