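/-
Monomials of squares inside spaces of matrices invariant under the isometries of the factors.
-/
import Cfsg.Agent.Lib.HallGen.SympWreath.Rigid

set_option autoImplicit false
set_option linter.unusedSectionVars false
set_option maxHeartbeats 400000

namespace CfsgLib.HallGen.SympWreath

open Matrix CfsgLib.Geo CfsgLib.Geo.SpinTensor CfsgLib.Geo.TensorWreath
open scoped Kronecker

variable {F : Type*} [Field F] {k t : ℕ} {D : Factor F k}

variable (D) in
/-- A space of matrices invariant under the isometries of the single factors. -/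
def Inv (Z : Submodule F (Matrix (Fin t → Fin k) (Fin t → Fin k) F)) : Prop :=
  ∀ (j : Fin t) (B : Matrix (Fin k) (Fin k) F), D.Iso B → ∀ Φ ∈ Z,
    SpinTensor.emb j B * Φ * SpinTensor.emb j (D.adj B) ∈ Z

variable {Z : Submodule F (Matrix (Fin t → Fin k) (Fin t → Fin k) F)}

theorem pure_smul_prod (c : Fin t → F) (g : Fin t → Matrix (Fin k) (Fin k) F) :
    SpinTensor.pure (fun l => c l • g l) = (∏ l, c l) • SpinTensor.pure g := by
  ext a b
  simp [pure_apply, Finset.prod_mul_distrib]

/-- Sandwiches and commutators from the conjugates by two opposite unipotent elements. -/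
theorem mem_of_pair (h2 : (2 : F) ≠ 0) {B Φ : Matrix (Fin t → Fin k) (Fin t → Fin k) F} (hΦ : Φ ∈ Z)
    (hp : (1 + B) * Φ * (1 - B) ∈ Z) (hm : (1 - B) * Φ * (1 + B) ∈ Z) :
    B * Φ * B ∈ Z ∧ B * Φ - Φ * B ∈ Z := by
  constructor
  · refine (Z.smul_mem_iff h2).1 ?_
    rw [show (2 : F) • (B * Φ * B) = (2 : F) • Φ - ((1 + B) * Φ * (1 - B) + (1 - B) * Φ * (1 + B)) by
      rw [two_smul, two_smul]; noncomm_ring]
    exact Z.sub_mem (Z.smul_mem _ hΦ) (Z.add_mem hp hm)
  · refine (Z.smul_mem_iff h2).1 ?_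
    rw [show (2 : F) • (B * Φ - Φ * B) = (1 + B) * Φ * (1 - B) - (1 - B) * Φ * (1 + B) by
      rw [two_smul]; noncomm_ring]
    exact Z.sub_mem hp hm

theorem Inv.ops (hZ : Inv D Z) (h2 : (2 : F) ≠ 0) (j : Fin t) (x : Fin k → F)
    {Φ : Matrix (Fin t → Fin k) (Fin t → Fin k) F} (hΦ : Φ ∈ Z) :
    SpinTensor.emb j (D.R x x) * Φ * SpinTensor.emb j (D.R x x) ∈ Z ∧
      SpinTensor.emb j (D.R x x) * Φ - Φ * SpinTensor.emb j (D.R x x) ∈ Z := by
  have h1 := hZ j _ (D.iso_transv x 1) Φ hΦ
  have h1' := hZ j _ (D.iso_transv x (-1)) Φ hΦ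
  rw [D.adj_add, D.adj_one, D.adj_smul, D.adj_R, map_add, map_add, emb_one, map_smul, map_smul, map_neg, one_smul,
    one_smul, ← sub_eq_add_neg] at h1
  rw [D.adj_add, D.adj_one, D.adj_smul, D.adj_R, map_add, map_add, emb_one, map_smul, map_smul, map_neg,
    neg_one_smul, neg_one_smul, neg_neg, ← sub_eq_add_neg] at h1'
  exact mem_of_pair h2 hΦ h1 h1'

variable (D) in
/-- The product of squares over a set of factors. -/
def monom (s : Finset (Fin t)) (ξ : Fin t → Fin k → F) : Matrix (Fin t → Fin k) (Fin t → Fin k) F :=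
  SpinTensor.pure fun l => if l ∈ s then D.R (ξ l) (ξ l) else 1

theorem monom_congr {s : Finset (Fin t)} {ξ η : Fin t → Fin k → F} (h : ∀ l ∈ s, ξ l = η l) :
    monom D s ξ = monom D s η := by
  rw [monom, monom]
  congr 1
  funext l
  split_ifs with hl
  · rw [h l hl]
  · rfl

theorem monom_empty (ξ : Fin t → Fin k → F) : monom D ∅ ξ = 1 := by simp [monom, pure_one]

theorem monom_insert {s : Finset (Fin t)} {l : Fin t} (hl : l ∉ s) (ξ : Fin t → Fin k → F) :
    monom D (insert l s) ξ = SpinTensor.emb l (D.R (ξ l) (ξ l)) * monom D s ξ ∧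
      monom D (insert l s) ξ = monom D s ξ * SpinTensor.emb l (D.R (ξ l) (ξ l)) := by
  constructor <;>
  · show SpinTensor.pure _ = _
    simp only [monom, show SpinTensor.emb l (D.R (ξ l) (ξ l)) = SpinTensor.pure _ from rfl, pure_mul]
    congr 1
    funext j
    by_cases hj : j = l
    · subst hj; simp [hl]
    · simp [Function.update_of_ne hj, hj]

/-- Sandwiching by a product of squares. -/
theorem Inv.sandwich (hZ : Inv D Z) (h2 : (2 : F) ≠ 0) (s : Finset (Fin t)) (ξ : Fin t → Fin k → F)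
    {Φ : Matrix (Fin t → Fin k) (Fin t → Fin k) F} (hΦ : Φ ∈ Z) : monom D s ξ * Φ * monom D s ξ ∈ Z := by
  classical
  induction s using Finset.induction with
  | empty => rwa [monom_empty, one_mul, mul_one]
  | @insert l s hl ih =>
    nth_rewrite 1 [(monom_insert hl ξ).1]
    rw [(monom_insert hl ξ).2]
    simpa only [mul_assoc] using (hZ.ops h2 l (ξ l) ih).1

/-- Sandwiching a pure map gives a monomial. -/
theorem Inv.monom_of_pure (hZ : Inv D Z) (h2 : (2 : F) ≠ 0) {g : Fin t → Matrix (Fin k) (Fin k) F}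
    {s : Finset (Fin t)} {w : Fin t → Fin k → F} (hg : SpinTensor.pure g ∈ Z) (hoff : ∀ l ∉ s, g l = 1)
    (hw : ∀ l ∈ s, D.f (w l) (g l *ᵥ w l) ≠ 0) : monom D s w ∈ Z := by
  classical
  have h := hZ.sandwich h2 s w hg
  set c : Fin t → F := fun l => if l ∈ s then D.f (w l) (g l *ᵥ w l) else 1
  have e : monom D s w * SpinTensor.pure g * monom D s w = (∏ l, c l) • monom D s w := by
    simp only [monom, pure_mul]
    rw [← pure_smul_prod]
    congr 1
    funext l
    by_cases hl : l ∈ s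
    · simp only [c, if_pos hl]
      rw [mul_assoc, D.mul_R, D.R_mul]
    · simp [c, if_neg hl, hoff l hl]
  rw [e] at h
  refine (Z.smul_mem_iff ?_).1 h
  refine Finset.prod_ne_zero_iff.2 fun l _ => ?_
  by_cases hl : l ∈ s
  · simpa [c, hl] using hw l hl
  · simp [c, hl]

/-- All monomials on the same factors. -/
theorem Inv.monom_move (hZ : Inv D Z) {s : Finset (Fin t)} {ξ η : Fin t → Fin k → F} (hξ : ∀ l ∈ s, ξ l ≠ 0)
    (hη : ∀ l ∈ s, η l ≠ 0) (h : monom D s ξ ∈ Z) : monom D s η ∈ Z := by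
  classical
  suffices ∀ u : Finset (Fin t), monom D s (u.piecewise η ξ) ∈ Z by
    rw [monom_congr (η := s.piecewise η ξ) fun l hl => by rw [Finset.piecewise_eq_of_mem _ _ _ hl]]
    exact this s
  intro u
  induction u using Finset.induction with
  | empty => rwa [Finset.piecewise_empty]
  | @insert l u hl ih =>
    rw [Finset.piecewise_insert]
    by_cases hls : l ∈ s
    swap
    · rwa [monom_congr (η := u.piecewise η ξ) fun j (hj : j ∈ s) =>
        Function.update_of_ne (show j ≠ l by rintro rfl; exact hls hj) _ _]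
    obtain ⟨B, hB, hBe⟩ := D.exists_iso (hξ l hls) (hη l hls)
    have h1 := hZ l B hB _ ih
    convert h1 using 1
    simp only [monom, show ∀ C, SpinTensor.emb (F := F) (J := Fin k) l C = SpinTensor.pure _ from fun _ => rfl,
      pure_mul]
    congr 1
    funext j
    by_cases hj : j = l
    · subst hj
      simp only [Function.update_self, if_pos hls, Finset.piecewise_eq_of_notMem _ _ _ hl]
      rw [hB.mul_R_mul, hBe]
    · simp [Function.update_of_ne hj]

/-- **The union of two monomials meeting in an odd number of factors.** -/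
theorem Inv.monom_union (hZ : Inv D Z) (h2 : (2 : F) ≠ 0) {P Q : Finset (Fin t)}
    (hP : ∀ ξ : Fin t → Fin k → F, (∀ l ∈ P, ξ l ≠ 0) → monom D P ξ ∈ Z)
    (hQ : ∀ η : Fin t → Fin k → F, (∀ l ∈ Q, η l ≠ 0) → ∀ Φ ∈ Z, monom D Q η * Φ - Φ * monom D Q η ∈ Z)
    (hodd : Odd (P ∩ Q).card) {ζ : Fin t → Fin k → F} (hζ : ∀ l ∈ P ∪ Q, ζ l ≠ 0) :
    monom D (P ∪ Q) ζ ∈ Z := by
  classical
  have hpart : ∀ l : Fin t, ∃ z : Fin k → F, l ∈ P ∪ Q → D.f (ζ l) z = 1 := fun l => by
    by_cases hl : l ∈ P ∪ Q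
    · obtain ⟨z, hz⟩ := D.nondeg (hζ l hl)
      exact ⟨z, fun _ => hz⟩
    · exact ⟨0, fun h => absurd h hl⟩
  choose z hz using hpart
  set C := P ∩ Q
  set η : Fin t → Fin k → F := fun l => if l ∈ C then z l else ζ l
  set w : Fin t → Fin k → F := fun l => if l ∈ C then ζ l + z l else ζ l
  have hCf : ∀ l ∈ C, D.f (ζ l) (z l) = 1 := fun l hl =>
    hz l (Finset.mem_union_left _ (Finset.mem_of_mem_inter_left hl))
  have hξ : ∀ l ∈ P, ζ l ≠ 0 := fun l hl => hζ l (Finset.mem_union_left _ hl)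
  have hη : ∀ l ∈ Q, η l ≠ 0 := fun l hl h0 => by
    by_cases hlC : l ∈ C
    · simp only [η, if_pos hlC] at h0
      have := hCf l hlC
      rw [h0, D.f_zero_right] at this
      exact zero_ne_one this
    · simp only [η, if_neg hlC] at h0
      exact hζ l (Finset.mem_union_right _ hl) h0
  have h := hZ.sandwich h2 C w (hQ η hη _ (hP ζ hξ))
  set T := monom D (P ∪ Q) w
  have e1 : monom D C w * (monom D Q η * monom D P ζ) * monom D C w =
      (∏ l, if l ∈ C then (-1 : F) else 1) • T := by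
    simp only [T, monom, pure_mul]
    rw [← pure_smul_prod]
    congr 1
    funext l
    by_cases hlC : l ∈ C
    · have h1 := Finset.mem_inter.1 hlC
      simp only [η, w, if_pos hlC, if_pos h1.1, if_pos h1.2, if_pos (Finset.mem_union_left _ h1.1), D.R_mul,
        Matrix.mul_smul, Matrix.smul_mul, smul_smul]
      congr 1
      simp only [D.f_add_left, D.f_add_right, D.f_self, hCf l hlC, D.f_swap (ζ l) (z l)]
      ring
    · by_cases hlP : l ∈ P
      · have hlQ : l ∉ Q := fun hq => hlC (Finset.mem_inter.2 ⟨hlP, hq⟩)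
        simp [w, hlC, hlP, hlQ]
      · by_cases hlQ : l ∈ Q <;> simp [η, w, hlC, hlP, hlQ]
  have e2 : monom D C w * (monom D P ζ * monom D Q η) * monom D C w = T := by
    simp only [T, monom, pure_mul]
    congr 1
    funext l
    by_cases hlC : l ∈ C
    · have h1 := Finset.mem_inter.1 hlC
      simp only [η, w, if_pos hlC, if_pos h1.1, if_pos h1.2, if_pos (Finset.mem_union_left _ h1.1), D.R_mul,
        Matrix.mul_smul, Matrix.smul_mul, smul_smul]
      conv_rhs => rw [← one_smul F (D.R _ _)]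
      congr 1
      simp only [D.f_add_left, D.f_add_right, D.f_self, hCf l hlC, D.f_swap (ζ l) (z l)]
      ring
    · by_cases hlP : l ∈ P
      · have hlQ : l ∉ Q := fun hq => hlC (Finset.mem_inter.2 ⟨hlP, hq⟩)
        simp [w, hlC, hlP, hlQ]
      · by_cases hlQ : l ∈ Q <;> simp [η, w, hlC, hlP, hlQ]
  rw [mul_sub, sub_mul, e1, e2, Finset.prod_ite_mem, Finset.univ_inter, Finset.prod_const, hodd.neg_one_pow,
    neg_one_smul, ← neg_add', ← two_smul F, ← neg_smul] at h
  have hw : ∀ l ∈ P ∪ Q, w l ≠ 0 := fun l hl h0 => by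
    by_cases hlC : l ∈ C
    · simp only [w, if_pos hlC] at h0
      have := congrArg (D.f (ζ l)) h0
      rw [D.f_add_right, D.f_self, hCf l hlC, D.f_zero_right, zero_add] at this
      exact one_ne_zero this
    · simp only [w, if_neg hlC] at h0
      exact hζ l hl h0
  exact hZ.monom_move hw hζ ((Z.smul_mem_iff (neg_ne_zero.2 h2)).1 h)

end CfsgLib.HallGen.SympWreath
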