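/-
A non-scalar invariant space of matrices contains a pure tensor of squares and short root maps.
-/
import Cfsg.Agent.Lib.HallGen.SympWreath.Mono

set_option autoImplicit false
set_option linter.unusedSectionVars false
set_option maxHeartbeats 400000

namespace CfsgLib.HallGen.SympWreath

open Matrix CfsgLib.Geo CfsgLib.Geo.SpinTensor CfsgLib.Geo.TensorWreath
open scoped Kronecker

variable {F : Type*} [Field F] {k t : ℕ} {D : Factor F k}

variable (D) in
/-- A square or a short root map of one factor. -/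
def Smp (C : Matrix (Fin k) (Fin k) F) : Prop :=
  (∃ z, z ≠ 0 ∧ C = D.R z z) ∨
    ∃ x y, x ≠ 0 ∧ y ∉ Submodule.span F {x} ∧ D.f x y = 0 ∧ C = D.R x y - D.R y x

theorem Smp.ne_one [NeZero k] {C : Matrix (Fin k) (Fin k) F} (h : Smp D C) : C ≠ 1 := by
  intro h1
  have h0 : C * C = 0 := by
    obtain ⟨z, -, rfl⟩ | ⟨x, y, -, -, hxy, rfl⟩ := h
    · rw [D.R_mul, D.f_self, zero_smul]
    · have hyx : D.f y x = 0 := by rw [D.f_swap x y, hxy, neg_zero]
      simp [sub_mul, mul_sub, D.R_mul, D.f_self, hxy, hyx]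
  rw [h1, mul_one] at h0
  exact one_ne_zero h0

/-- A matrix commuting with all factors is a scalar. -/
theorem eq_smul_of_commute (D : Factor F k) {Φ : Matrix (Fin t → Fin k) (Fin t → Fin k) F}
    (h : ∀ (l : Fin t) (B : Matrix (Fin k) (Fin k) F), Commute Φ (SpinTensor.emb l B)) : ∃ c : F, Φ = c • 1 := by
  classical
  let S : Submodule F (Matrix (Fin t → Fin k) (Fin t → Fin k) F) :=
    { carrier := {M | Commute Φ M}
      zero_mem' := Commute.zero_right Φ
      add_mem' := fun ha hb => Commute.add_right ha hb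
      smul_mem' := fun c _ hM => Commute.smul_right hM c }
  have hall : ∀ M, M ∈ S := mem_of_closed (D := D) (S := S) (Commute.one_right Φ)
    (fun l x M hM => (h l _).mul_right hM)
  obtain ⟨c, hc⟩ := Matrix.mem_range_scalar_of_commute_single (M := Φ)
    (fun i j _ => (show Commute Φ (Matrix.single i j 1) from hall _).symm)
  exact ⟨c, by rw [← hc, Matrix.scalar_apply, Matrix.smul_one_eq_diagonal]⟩

theorem sub_matrix_sub (i : Fin (t + 1)) (M N : Matrix (Fin (t + 1) → Fin k) (Fin (t + 1) → Fin k) F) :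
    (M - N).submatrix (sp i) (sp i) = M.submatrix (sp i) (sp i) - N.submatrix (sp i) (sp i) := rfl

/-- The step at one factor. -/
theorem Inv.slot_step [NeZero k] {Z : Submodule F (Matrix (Fin (t + 1) → Fin k) (Fin (t + 1) → Fin k) F)}
    (hZ : Inv D Z) (h2 : (2 : F) ≠ 0) (j : Fin (t + 1)) {Φ : Matrix (Fin (t + 1) → Fin k) (Fin (t + 1) → Fin k) F}
    (hΦ : Φ ∈ Z) : (∀ B, Commute Φ (SpinTensor.emb j B)) ∨
      ∃ (C : Matrix (Fin k) (Fin k) F) (θ : Matrix (Fin t → Fin k) (Fin t → Fin k) F), Smp D C ∧ θ ≠ 0 ∧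
        upM j θ * SpinTensor.emb j C ∈ Z ∧
        ∀ i : Fin t, (∀ B, Commute Φ (SpinTensor.emb (j.succAbove i) B)) → ∀ B, Commute θ (SpinTensor.emb i B) := by
  classical
  set Φs := Φ.submatrix (sp j) (sp j)
  set β : (Fin k → F) → (Fin k → F) → Matrix (Fin t → Fin k) (Fin t → Fin k) F :=
    fun z x => out D (Fin t → Fin k) z * Φs * inc (Fin t → Fin k) x with hβ
  have hR : ∀ a b, (1 : Matrix (Fin t → Fin k) (Fin t → Fin k) F) ⊗ₖ D.R a b =
      inc (Fin t → Fin k) a * out D (Fin t → Fin k) b := fun a b => by rw [← inc_out, Matrix.mul_one]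
  have hsand : ∀ x y, ((1 : Matrix (Fin t → Fin k) (Fin t → Fin k) F) ⊗ₖ D.R x x) * Φs *
      ((1 : Matrix (Fin t → Fin k) (Fin t → Fin k) F) ⊗ₖ D.R y y) = β x y ⊗ₖ D.R x y := fun x y => by
    rw [hR, hR, ← inc_out]
    simp only [hβ, Matrix.mul_assoc]
  have hcomm : ∀ z x (i : Fin t), (∀ B, Commute Φ (SpinTensor.emb (j.succAbove i) B)) →
      ∀ B, Commute (β z x) (SpinTensor.emb i B) := by
    intro z x i hi B
    have h1 : Φs * (SpinTensor.emb i B ⊗ₖ (1 : Matrix (Fin k) (Fin k) F)) =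
        (SpinTensor.emb i B ⊗ₖ (1 : Matrix (Fin k) (Fin k) F)) * Φs := by
      rw [← sub_emb_succAbove j i B, ← sub_mul_sub, ← sub_mul_sub, (hi B).eq]
    have h3 : out D (Fin t → Fin k) z * (SpinTensor.emb i B ⊗ₖ (1 : Matrix (Fin k) (Fin k) F)) =
        SpinTensor.emb i B * out D (Fin t → Fin k) z := by rw [out_kronecker, D.adj_one, Matrix.one_mulVec]
    have h4 : (SpinTensor.emb i B ⊗ₖ (1 : Matrix (Fin k) (Fin k) F)) * inc (Fin t → Fin k) x =
        inc (Fin t → Fin k) x * SpinTensor.emb i B := by rw [kronecker_inc, Matrix.one_mulVec]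
    show out D (Fin t → Fin k) z * Φs * inc (Fin t → Fin k) x * SpinTensor.emb i B =
      SpinTensor.emb i B * (out D (Fin t → Fin k) z * Φs * inc (Fin t → Fin k) x)
    rw [Matrix.mul_assoc _ (inc (Fin t → Fin k) x), ← h4, Matrix.mul_assoc (out D (Fin t → Fin k) z),
      ← Matrix.mul_assoc Φs, h1, ← Matrix.mul_assoc, ← Matrix.mul_assoc, h3]
    simp only [Matrix.mul_assoc]
  by_cases h1 : ∃ x, β x x ≠ 0
  · obtain ⟨x, hx⟩ := h1
    refine Or.inr ⟨D.R x x, β x x, Or.inl ⟨x, fun h0 => hx ?_, rfl⟩, hx, ?_, hcomm x x⟩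
    · rw [h0, hβ]
      simp only
      rw [show (inc (Fin t → Fin k) (0 : Fin k → F) : Matrix _ _ F) = 0 by
        rw [← sub_self (0 : Fin k → F), inc_sub, sub_self], Matrix.mul_zero]
    · convert (hZ.ops h2 j x hΦ).1 using 1
      refine eq_of_sub j ?_
      rw [sub_upM_mul_emb, sub_mul_sub, sub_mul_sub, sub_emb, hsand]
  push Not at h1
  have hadd_l : ∀ z z' x, β (z + z') x = β z x + β z' x := fun z z' x => by
    simp only [hβ, out_add, Matrix.add_mul]
  have hadd_r : ∀ z x x', β z (x + x') = β z x + β z x' := fun z x x' => by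
    simp only [hβ, inc_add, Matrix.mul_add]
  have hsmul_r : ∀ z (c : F) x, β z (c • x) = c • β z x := fun z c x => by
    simp only [hβ, inc_smul, Matrix.mul_smul]
  have halt : ∀ z x, β x z = -β z x := fun z x => by
    have h := h1 (z + x)
    rw [hadd_l, hadd_r, hadd_r, h1, h1, zero_add, add_zero] at h
    exact eq_neg_of_add_eq_zero_right h
  by_cases h2' : ∃ x y, D.f x y = 0 ∧ β x y ≠ 0
  · obtain ⟨x, y, hxy, hne⟩ := h2'
    have hyx : D.f y x = 0 := by rw [D.f_swap x y, hxy, neg_zero]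
    have hx0 : x ≠ 0 := fun h0 => hne (by
      rw [halt y x, h0, show (0 : Fin k → F) = (0 : F) • (0 : Fin k → F) by simp, hsmul_r, zero_smul, neg_zero])
    refine Or.inr ⟨D.R x y - D.R y x, -β x y, Or.inr ⟨x, y, hx0, fun hm => ?_, hxy, rfl⟩, neg_ne_zero.2 hne, ?_,
      fun i hi B => (hcomm x y i hi B).neg_left⟩
    · obtain ⟨c, rfl⟩ := Submodule.mem_span_singleton.1 hm
      exact hne (by rw [hsmul_r, h1, smul_zero])
    · convert (hZ.ops h2 j x (hZ.ops h2 j y hΦ).2).2 using 1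
      refine eq_of_sub j ?_
      have hz : ((1 : Matrix (Fin t → Fin k) (Fin t → Fin k) F) ⊗ₖ D.R x x) *
          ((1 : Matrix (Fin t → Fin k) (Fin t → Fin k) F) ⊗ₖ D.R y y) = 0 := by
        rw [kr_mul, hxy, zero_smul]
      have hz' : ((1 : Matrix (Fin t → Fin k) (Fin t → Fin k) F) ⊗ₖ D.R y y) *
          ((1 : Matrix (Fin t → Fin k) (Fin t → Fin k) F) ⊗ₖ D.R x x) = 0 := by
        rw [kr_mul, hyx, zero_smul]
      rw [sub_upM_mul_emb]
      simp only [sub_matrix_sub, sub_mul_sub, sub_emb]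
      rw [mul_sub, sub_mul, ← Matrix.mul_assoc, hz, Matrix.zero_mul, Matrix.mul_assoc Φs, hz', Matrix.mul_zero,
        ← Matrix.mul_assoc, hsand, hsand, halt x y, sub_zero, zero_sub, sub_eq_add_neg (D.R x y)]
      simp only [neg_kronecker', kronecker_neg', Matrix.kronecker_add]
      abel
  push Not at h2'
  left
  obtain ⟨e, he⟩ : ∃ e : Fin k → F, e ≠ 0 := ⟨Pi.single 0 1, Function.ne_iff.2 ⟨0, by simp⟩⟩
  obtain ⟨e', hee⟩ := D.nondeg he
  set θ₀ := β e e'
  have hA : ∀ z x y, D.f z x = 1 → β z y = D.f z y • β z x := by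
    intro z x y hzx
    have h := h2' z (y + (-D.f z y) • x) (by rw [D.f_add_right, D.f_smul_right, hzx, mul_one, add_neg_cancel])
    rwa [hadd_r, hsmul_r, neg_smul, add_neg_eq_zero] at h
  have hne : ∀ z, D.f z e' ≠ 0 → ∀ y, β z y = D.f z y • θ₀ := by
    intro z hz y
    have h5 : β z e' = D.f z e' • θ₀ := by
      rw [halt e' z, hA e' (-e) z (by rw [D.f_neg_right, D.f_swap e e', hee, neg_neg]), ← neg_one_smul F e, hsmul_r,
        neg_one_smul, halt e e', neg_neg, D.f_swap z e', neg_smul, neg_neg]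
    rw [hA z ((D.f z e')⁻¹ • e') y (by rw [D.f_smul_right, inv_mul_cancel₀ hz]), hsmul_r, h5, smul_smul _ _ θ₀,
      inv_mul_cancel₀ hz, one_smul]
  have hall : ∀ z y, β z y = D.f z y • θ₀ := by
    intro z y
    by_cases hz : D.f z e' = 0
    · have h5 := hne (z + e) (by rw [D.f_add_left, hz, hee, zero_add]; exact one_ne_zero) y
      rw [hadd_l, D.f_add_left, add_smul, hne e (by rw [hee]; exact one_ne_zero) y] at h5
      exact add_right_cancel h5
    · exact hne z hz y
  have hΦs : Φs = θ₀ ⊗ₖ (1 : Matrix (Fin k) (Fin k) F) := by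
    refine ext_inc fun q => ?_
    rw [kronecker_inc, Matrix.one_mulVec]
    refine ext_out D fun z => ?_
    rw [← Matrix.mul_assoc, ← Matrix.mul_assoc, out_inc, Matrix.smul_mul, Matrix.one_mul]
    exact hall z _
  intro B
  rw [eq_of_sub j (show Φ.submatrix (sp j) (sp j) = (upM j θ₀).submatrix (sp j) (sp j) by rw [sub_upM]; exact hΦs)]
  exact upM_comm j θ₀ B

/-- **A non-scalar invariant space contains a pure tensor of squares and short root maps.** -/
theorem Inv.exists_pure [NeZero k] (h2 : (2 : F) ≠ 0) (s : Finset (Fin (t + 1)))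
    {Z : Submodule F (Matrix (Fin (t + 1) → Fin k) (Fin (t + 1) → Fin k) F)} (hZ : Inv D Z)
    {Φ : Matrix (Fin (t + 1) → Fin k) (Fin (t + 1) → Fin k) F} (hΦ : Φ ∈ Z) (hΦ0 : Φ ≠ 0)
    (hoff : ∀ l ∉ s, ∀ B, Commute Φ (SpinTensor.emb l B)) :
    ∃ g : Fin (t + 1) → Matrix (Fin k) (Fin k) F, (∀ l ∉ s, g l = 1) ∧ (∀ l, g l = 1 ∨ Smp D (g l)) ∧
      SpinTensor.pure g ∈ Z ∧ ((¬ ∃ c : F, Φ = c • 1) → ∃ l, g l ≠ 1) := by
  classical
  induction s using Finset.induction generalizing Z Φ with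
  | empty =>
    obtain ⟨c, hc⟩ := eq_smul_of_commute D fun l B => hoff l (Finset.notMem_empty l) B
    refine ⟨fun _ => 1, fun _ _ => rfl, fun _ => Or.inl rfl, ?_, fun h => absurd ⟨c, hc⟩ h⟩
    rw [pure_one]
    refine (Z.smul_mem_iff (fun h0 => hΦ0 (by rw [hc, h0, zero_smul]))).1 (hc ▸ hΦ)
  | @insert j s hj ih =>
    rcases hZ.slot_step h2 j hΦ with hc | ⟨C, θ, hC, hθ, hmem, hpres⟩
    · obtain ⟨g, g1, g2, g3, g4⟩ := ih hZ hΦ hΦ0 fun l hl => by
        by_cases hlj : l = j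
        · subst hlj; exact hc
        · exact hoff l (by simp [hlj, hl])
      exact ⟨g, fun l hl => g1 l fun h => hl (Finset.mem_insert_of_mem h), g2, g3, g4⟩
    let Z' : Submodule F (Matrix (Fin (t + 1) → Fin k) (Fin (t + 1) → Fin k) F) :=
      { carrier := {Ψ | (∀ B, Commute Ψ (SpinTensor.emb j B)) ∧ Ψ * SpinTensor.emb j C ∈ Z}
        zero_mem' := ⟨fun _ => Commute.zero_left _, by rw [zero_mul]; exact Z.zero_mem⟩
        add_mem' := fun ha hb => ⟨fun B => (ha.1 B).add_left (hb.1 B), by rw [add_mul]; exact Z.add_mem ha.2 hb.2⟩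
        smul_mem' := fun c _ hM => ⟨fun B => (hM.1 B).smul_left c, by
          rw [smul_mul_assoc]; exact Z.smul_mem c hM.2⟩ }
    have hZ' : Inv D Z' := by
      intro l B hB Ψ hΨ
      by_cases hl : l = j
      · subst hl
        rw [← (hΨ.1 B).eq, mul_assoc, emb_mul_emb, hB.mul_adj, emb_one, mul_one]
        exact hΨ
      · refine ⟨fun B' => ((emb_comm_ne' hl B B').mul_left (hΨ.1 B')).mul_left (emb_comm_ne' hl _ B'), ?_⟩
        rw [mul_assoc (SpinTensor.emb l B * Ψ), (emb_comm_ne' hl _ C).eq, ← mul_assoc, mul_assoc (SpinTensor.emb l B)]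
        exact hZ l B hB _ hΨ.2
    obtain ⟨g, g1, g2, g3, -⟩ := ih (Z := Z') hZ' (Φ := upM j θ) ⟨upM_comm j θ, hmem⟩
      (fun h0 => hθ (upM_injective j (by rw [h0, map_zero]))) fun l hl B => by
        rcases Fin.eq_self_or_eq_succAbove j l with rfl | ⟨i, rfl⟩
        · exact upM_comm l θ B
        · rw [← upM_emb]
          exact (hpres i (hoff _ (by simp [hl, Fin.succAbove_ne])) B).map (upM j)
    refine ⟨Function.update g j C, fun l hl => ?_, fun l => ?_, ?_, fun _ => ⟨j, by simpa using hC.ne_one⟩⟩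
    · rw [Finset.mem_insert, not_or] at hl
      rw [Function.update_of_ne hl.1, g1 l hl.2]
    · by_cases hl : l = j
      · subst hl; simpa using Or.inr hC
      · rw [Function.update_of_ne hl]; exact g2 l
    · convert g3.2 using 1
      rw [show SpinTensor.emb (F := F) j C = SpinTensor.pure _ from rfl, pure_mul]
      congr 1
      funext l
      by_cases hl : l = j
      · subst hl; simp [g1 l hj]
      · simp [Function.update_of_ne hl]

end CfsgLib.HallGen.SympWreath
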