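/-
An invariant space of symmetric matrices with a non-scalar element contains a monomial of squares.
-/
import Cfsg.Agent.Lib.HallGen.SympWreath.Extract

set_option autoImplicit false
set_option linter.unusedSectionVars false
set_option maxHeartbeats 400000

namespace CfsgLib.HallGen.SympWreath

open Matrix CfsgLib.Geo CfsgLib.Geo.SpinTensor CfsgLib.Geo.TensorWreath
open scoped Kronecker

variable {F : Type*} [Field F] {k t : ℕ} {D : Factor F k}
  {Z : Submodule F (Matrix (Fin t → Fin k) (Fin t → Fin k) F)}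

/-- Isometries conjugate a pure map inside an invariant space. -/
theorem Inv.pure_conj (hZ : Inv D Z) {g B : Fin t → Matrix (Fin k) (Fin k) F} (hB : ∀ l, D.Iso (B l))
    (hg : SpinTensor.pure g ∈ Z) : SpinTensor.pure (fun l => B l * g l * D.adj (B l)) ∈ Z := by
  classical
  set h : Fin t → Matrix (Fin k) (Fin k) F := fun l => B l * g l * D.adj (B l)
  suffices ∀ u : Finset (Fin t), SpinTensor.pure (u.piecewise h g) ∈ Z by
    have h1 := this Finset.univ
    rwa [Finset.piecewise_univ] at h1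
  intro u
  induction u using Finset.induction with
  | empty => rwa [Finset.piecewise_empty]
  | @insert l u hl ih =>
    convert hZ l _ (hB l) _ ih using 1
    rw [show SpinTensor.emb (F := F) l (B l) = SpinTensor.pure _ from rfl,
      show SpinTensor.emb (F := F) l (D.adj (B l)) = SpinTensor.pure _ from rfl, pure_mul, pure_mul,
      Finset.piecewise_insert]
    congr 1
    funext j
    by_cases hj : j = l
    · subst hj; simp [h, Finset.piecewise_eq_of_notMem _ _ _ hl]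
    · simp [Function.update_of_ne hj]

theorem Smp.sign {C : Matrix (Fin k) (Fin k) F} (h : Smp D C) : ∃ ε : F, ε * ε = 1 ∧ D.adj C = ε • C := by
  obtain ⟨z, -, rfl⟩ | ⟨x, y, -, -, -, rfl⟩ := h
  · exact ⟨-1, by ring, by rw [D.adj_R, neg_one_smul]⟩
  · exact ⟨1, one_mul 1, by rw [D.adj_sub, D.adj_R, D.adj_R, one_smul, neg_sub_neg]⟩

/-- A conjugate whose product has a non-zero contraction. -/
theorem Smp.partner {C : Matrix (Fin k) (Fin k) F} (h : Smp D C) : ∃ (B : Matrix (Fin k) (Fin k) F) (w : Fin k → F),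
    D.Iso B ∧ D.f w ((C * (B * C * D.adj B)) *ᵥ w) ≠ 0 := by
  obtain ⟨z, hz, rfl⟩ | ⟨x, y, hx, hyx, hxy, rfl⟩ := h
  · obtain ⟨g, hg⟩ := D.nondeg hz
    have hgz : D.f g z = -1 := by rw [D.f_swap z g, hg]
    refine ⟨D.weyl z g, z + g, D.iso_weyl hg, ?_⟩
    rw [(D.iso_weyl hg).mul_R_mul, D.weyl_left hg, D.R_mul, hg, one_smul, D.R_mulVec, D.f_smul_right,
      D.f_add_left, D.f_add_right, D.f_self, D.f_self, hgz]
    norm_num
  · obtain ⟨g, hyg, hxg⟩ := D.exists_partner (a := y) (b := x) fun hm => by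
      obtain ⟨c, rfl⟩ := Submodule.mem_span_singleton.1 hm
      have hc : c ≠ 0 := fun h0 => hx (by rw [h0, zero_smul])
      exact hyx (Submodule.mem_span_singleton.2 ⟨c⁻¹, by rw [smul_smul, inv_mul_cancel₀ hc, one_smul]⟩)
    have hy : y ≠ 0 := fun h0 => hyx (by rw [h0]; exact Submodule.zero_mem _)
    have hgx : D.f g x = -1 := by rw [D.f_swap x g, hxg]
    obtain ⟨w, hgw, hyw⟩ := D.exists_partner (a := g) (b := y) fun hm => by
      obtain ⟨c, rfl⟩ := Submodule.mem_span_singleton.1 hm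
      rw [D.f_smul_right, hxg, mul_one] at hxy
      exact hy (by rw [hxy, zero_smul])
    refine ⟨D.weyl x g, w, D.iso_weyl hxg, ?_⟩
    have hyx' : D.f y x = 0 := by rw [D.f_swap x y, hxy, neg_zero]
    have hgy : D.f g y = 0 := by rw [D.f_swap y g, hyg, neg_zero]
    rw [mul_sub (D.weyl x g), sub_mul _ _ (D.adj (D.weyl x g)), (D.iso_weyl hxg).mul_R_mul,
      (D.iso_weyl hxg).mul_R_mul, D.weyl_left hxg, D.weyl_perp hxy hgy, ← Matrix.mulVec_mulVec]
    simp only [Matrix.sub_mulVec, Matrix.mulVec_sub, D.R_mulVec, hgw, hyw, zero_smul, one_smul, sub_zero, zero_sub,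
      hyg, hxg, D.f_neg_right]
    rw [D.f_swap y w, hyw, neg_neg]
    exact one_ne_zero

/-- **The symmetrised product of two pure maps, sandwiched on the common factors.** -/
theorem Inv.jordan_pure (hZ : Inv D Z) (h2 : (2 : F) ≠ 0) {g g' : Fin t → Matrix (Fin k) (Fin k) F}
    (hjor : SpinTensor.pure g * SpinTensor.pure g' + SpinTensor.pure g' * SpinTensor.pure g ∈ Z)
    {s : Finset (Fin t)} (hs : Even s.card) {w : Fin t → Fin k → F}
    (hin : ∀ l ∈ s, (∃ ε : F, ε * ε = 1 ∧ D.adj (g l) = ε • g l ∧ D.adj (g' l) = ε • g' l) ∧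
      D.f (w l) ((g l * g' l) *ᵥ w l) ≠ 0)
    (hoff : ∀ l ∉ s, g l * g' l = g' l * g l) :
    SpinTensor.pure (fun l => if l ∈ s then D.R (w l) (w l) else g l * g' l) ∈ Z := by
  classical
  have h := hZ.sandwich h2 s w hjor
  set T := SpinTensor.pure (fun l => if l ∈ s then D.R (w l) (w l) else g l * g' l)
  set c : Fin t → F := fun l => if l ∈ s then D.f (w l) ((g l * g' l) *ᵥ w l) else 1
  have e1 : monom D s w * (SpinTensor.pure g * SpinTensor.pure g') * monom D s w = (∏ l, c l) • T := by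
    simp only [T, monom, pure_mul]
    rw [← pure_smul_prod]
    congr 1
    funext l
    by_cases hl : l ∈ s
    · simp only [c, if_pos hl]
      rw [mul_assoc, D.mul_R, D.R_mul]
    · simp [c, if_neg hl]
  have e2 : monom D s w * (SpinTensor.pure g' * SpinTensor.pure g) * monom D s w =
      (∏ l, (if l ∈ s then (-1 : F) else 1) * c l) • T := by
    simp only [T, monom, pure_mul]
    rw [← pure_smul_prod]
    congr 1
    funext l
    by_cases hl : l ∈ s
    · simp only [c, if_pos hl]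
      rw [mul_assoc, D.mul_R, D.R_mul]
      congr 1
      obtain ⟨⟨ε, hε, ha, hb⟩, -⟩ := hin l hl
      have hadj : D.adj (g l * g' l) = g' l * g l := by
        rw [D.adj_mul, ha, hb, Matrix.smul_mul, Matrix.mul_smul, smul_smul, hε, one_smul]
      rw [← hadj, D.f_adj, D.f_swap (w l) ((g l * g' l) *ᵥ w l), neg_one_mul]
    · simp [c, if_neg hl, hoff l hl]
  have hsign : (∏ l, if l ∈ s then (-1 : F) else 1) = 1 := by
    rw [Finset.prod_ite_mem, Finset.univ_inter, Finset.prod_const, hs.neg_one_pow]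
  rw [mul_add, add_mul, e1, e2, Finset.prod_mul_distrib, hsign, one_mul, ← add_smul, ← two_mul] at h
  refine (Z.smul_mem_iff (mul_ne_zero h2 (Finset.prod_ne_zero_iff.2 fun l _ => ?_))).1 h
  by_cases hl : l ∈ s
  · simpa [c, hl] using (hin l hl).2
  · simp [c, hl]

variable (D) in
/-- The closure properties of a space of central maps. -/
structure Cl (Z : Submodule F (Matrix (Fin t → Fin k) (Fin t → Fin k) F)) : Prop where
  inv : Inv D Z
  jor : (∃ x y : Fin k → F, x ≠ 0 ∧ y ∉ Submodule.span F {x} ∧ D.f x y = 0) →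
    ∀ Φ ∈ Z, ∀ Ψ ∈ Z, Φ * Ψ + Ψ * Φ ∈ Z
  perm : ∀ (π : Equiv.Perm (Fin t)) (g : Fin t → Matrix (Fin k) (Fin k) F), SpinTensor.pure g ∈ Z →
    SpinTensor.pure (fun l => g (π⁻¹ l)) ∈ Z

/-- An even number of simple factors gives a monomial. -/
theorem Cl.monom_of_even (C : Cl D Z) (h2 : (2 : F) ≠ 0)
    (hxy : ∃ x y : Fin k → F, x ≠ 0 ∧ y ∉ Submodule.span F {x} ∧ D.f x y = 0)
    {g : Fin t → Matrix (Fin k) (Fin k) F} (hg : SpinTensor.pure g ∈ Z) {s : Finset (Fin t)} (hs : Even s.card)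
    (hoff : ∀ l ∉ s, g l = 1) (hin : ∀ l ∈ s, Smp D (g l)) :
    ∃ w : Fin t → Fin k → F, (∀ l ∈ s, w l ≠ 0) ∧ monom D s w ∈ Z := by
  classical
  have hp : ∀ l, ∃ (B : Matrix (Fin k) (Fin k) F) (w : Fin k → F),
      D.Iso B ∧ (l ∈ s → D.f w ((g l * (B * g l * D.adj B)) *ᵥ w) ≠ 0) := fun l => by
    by_cases hl : l ∈ s
    · obtain ⟨B, w, hB, hw⟩ := (hin l hl).partner
      exact ⟨B, w, hB, fun _ => hw⟩
    · exact ⟨1, 0, D.iso_one, fun h => absurd h hl⟩
  choose B w hB hw using hp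
  refine ⟨w, fun l hl h0 => hw l hl (by rw [h0, D.f_zero_left]), ?_⟩
  have h := C.inv.jordan_pure h2 (C.jor hxy _ hg _ (C.inv.pure_conj hB hg)) hs (w := w) (fun l hl => ?_)
    fun l hl => by rw [hoff l hl, mul_one, (hB l).mul_adj]
  · convert h using 1
    rw [monom]
    congr 1
    funext l
    split_ifs with hl
    · rfl
    · rw [hoff l hl, mul_one, (hB l).mul_adj, mul_one]
  · obtain ⟨ε, hε, ha⟩ := (hin l hl).sign
    exact ⟨⟨ε, hε, ha, by rw [D.adj_mul, D.adj_mul, D.adj_adj, ha, Matrix.smul_mul, Matrix.mul_smul, mul_assoc]⟩,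
      hw l hl⟩

/-- **A non-trivial pure map of simple factors gives a monomial.** -/
theorem Cl.exists_monom' [NeZero k] (C : Cl D Z) (h2 : (2 : F) ≠ 0)
    {g : Fin t → Matrix (Fin k) (Fin k) F} (hsimp : ∀ l, g l = 1 ∨ Smp D (g l)) (hg : SpinTensor.pure g ∈ Z)
    (hne : ∃ l, g l ≠ 1) (ht : Even t ∨ ∃ q, g q = 1) :
    ∃ (s : Finset (Fin t)) (w : Fin t → Fin k → F), s.Nonempty ∧ (∀ l ∈ s, w l ≠ 0) ∧ monom D s w ∈ Z := by
  classical
  set s := Finset.univ.filter fun l => g l ≠ 1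
  have hsne : s.Nonempty := by obtain ⟨l, hl⟩ := hne; exact ⟨l, by simp [s, hl]⟩
  have hin : ∀ l ∈ s, Smp D (g l) := fun l hl =>
    (hsimp l).resolve_left (Finset.mem_filter.1 hl).2
  have hoff : ∀ l ∉ s, g l = 1 := fun l hl => by simpa [s] using hl
  by_cases hxy : ∃ x y : Fin k → F, x ≠ 0 ∧ y ∉ Submodule.span F {x} ∧ D.f x y = 0
  swap
  · have hR : ∀ l, ∃ w : Fin k → F, l ∈ s → w ≠ 0 ∧ D.f w (g l *ᵥ w) ≠ 0 := fun l => by
      by_cases hl : l ∈ s
      · obtain ⟨z, hz, e⟩ | ⟨x, y, hx, hy, hf, -⟩ := hin l hl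
        · obtain ⟨w, hw⟩ := D.nondeg hz
          refine ⟨w, fun _ => ⟨fun h0 => by rw [h0, D.f_zero_right] at hw; exact zero_ne_one hw, ?_⟩⟩
          rw [e, D.R_mulVec, hw, one_smul, D.f_swap z w, hw]
          exact neg_ne_zero.2 one_ne_zero
        · exact absurd ⟨x, y, hx, hy, hf⟩ hxy
      · exact ⟨0, fun h => absurd h hl⟩
    choose w hw using hR
    exact ⟨s, w, hsne, fun l hl => (hw l hl).1, C.inv.monom_of_pure h2 hg hoff fun l hl => (hw l hl).2⟩
  rcases Nat.even_or_odd s.card with hs | hs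
  · obtain ⟨w, hw, hm⟩ := C.monom_of_even h2 hxy hg hs hoff hin
    exact ⟨s, w, hsne, hw, hm⟩
  obtain ⟨p, hp⟩ := hsne
  obtain ⟨q, hq⟩ : ∃ q, q ∉ s := by
    rcases ht with ht | ⟨q, hq⟩
    · by_contra! hc
      rw [Finset.eq_univ_of_forall hc, Finset.card_univ, Fintype.card_fin] at hs
      exact (Nat.not_even_iff_odd.2 hs) ht
    · exact ⟨q, by simp [s, hq]⟩
  set π := Equiv.swap p q
  have hpq : p ≠ q := fun h => hq (h ▸ hp)
  have hg' := C.perm π g hg
  have hpart : ∀ l, ∃ (B : Matrix (Fin k) (Fin k) F) (w : Fin k → F),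
      D.Iso B ∧ (l ∈ s.erase p → D.f w ((g l * (B * g l * D.adj B)) *ᵥ w) ≠ 0) ∧ (l ∉ s.erase p → B = 1) := fun l => by
    by_cases hl : l ∈ s.erase p
    · obtain ⟨B, w, hB, hw⟩ := (hin l (Finset.mem_of_mem_erase hl)).partner
      exact ⟨B, w, hB, fun _ => hw, fun h => absurd hl h⟩
    · exact ⟨1, 0, D.iso_one, fun h => absurd h hl, fun _ => rfl⟩
  choose B w hB hw hB1 using hpart
  have hconj := C.inv.pure_conj hB hg'
  set g' : Fin t → Matrix (Fin k) (Fin k) F := fun l => B l * g (π⁻¹ l) * D.adj (B l)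
  have hsame : ∀ l ∈ s.erase p, g (π⁻¹ l) = g l := fun l hl => by
    rw [Equiv.swap_inv, Equiv.swap_apply_of_ne_of_ne (Finset.ne_of_mem_erase hl)
      (show l ≠ q by rintro rfl; exact hq (Finset.mem_of_mem_erase hl))]
  have hother : ∀ l ∉ s.erase p, g' l = g (π⁻¹ l) := fun l hl => by
    simp only [g', hB1 l hl, one_mul, D.adj_one, mul_one]
  have hone : ∀ l ∉ s.erase p, g l = 1 ∨ g' l = 1 := fun l hl => by
    by_cases hlp : l = p
    · right
      rw [hother l hl, hlp, Equiv.swap_inv, Equiv.swap_apply_left, hoff q hq]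
    · exact Or.inl (hoff l fun h => hl (Finset.mem_erase.2 ⟨hlp, h⟩))
  have hs' : Even (s.erase p).card := by
    rw [Finset.card_erase_of_mem hp]
    obtain ⟨r, hr⟩ := hs
    exact ⟨r, by omega⟩
  have h := C.inv.jordan_pure h2 (C.jor hxy _ hg _ hconj) hs' (w := w) (fun l hl => ?_) fun l hl => by
    rcases hone l hl with h1 | h1 <;> rw [h1, mul_one, one_mul]
  swap
  · obtain ⟨ε, hε, ha⟩ := (hin l (Finset.mem_of_mem_erase hl)).sign
    show (∃ ε : F, ε * ε = 1 ∧ D.adj (g l) = ε • g l ∧ D.adj (B l * g (π⁻¹ l) * D.adj (B l)) = ε • (B l * g (π⁻¹ l) * D.adj (B l))) ∧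
      D.f (w l) ((g l * (B l * g (π⁻¹ l) * D.adj (B l))) *ᵥ w l) ≠ 0
    rw [hsame l hl]
    exact ⟨⟨ε, hε, ha, by rw [D.adj_mul, D.adj_mul, D.adj_adj, ha, Matrix.smul_mul, Matrix.mul_smul, mul_assoc]⟩,
      hw l hl⟩
  set g'' : Fin t → Matrix (Fin k) (Fin k) F :=
    fun l => if l ∈ s.erase p then D.R (w l) (w l) else g l * g' l
  have e : ∀ l, l ∈ insert q s → Smp D (g'' l) := fun l hl => by
    by_cases hlp : l ∈ s.erase p
    · refine Or.inl ⟨w l, fun h0 => hw l hlp (by rw [h0, D.f_zero_left]), ?_⟩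
      simp only [g'', if_pos hlp]
    simp only [g'', if_neg hlp]
    rw [hother l hlp, Equiv.swap_inv]
    rcases Finset.mem_insert.1 hl with rfl | hls
    · rw [Equiv.swap_apply_right, hoff l hq, one_mul]
      exact hin p hp
    · obtain rfl : l = p := by
        by_contra hne'
        exact hlp (Finset.mem_erase.2 ⟨hne', hls⟩)
      rw [Equiv.swap_apply_left, hoff q hq, mul_one]
      exact hin l hls
  have e1 : ∀ l ∉ insert q s, g'' l = 1 := fun l hl => by
    rw [Finset.mem_insert, not_or] at hl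
    have hlp : l ∉ s.erase p := fun h => hl.2 (Finset.mem_of_mem_erase h)
    simp only [g'', if_neg hlp]
    rw [hother l hlp, Equiv.swap_inv, Equiv.swap_apply_of_ne_of_ne (fun h => hl.2 (by rw [h]; exact hp)) hl.1, hoff l hl.2, one_mul]
  obtain ⟨w', hw', hm⟩ := C.monom_of_even h2 hxy (g := g'') h (s := insert q s)
    (by rw [Finset.card_insert_of_notMem hq]; exact hs.add_one) e1 e
  exact ⟨insert q s, w', Finset.insert_nonempty q s, hw', hm⟩

/-- A non-trivial pure map of simple factors gives a monomial, for an even number of factors. -/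
theorem Cl.exists_monom [NeZero k] (C : Cl D Z) (h2 : (2 : F) ≠ 0) (ht : Even t)
    {g : Fin t → Matrix (Fin k) (Fin k) F} (hsimp : ∀ l, g l = 1 ∨ Smp D (g l)) (hg : SpinTensor.pure g ∈ Z)
    (hne : ∃ l, g l ≠ 1) :
    ∃ (s : Finset (Fin t)) (w : Fin t → Fin k → F), s.Nonempty ∧ (∀ l ∈ s, w l ≠ 0) ∧ monom D s w ∈ Z :=
  C.exists_monom' h2 hsimp hg hne (Or.inl ht)

end CfsgLib.HallGen.SympWreath
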