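/-
The central maps of one factor of an overgroup of the wreathed symplectic group.
-/
import Cfsg.Agent.Lib.HallGen.SympWreath.Jordan

set_option autoImplicit false
set_option linter.unusedSectionVars false
set_option maxHeartbeats 400000

namespace CfsgLib.HallGen.SympWreath

open Matrix CfsgLib.Geo CfsgLib.Geo.SpinTensor CfsgLib.Geo.TensorWreath
open scoped Kronecker

variable {F : Type*} [Field F] {k : ℕ}

namespace PairBase

variable {α : Type} [Fintype α] [DecidableEq α] {D : Factor F k} {O : Outer F α}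
  {X : Subgroup (GL (α × Fin k) F)} (C : PairBase D O X)
include C

/-- The central coefficients at a vector. -/
def centre (e : Fin k → F) : Submodule F (Matrix α α F) where
  carrier := {φ | Mem X (1 + φ ⊗ₖ D.R e e)}
  zero_mem' := by
    show Mem X _
    rw [Matrix.zero_kronecker, add_zero]
    exact mem_one
  add_mem' {φ ψ} hφ hψ := by
    show Mem X _
    have h := Mem.mul (show Mem X (1 + φ ⊗ₖ D.R e e) from hφ) (show Mem X (1 + ψ ⊗ₖ D.R e e) from hψ)
    rwa [mul_add, mul_one, add_mul, one_mul, kr_mul, D.f_self, zero_smul, add_zero, add_assoc,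
      ← Matrix.add_kronecker] at h
  smul_mem' c φ hφ := by
    show Mem X (1 + (c • φ) ⊗ₖ D.R e e)
    have h0 : Mem X (1 + φ ⊗ₖ D.R e e) := hφ
    have hneg : ∀ {ψ : Matrix α α F}, Mem X (1 + ψ ⊗ₖ D.R e e) → Mem X (1 + (-ψ) ⊗ₖ D.R e e) := fun {ψ} h => by
      refine h.left_inv ?_
      rw [neg_kronecker', mul_add, mul_one, add_mul, one_mul, neg_mul, kr_mul, D.f_self, zero_smul, neg_zero,
        add_zero]
      abel
    have hsq : ∀ a : F, Mem X (1 + ((a * a) • φ) ⊗ₖ D.R e e) := by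
      intro a
      by_cases ha : a = 0
      · rw [ha, mul_zero, zero_smul, Matrix.zero_kronecker, add_zero]
        exact mem_one
      by_cases he : e = 0
      · rw [he, show D.R 0 0 = 0 by simp [Factor.R], Matrix.kronecker_zero, add_zero]
        exact mem_one
      obtain ⟨f, hf⟩ := D.nondeg he
      have h := C.conj_base_centre (D.iso_torus hf ha) h0
      rwa [D.torus_left hf, D.R_smul_left, D.R_smul_right, smul_smul, Matrix.kronecker_smul,
        ← Matrix.smul_kronecker] at h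
    have h4 : (c : F) = ((c + 1) / 2) * ((c + 1) / 2) - ((c - 1) / 2) * ((c - 1) / 2) := by
      field_simp [C.two]
      ring
    rw [h4, sub_smul, sub_eq_add_neg, Matrix.add_kronecker]
    have h := (hsq ((c + 1) / 2)).mul (hneg (hsq ((c - 1) / 2)))
    rwa [mul_add, mul_one, add_mul, one_mul, kr_mul, D.f_self, zero_smul, add_zero, add_assoc] at h

theorem centre_iff {e : Fin k → F} {φ : Matrix α α F} : φ ∈ C.centre e ↔ Mem X (1 + φ ⊗ₖ D.R e e) := Iff.rfl

/-- The central coefficients do not depend on the vector. -/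
theorem centre_move {e e' : Fin k → F} (he : e ≠ 0) (he' : e' ≠ 0) {φ : Matrix α α F} (hφ : φ ∈ C.centre e) :
    φ ∈ C.centre e' := by
  obtain ⟨B, hB, rfl⟩ := D.exists_iso he he'
  exact C.conj_base_centre hB hφ

theorem centre_adj {e : Fin k → F} (he : e ≠ 0) {φ : Matrix α α F} (hφ : φ ∈ C.centre e) : O.adj φ = φ := by
  have h := C.mem_inv (C.centre_iff.1 hφ)
  have ha : ∀ M N : Matrix (α × Fin k) (α × Fin k) F, adjP D O (M + N) = adjP D O M + adjP D O N := fun M N => by
    simp [adjP, Matrix.mul_add, Matrix.add_mul]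
  have h1 : adjP D O (1 : Matrix (α × Fin k) (α × Fin k) F) = 1 := by
    rw [← Matrix.one_kronecker_one, adjP_kronecker, O.adj_one, D.adj_one]
  rw [ha, h1, adjP_kronecker, D.adj_R, kronecker_neg', add_mul, one_mul, neg_mul, mul_add, mul_one, kr_mul, D.f_self,
    zero_smul, add_zero, add_assoc, add_eq_left, add_neg_eq_zero] at h
  exact (coeff_injective he he h).symm

/-- The central coefficients are invariant. -/
theorem centre_conj {e : Fin k → F} {φ A : Matrix α α F} (hA : Mem X (A ⊗ₖ (1 : Matrix (Fin k) (Fin k) F)))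
    (hφ : φ ∈ C.centre e) : A * φ * O.adj A ∈ C.centre e := by
  have h := C.conj hA (C.centre_iff.1 hφ)
  rwa [conj_kronecker D.iso_one, Matrix.one_mulVec] at h

/-- The central coefficients are closed under the symmetrised product. -/
theorem centre_jor {e x y : Fin k → F} (he : e ≠ 0) (hx : x ≠ 0) (hyx : y ∉ Submodule.span F {x})
    (hxy : D.f x y = 0) {φ ψ : Matrix α α F} (hφ : φ ∈ C.centre e) (hψ : ψ ∈ C.centre e) :
    φ * ψ + ψ * φ ∈ C.centre e := by
  obtain ⟨y', hxy', hyy'⟩ := D.exists_partner hyx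
  have hyx0 : D.f y x = 0 := by rw [D.f_swap x y, hxy, neg_zero]
  have hy'x : D.f y' x = 0 := by rw [D.f_swap x y', hxy', neg_zero]
  have hy'y : D.f y' y = -1 := by rw [D.f_swap y y', hyy']
  have hy0 : y ≠ 0 := fun h => hyx (by rw [h]; exact Submodule.zero_mem _)
  have hxy0 : x + y ≠ 0 := fun h => hyx (Submodule.mem_span_singleton.2 ⟨-1, by
    rw [neg_one_smul]; exact neg_eq_of_add_eq_zero_right h⟩)
  have hT : ∀ θ ∈ C.centre e, θ ∈ C.coeffs hxy hxy' hyy' := by
    intro θ hθ
    show Mem X (1 + SH D O x y θ)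
    have h := ((C.centre_iff.1 (C.centre_move he hxy0 hθ)).mul
      (C.centre_iff.1 ((C.centre x).neg_mem (C.centre_move he hx hθ)))).mul
      (C.centre_iff.1 ((C.centre y).neg_mem (C.centre_move he hy0 hθ)))
    convert h using 1
    simp only [SH, C.centre_adj he hθ, D.R_add_left, D.R_add_right, Matrix.kronecker_add, neg_kronecker', mul_add,
      add_mul, mul_one, one_mul, mul_neg, neg_mul, kr_mul, D.f_self, hxy, hyx0, zero_smul, neg_zero, add_zero, neg_neg]
    abel
  have hW := C.conj_base (D.iso_weyl hyy') (show Mem X (1 + SH D O x y ψ) from hT ψ hψ)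
  rw [D.weyl_left hyy', D.weyl_perp hyx0 hy'x] at hW
  have h1 := Mem.comm_sq (show Mem X (1 + SH D O x y φ) from hT φ hφ) hW (SH_mul_SH hxy φ φ) (SH_mul_SH hxy' ψ ψ)
  have e1 : SH D O x y φ * SH D O x y' ψ = (φ * O.adj ψ) ⊗ₖ D.R x x := by
    simp [SH, add_mul, mul_add, kr_mul, D.f_self, hxy', hyx0, hyy']
  have e1' : SH D O x y' ψ * SH D O x y φ = -((ψ * O.adj φ) ⊗ₖ D.R x x) := by
    simp [SH, add_mul, mul_add, kr_mul, D.f_self, hxy, hy'x, hy'y]
  have z1 : SH D O x y φ * SH D O x y' ψ * SH D O x y φ = 0 := by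
    rw [e1]
    simp [SH, mul_add, kr_mul, D.f_self, hxy]
  have z2 : SH D O x y' ψ * SH D O x y φ * SH D O x y' ψ = 0 := by
    rw [e1']
    simp [SH, mul_add, kr_mul, D.f_self, hxy']
  have z3 : SH D O x y φ * SH D O x y' ψ * SH D O x y φ * SH D O x y' ψ = 0 := by rw [z1, zero_mul]
  rw [z3, z2, z1, e1, e1', sub_zero, add_zero, add_zero, sub_neg_eq_add, add_assoc, ← Matrix.add_kronecker,
    C.centre_adj he hφ, C.centre_adj he hψ] at h1
  exact C.centre_move hx he h1

end PairBase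

/-! ### The whole tensor power -/

variable {t : ℕ} {D : Factor F k}

theorem perm_exists (s u : Finset (Fin t)) (h : s.card = u.card) :
    ∃ π : Equiv.Perm (Fin t), ∀ l, π l ∈ u ↔ l ∈ s := by
  classical
  have e : {x // x ∈ s} ≃ {x // x ∈ u} := Fintype.equivOfCardEq (by simpa using h)
  refine ⟨e.extendSubtype, fun l => ⟨fun hl => ?_, fun hl => Equiv.extendSubtype_mem e l hl⟩⟩
  by_contra hl'
  exact Equiv.extendSubtype_not_mem e l hl' hl

theorem pure_ne_zero {g : Fin t → Matrix (Fin k) (Fin k) F} (h : ∀ l, g l ≠ 0) : SpinTensor.pure g ≠ 0 := by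
  intro h0
  have : ∀ l, ∃ a b, g l a b ≠ 0 := fun l => by
    by_contra! hc
    exact h l (by ext a b; exact hc a b)
  choose a b hab using this
  exact Finset.prod_ne_zero_iff.2 (fun l _ => hab l) (congrFun (congrFun h0 a) b)

theorem monom_ne_zero [NeZero k] {s : Finset (Fin t)} {ξ : Fin t → Fin k → F} (h : ∀ l ∈ s, ξ l ≠ 0) :
    monom D s ξ ≠ 0 := pure_ne_zero fun l => by
  split_ifs with hl
  · exact D.R_ne_zero (h l hl) (h l hl)
  · exact one_ne_zero

theorem adjV_monom (s : Finset (Fin t)) (ξ : Fin t → Fin k → F) :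
    adjV D (monom D s ξ) = (-1 : F) ^ s.card • monom D s ξ := by
  classical
  rw [monom, adjV_pure, show (-1 : F) ^ s.card = ∏ l, if l ∈ s then (-1 : F) else 1 by
    rw [Finset.prod_ite_mem, Finset.univ_inter, Finset.prod_const], ← pure_smul_prod]
  congr 1
  funext l
  split_ifs with hl
  · rw [D.adj_R, neg_one_smul]
  · rw [D.adj_one, one_smul]

theorem monom_sq {s : Finset (Fin t)} (hs : s.Nonempty) (ξ : Fin t → Fin k → F) :
    monom D s ξ * monom D s ξ = 0 := by
  classical
  obtain ⟨l, hl⟩ := hs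
  rw [← Finset.insert_erase hl]
  nth_rewrite 1 [(monom_insert (Finset.notMem_erase l s) ξ).2]
  rw [(monom_insert (Finset.notMem_erase l s) ξ).1, mul_assoc, ← mul_assoc (SpinTensor.emb l _), embR_sq, zero_mul,
    mul_zero]

theorem sub_monom (i : Fin (t + 1)) {J : Finset (Fin (t + 1))} {P : Finset (Fin t)}
    (h : ∀ j, i.succAbove j ∈ J ↔ j ∈ P) (ξ : Fin (t + 1) → Fin k → F) :
    (monom D J ξ).submatrix (sp i) (sp i) =
      monom D P (fun j => ξ (i.succAbove j)) ⊗ₖ (if i ∈ J then D.R (ξ i) (ξ i) else 1) := by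
  rw [monom, sub_pure, monom]
  simp only [h]

/-- A matrix commuting with one factor lives on the others. -/
theorem exists_upM [NeZero k] (D : Factor F k) (i : Fin (t + 1)) {Φ : Matrix (Fin (t + 1) → Fin k) (Fin (t + 1) → Fin k) F}
    (h : ∀ B : Matrix (Fin k) (Fin k) F, Commute Φ (SpinTensor.emb i B)) : ∃ θ, Φ = upM i θ := by
  classical
  obtain ⟨e, he⟩ : ∃ e : Fin k → F, e ≠ 0 := ⟨Pi.single 0 1, Function.ne_iff.2 ⟨0, by simp⟩⟩
  obtain ⟨e', hee⟩ := D.nondeg he
  set Φs := Φ.submatrix (sp i) (sp i)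
  refine ⟨out D (Fin t → Fin k) e * Φs * inc (Fin t → Fin k) e', eq_of_sub i ?_⟩
  rw [sub_upM]
  refine ext_inc fun q => ?_
  set z : Fin k → F := Pi.single q (1 : F)
  have hz : ((1 : Matrix (Fin t → Fin k) (Fin t → Fin k) F) ⊗ₖ D.R z e) * inc (Fin t → Fin k) e' =
      inc (Fin t → Fin k) z := by
    rw [kronecker_inc, D.R_mulVec, hee, one_smul, Matrix.mul_one]
  have hc : Φs * ((1 : Matrix (Fin t → Fin k) (Fin t → Fin k) F) ⊗ₖ D.R z e) =
      ((1 : Matrix (Fin t → Fin k) (Fin t → Fin k) F) ⊗ₖ D.R z e) * Φs := by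
    rw [← sub_emb i (D.R z e), ← sub_mul_sub, ← sub_mul_sub, (h _).eq]
  rw [kronecker_inc, Matrix.one_mulVec]
  conv_lhs => rw [← hz, ← Matrix.mul_assoc, hc, ← inc_out, Matrix.mul_one]
  simp only [Matrix.mul_assoc]

variable {X : Subgroup (GL (Fin (t + 1) → Fin k) F)}

theorem Hyp.pairBase (H : Hyp D X) (i : Fin (t + 1)) : PairBase D (outerT D t) (X.map (spGL i).toMonoidHom) where
  two := H.two
  iso := by
    rintro - ⟨g, hg, rfl⟩
    rw [MulEquiv.coe_toMonoidHom, spGL_val, adjP_sub, ← sub_mul_sub, H.iso g hg, sub_one]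
  base B hB := by
    rw [← sub_emb i]
    exact (mem_map_sub i).2 (H.base i B hB)

theorem Hyp.perm_mem (H : Hyp D X) (ht : 2 ≤ t) (π : Equiv.Perm (Fin (t + 1))) : permGL k F π ∈ X := by
  classical
  induction π using Equiv.Perm.swap_induction_on with
  | one => rw [permGL_one]; exact X.one_mem
  | swap_mul f a b hab ih =>
    obtain ⟨c, hca, hcb⟩ : ∃ c, c ≠ a ∧ c ≠ b := by
      obtain ⟨c, -, hc⟩ := Finset.exists_mem_notMem_of_card_lt_card (s := ({a, b} : Finset (Fin (t + 1))))
        (t := Finset.univ) (lt_of_le_of_lt Finset.card_le_two (by rw [Finset.card_univ, Fintype.card_fin]; omega))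
      simp only [Finset.mem_insert, Finset.mem_singleton, not_or] at hc
      exact ⟨c, hc⟩
    have h7 := H.lift (by omega) 1 (Equiv.swap a b) c (Equiv.swap_apply_of_ne_of_ne hca hcb) rfl
    rw [pureGL_one, one_mul] at h7
    rw [← permGL_mul]
    refine X.mul_mem (h7 ?_) ih
    show adjV D (perm _) * perm _ = 1
    rw [adjV_perm, perm_mul, inv_mul_cancel, perm_one]

variable (D) in
/-- All monomials over a set of factors are in the group. -/
def Full (X : Subgroup (GL (Fin (t + 1) → Fin k) F)) (J : Finset (Fin (t + 1))) : Prop :=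
  ∀ ξ : Fin (t + 1) → Fin k → F, (∀ l ∈ J, ξ l ≠ 0) → ∀ c : F, Mem X (1 + c • monom D J ξ)

theorem Full.move (H : Hyp D X) (ht : 2 ≤ t) {J K : Finset (Fin (t + 1))} (h : Full D X J)
    (hcard : J.card = K.card) : Full D X K := by
  intro ξ hξ c
  obtain ⟨π, hπ⟩ := perm_exists J K hcard
  obtain ⟨g, hg, eg⟩ := h (fun l => ξ (π l)) (fun l hl => hξ _ ((hπ l).2 hl)) c
  refine ⟨permGL k F π * g * (permGL k F π)⁻¹,
    X.mul_mem (X.mul_mem (H.perm_mem ht π) hg) (X.inv_mem (H.perm_mem ht π)), ?_⟩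
  have hi : (((permGL k F π)⁻¹ : GL (Fin (t + 1) → Fin k) F) : Matrix (Fin (t + 1) → Fin k) (Fin (t + 1) → Fin k) F) =
      perm π⁻¹ := Units.inv_eq_of_mul_eq_one_right (by
    show perm π * perm π⁻¹ = 1
    rw [perm_mul, mul_inv_cancel, perm_one])
  rw [Units.val_mul, Units.val_mul, eg, hi, show ((permGL k F π : GL (Fin (t + 1) → Fin k) F) : Matrix (Fin (t + 1) → Fin k) (Fin (t + 1) → Fin k) F) = perm π from rfl, mul_add, add_mul,
    mul_one, perm_mul, mul_inv_cancel, perm_one, mul_smul_comm, smul_mul_assoc]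
  congr 2
  rw [monom, monom, perm_mul_pure, mul_assoc, perm_mul, mul_inv_cancel, perm_one, mul_one]
  congr 1
  funext l
  have h1 : π⁻¹ l ∈ J ↔ l ∈ K := by
    rw [← hπ (π⁻¹ l)]; simp
  simp only [h1, show π (π⁻¹ l) = l by simp]

end CfsgLib.HallGen.SympWreath
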