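/-
An overgroup with a non-scalar central map contains all monomials of squares over all factors.
-/
import Cfsg.Agent.Lib.HallGen.SympWreath.Central

set_option autoImplicit false
set_option linter.unusedSectionVars false
set_option maxHeartbeats 400000

namespace CfsgLib.HallGen.SympWreath

open Matrix CfsgLib.Geo CfsgLib.Geo.SpinTensor CfsgLib.Geo.TensorWreath
open scoped Kronecker

variable {F : Type*} [Field F] {k t : ℕ} {D : Factor F k} {X : Subgroup (GL (Fin (t + 1) → Fin k) F)}

namespace Hyp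

/-- The central coefficients of one factor form a closed space. -/
theorem cl_centre (H : Hyp D X) (ht : 2 ≤ t) (i : Fin (t + 1)) {e : Fin k → F} (he : e ≠ 0) :
    Cl D ((H.pairBase i).centre e) where
  inv j B hB φ hφ := by
    have hA : Mem (X.map (spGL i).toMonoidHom) (SpinTensor.emb j B ⊗ₖ (1 : Matrix (Fin k) (Fin k) F)) := by
      rw [← sub_emb_succAbove i j B]
      exact (mem_map_sub i).2 (H.base (i.succAbove j) B hB)
    have h := (H.pairBase i).centre_conj hA hφ
    rwa [show (outerT D t).adj (SpinTensor.emb j B) = SpinTensor.emb j (D.adj B) from adjV_emb j B] at h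
  jor := fun ⟨x, y, hx, hyx, hxy⟩ φ hφ ψ hψ => (H.pairBase i).centre_jor he hx hyx hxy hφ hψ
  perm π g hg := by
    have hA : Mem (X.map (spGL i).toMonoidHom) (perm π ⊗ₖ (1 : Matrix (Fin k) (Fin k) F)) := by
      rw [← sub_upM i (perm π)]
      refine (mem_map_sub i).2 ⟨upGL i (permGL k F π), ?_, upGL_val i _⟩
      have h1 := upGL_std (F := F) i (1 : Fin t → GL (Fin k) F) π
      rw [pureGL_one, one_mul] at h1
      have h2 : (Fin.insertNth (α := fun _ : Fin (t + 1) => GL (Fin k) F) i 1 (1 : Fin t → GL (Fin k) F)) = 1 := by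
        funext l
        rcases Fin.eq_self_or_eq_succAbove i l with rfl | ⟨j, rfl⟩ <;> simp
      rw [h1, h2, pureGL_one, one_mul]
      exact H.perm_mem ht _
    have h := (H.pairBase i).centre_conj hA hg
    rw [show (outerT D t).adj (perm π) = perm π⁻¹ from adjV_perm π, perm_mul_pure, mul_assoc, perm_mul,
      mul_inv_cancel, perm_one, mul_one] at h
    exact h

/-- The monomials of the central coefficients are the monomials through the factor. -/
theorem full_of_centre (H : Hyp D X) [NeZero k] {i : Fin (t + 1)} {e : Fin k → F} (he : e ≠ 0) {P : Finset (Fin t)}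
    (hP : ∀ ξ : Fin t → Fin k → F, (∀ l ∈ P, ξ l ≠ 0) → monom D P ξ ∈ (H.pairBase i).centre e)
    {J : Finset (Fin (t + 1))} (hi : i ∈ J) (hJ : ∀ j, i.succAbove j ∈ J ↔ j ∈ P) : Full D X J := by
  intro ξ hξ c
  refine (mem_map_sub i).1 ?_
  have h := (H.pairBase i).centre_move he (hξ i hi)
    (((H.pairBase i).centre e).smul_mem c (hP _ fun l hl => hξ _ ((hJ l).2 hl)))
  rw [show ∀ M N : Matrix (Fin (t + 1) → Fin k) (Fin (t + 1) → Fin k) F,
    (M + N).submatrix (sp i) (sp i) = M.submatrix (sp i) (sp i) + N.submatrix (sp i) (sp i) from fun _ _ => rfl,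
    show ∀ M : Matrix (Fin (t + 1) → Fin k) (Fin (t + 1) → Fin k) F,
    (c • M).submatrix (sp i) (sp i) = c • M.submatrix (sp i) (sp i) from fun _ => rfl,
    sub_one, sub_monom i hJ, if_pos hi, ← Matrix.smul_kronecker]
  exact h

/-- A full set gives conjugations of the central coefficients of a factor outside it. -/
theorem centre_comm (H : Hyp D X) {i : Fin (t + 1)} {e : Fin k → F} {Q : Finset (Fin t)} (hQ : Q.Nonempty)
    {J : Finset (Fin (t + 1))} (hi : i ∉ J) (hJ : ∀ j, i.succAbove j ∈ J ↔ j ∈ Q) (hfull : Full D X J)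
    {η : Fin t → Fin k → F} (hη : ∀ l ∈ Q, η l ≠ 0) {Φ : Matrix (Fin t → Fin k) (Fin t → Fin k) F}
    (hΦ : Φ ∈ (H.pairBase i).centre e) :
    monom D Q η * Φ - Φ * monom D Q η ∈ (H.pairBase i).centre e := by
  set M := monom D Q η with hMdef
  have hM : M * M = 0 := monom_sq hQ η
  have key : ∀ c : F, (1 + c • M) * Φ * (1 - c • M) ∈ (H.pairBase i).centre e := by
    intro c
    set ξ : Fin (t + 1) → Fin k → F := i.insertNth 0 η with hξdef
    have hξ : ∀ l ∈ J, ξ l ≠ 0 := fun l hl => by
      rcases Fin.eq_self_or_eq_succAbove i l with rfl | ⟨j, rfl⟩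
      · exact absurd hl hi
      · rw [hξdef, Fin.insertNth_apply_succAbove]; exact hη j ((hJ j).1 hl)
    have hA : Mem (X.map (spGL i).toMonoidHom) ((1 + c • M) ⊗ₖ (1 : Matrix (Fin k) (Fin k) F)) := by
      have h := (mem_map_sub i).2 (hfull ξ hξ c)
      rw [show ∀ M N : Matrix (Fin (t + 1) → Fin k) (Fin (t + 1) → Fin k) F,
        (M + N).submatrix (sp i) (sp i) = M.submatrix (sp i) (sp i) + N.submatrix (sp i) (sp i) from fun _ _ => rfl,
        show ∀ M : Matrix (Fin (t + 1) → Fin k) (Fin (t + 1) → Fin k) F,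
        (c • M).submatrix (sp i) (sp i) = c • M.submatrix (sp i) (sp i) from fun _ => rfl,
        sub_one, sub_monom i hJ, if_neg hi, ← Matrix.smul_kronecker] at h
      rw [Matrix.add_kronecker, Matrix.one_kronecker_one]
      convert h using 4
      exact monom_congr fun l _ => by rw [hξdef, Fin.insertNth_apply_succAbove]
    have h := (H.pairBase i).centre_conj hA hΦ
    have hinv : (1 + c • M) * (1 - c • M) = 1 := by
      rw [mul_sub, mul_one, add_mul, one_mul, smul_mul_smul_comm, hM, smul_zero, add_zero, add_sub_cancel_right]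
    have hadj : (outerT D t).adj (1 + c • M) = 1 - c • M := by
      rcases isEmpty_or_nonempty (Fin k) with hk | hk
      · haveI : IsEmpty (Fin t → Fin k) := ⟨fun g => hk.elim (g hQ.choose)⟩
        exact Subsingleton.elim _ _
      have h2 := (H.pairBase i).mem_inv hA
      rw [adjP_kronecker, D.adj_one, ← Matrix.mul_kronecker_mul, mul_one, ← Matrix.one_kronecker_one] at h2
      obtain ⟨b⟩ := hk
      have h3 : (outerT D t).adj (1 + c • M) * (1 + c • M) = 1 := by
        ext x y
        have h4 := congrFun (congrFun h2 (x, b)) (y, b)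
        simpa [Matrix.one_apply] using h4
      exact left_inv_eq_right_inv h3 hinv
    rwa [hadj] at h
  have h1 := key 1
  have h2 := key (-1)
  rw [one_smul] at h1
  rw [neg_one_smul, sub_neg_eq_add, ← sub_eq_add_neg] at h2
  exact (mem_of_pair H.two hΦ h1 h2).2

/-- The monomials grow by two factors. -/
theorem grow_even (H : Hyp D X) [NeZero k] (ht : 2 ≤ t) {i : Fin (t + 1)} {e : Fin k → F} (he : e ≠ 0) :
    ∀ (n : ℕ) (P : Finset (Fin t)), t - P.card = n → P.Nonempty → Even P.card →
      (∀ ξ : Fin t → Fin k → F, (∀ l ∈ P, ξ l ≠ 0) → monom D P ξ ∈ (H.pairBase i).centre e) →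
      ∃ P' : Finset (Fin t), P'.Nonempty ∧ Even P'.card ∧ t ≤ P'.card + 1 ∧
        ∀ ξ : Fin t → Fin k → F, (∀ l ∈ P', ξ l ≠ 0) → monom D P' ξ ∈ (H.pairBase i).centre e := by
  classical
  intro n
  induction n using Nat.strong_induction_on with
  | _ n ih =>
    intro P hn hne hev hP
    rcases Nat.lt_or_ge (P.card + 1) t with hlt2 | hge
    swap
    · exact ⟨P, hne, hev, hge, hP⟩
    obtain ⟨p, hp⟩ := hne
    obtain ⟨T, hT, hTc⟩ := Finset.exists_subset_card_eq (s := Finset.univ \ P) (n := 2)
      (by rw [Finset.card_sdiff_of_subset (Finset.subset_univ P), Finset.card_univ, Fintype.card_fin]; omega)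
    have hTP : Disjoint T P := Finset.disjoint_of_subset_left hT Finset.sdiff_disjoint
    set Q := T ∪ P.erase p
    have hPQ : P ∩ Q = P.erase p := by
      ext l
      have hdis : l ∈ T → l ∉ P := fun h h' => Finset.disjoint_left.1 hTP h h'
      simp only [Q, Finset.mem_inter, Finset.mem_union, Finset.mem_erase]
      tauto
    have hunion : P ∪ Q = P ∪ T := by
      ext l
      simp only [Q, Finset.mem_union, Finset.mem_erase]
      tauto
    have hQc : Q.card = P.card + 1 := by
      rw [Finset.card_union_of_disjoint (hTP.mono_right (Finset.erase_subset _ _)), hTc, Finset.card_erase_of_mem hp]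
      have := Finset.card_pos.2 ⟨p, hp⟩
      omega
    have hQne : Q.Nonempty := Finset.card_pos.1 (by omega)
    have hJ : Full D X (insert i (P.map i.succAboveEmb)) :=
      H.full_of_centre he hP (Finset.mem_insert_self _ _) fun j => by
        simp [Fin.succAbove_ne]
    have hJ' : Full D X (Q.map i.succAboveEmb) := hJ.move H ht (by
      rw [Finset.card_insert_of_notMem (by simp [Fin.succAbove_ne]), Finset.card_map, Finset.card_map, hQc])
    have hnew : ∀ ζ : Fin t → Fin k → F, (∀ l ∈ P ∪ T, ζ l ≠ 0) → monom D (P ∪ T) ζ ∈ (H.pairBase i).centre e := by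
      intro ζ hζ
      rw [← hunion] at hζ ⊢
      refine (H.cl_centre ht i he).inv.monom_union H.two hP (fun η hη Φ hΦ =>
        H.centre_comm hQne (by simp [Fin.succAbove_ne]) (fun j => by simp) hJ' hη hΦ) ?_ hζ
      rw [hPQ, Finset.card_erase_of_mem hp]
      obtain ⟨a, ha⟩ := hev
      have := Finset.card_pos.2 ⟨p, hp⟩
      exact ⟨a - 1, by omega⟩
    have hc : (P ∪ T).card = P.card + 2 := by rw [Finset.card_union_of_disjoint hTP.symm, hTc]
    exact ih (t - (P.card + 2)) (by omega) (P ∪ T) (by rw [hc]) ⟨p, Finset.mem_union_left _ hp⟩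
      (by rw [hc]; exact hev.add even_two) hnew

/-- The monomials grow to all factors when their number is even. -/
theorem grow (H : Hyp D X) [NeZero k] (ht : 2 ≤ t) (ht' : Even t) {i : Fin (t + 1)} {e : Fin k → F} (he : e ≠ 0)
    (n : ℕ) (P : Finset (Fin t)) (hn : t - P.card = n) (hne : P.Nonempty) (hev : Even P.card)
    (hP : ∀ ξ : Fin t → Fin k → F, (∀ l ∈ P, ξ l ≠ 0) → monom D P ξ ∈ (H.pairBase i).centre e)
    (ξ : Fin t → Fin k → F) (hξ : ∀ l, ξ l ≠ 0) : monom D Finset.univ ξ ∈ (H.pairBase i).centre e := by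
  obtain ⟨P', -, hev', hge, hP'⟩ := H.grow_even ht he n P hn hne hev hP
  have hc : P'.card = t := by
    obtain ⟨a, ha⟩ := hev'
    obtain ⟨b, hb⟩ := ht'
    have := (Finset.card_le_univ P').trans_eq (Fintype.card_fin t)
    omega
  rw [← Finset.eq_univ_of_card P' (by rw [hc, Fintype.card_fin])]
  exact hP' ξ fun l _ => hξ l

/-- **A non-scalar central map gives all monomials over all factors.** -/
theorem full_univ (H : Hyp D X) [NeZero k] (ht : 2 ≤ t) (ht' : Even t) (hX : ¬ NG D X) : Full D X Finset.univ := by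
  classical
  simp only [NG] at hX
  push Not at hX
  obtain ⟨i, e, Φ, he, hcomm, hmem, hns⟩ := hX
  obtain ⟨θ, rfl⟩ := exists_upM D i hcomm
  set Z := (H.pairBase i).centre e
  have hθZ : θ ∈ Z := by
    have h := (mem_map_sub i).2 hmem
    rw [show (1 + upM i θ * SpinTensor.emb i (D.R e e)).submatrix (sp i) (sp i) =
      1 + θ ⊗ₖ D.R e e by rw [← sub_upM_mul_emb i θ (D.R e e), ← sub_one i]; rfl] at h
    exact h
  have hns' : ¬ ∃ c : F, θ = c • 1 := fun ⟨c, hc⟩ => hns c (by rw [hc, map_smul, map_one, smul_one_mul])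
  have hθ0 : θ ≠ 0 := fun h0 => hns' ⟨0, by rw [h0, zero_smul]⟩
  obtain ⟨s, rfl⟩ : ∃ s, t = s + 1 := ⟨t - 1, by omega⟩
  obtain ⟨g, -, hg2, hg3, hg4⟩ :=
    (H.cl_centre ht i he).inv.exists_pure H.two Finset.univ hθZ hθ0 fun l hl => absurd (Finset.mem_univ l) hl
  obtain ⟨P, w, hPne, hw, hPw⟩ := (H.cl_centre ht i he).exists_monom H.two ht' hg2 hg3 (hg4 hns')
  have hev : Even P.card := by
    by_contra hodd
    have h1 := (H.pairBase i).centre_adj he hPw
    rw [show (outerT D (s + 1)).adj (monom D P w) = (-1 : F) ^ P.card • monom D P w from adjV_monom P w,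
      (Nat.not_even_iff_odd.1 hodd).neg_one_pow, neg_one_smul, neg_eq_iff_add_eq_zero, ← two_smul F] at h1
    exact monom_ne_zero hw ((smul_eq_zero.1 h1).resolve_left H.two)
  have hall := H.grow ht ht' he _ P rfl hPne hev fun ξ hξ => (H.cl_centre ht i he).inv.monom_move hw hξ hPw
  exact H.full_of_centre (i := i) he (P := Finset.univ) (fun ξ hξ => hall ξ fun l => hξ l (Finset.mem_univ l))
    (Finset.mem_univ i) fun j => by simp

end Hyp

end CfsgLib.HallGen.SympWreath
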