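/-
An odd tensor power: the monomials of squares over all factors generate the isometry group.
-/
import Cfsg.Agent.Lib.HallGen.SympWreath.Full
import Cfsg.Agent.Lib.Geo.MixTensor.Closure

set_option autoImplicit false
set_option linter.unusedSectionVars false
set_option maxHeartbeats 400000

namespace CfsgLib.HallGen.SympWreath

open Matrix CfsgLib.Geo CfsgLib.Geo.SpinTensor CfsgLib.Geo.TensorWreath CfsgLib.Classical CfsgLib.Classical.Symp
open scoped Kronecker

variable {F : Type*} [Field F] {k : ℕ}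

/-- A pure tensor not killed by three given non-zero vectors. -/
theorem exists_pvec_three (h2 : (2 : F) ≠ 0) : ∀ (n : ℕ) (w₁ w₂ w₃ : (Fin n → Fin k) → F), w₁ ≠ 0 → w₂ ≠ 0 →
    w₃ ≠ 0 → ∃ ξ : Fin n → Fin k → F, w₁ ⬝ᵥ pvec ξ ≠ 0 ∧ w₂ ⬝ᵥ pvec ξ ≠ 0 ∧ w₃ ⬝ᵥ pvec ξ ≠ 0 := by
  intro n
  induction n with
  | zero =>
    intro w₁ w₂ w₃ h₁ h₂ h₃
    have key : ∀ w : (Fin 0 → Fin k) → F, w ≠ 0 → w ⬝ᵥ pvec (fun l => l.elim0 : Fin 0 → Fin k → F) ≠ 0 := by
      intro w hw h
      refine hw (funext fun c => ?_)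
      rw [dotProduct, Fintype.sum_eq_single c fun b hb => absurd (Subsingleton.elim b c) hb] at h
      simpa [pvec] using h
    exact ⟨_, key _ h₁, key _ h₂, key _ h₃⟩
  | succ n ih =>
    intro w₁ w₂ w₃ h₁ h₂ h₃
    set L : ((Fin (n + 1) → Fin k) → F) → Matrix (Fin n → Fin k) (Fin k) F :=
      fun w => Matrix.of fun p q => w (sp 0 (p, q)) with hL
    have hne : ∀ w, w ≠ 0 → LinearMap.ker (L w).mulVecLin ≠ ⊤ := by
      intro w hw htop
      refine hw (funext fun c => ?_)
      obtain ⟨⟨p, q⟩, rfl⟩ := (sp 0).surjective c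
      have h := LinearMap.congr_fun (LinearMap.ker_eq_top.1 htop) (Pi.single q 1)
      simpa [hL] using congrFun h p
    obtain ⟨a, ha₁, ha₂, ha₃⟩ := MixTensor.exists_avoid_three h2 (hne _ h₁) (hne _ h₂) (hne _ h₃)
    obtain ⟨η, e₁, e₂, e₃⟩ := ih (L w₁ *ᵥ a) (L w₂ *ᵥ a) (L w₃ *ᵥ a) (fun h => ha₁ (LinearMap.mem_ker.2 h))
      (fun h => ha₂ (LinearMap.mem_ker.2 h)) (fun h => ha₃ (LinearMap.mem_ker.2 h))
    have key : ∀ w, w ⬝ᵥ pvec (Fin.insertNth (α := fun _ : Fin (n + 1) => Fin k → F) 0 a η) =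
        (L w *ᵥ a) ⬝ᵥ pvec η := by
      intro w
      rw [dotProduct, ← (sp (m := k) (0 : Fin (n + 1))).sum_comp, Fintype.sum_prod_type]
      simp only [dotProduct, Matrix.mulVec, hL, Matrix.of_apply, Finset.sum_mul]
      refine Finset.sum_congr rfl fun p _ => Finset.sum_congr rfl fun q _ => ?_
      rw [pvec, pvec, Fin.prod_univ_succAbove _ 0, Fin.insertNth_apply_same, sp_self, mul_assoc]
      simp only [Fin.insertNth_apply_succAbove, sp_succAbove]
    exact ⟨_, by rw [key]; exact e₁, by rw [key]; exact e₂, by rw [key]; exact e₃⟩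

/-- A linear automorphism as a matrix. -/
def equivGL {n : Type} [Fintype n] [DecidableEq n] : ((n → F) ≃ₗ[F] (n → F)) →* GL n F where
  toFun g := ⟨LinearMap.toMatrix' (g : (n → F) →ₗ[F] (n → F)), LinearMap.toMatrix' (g.symm : (n → F) →ₗ[F] (n → F)),
    by rw [← LinearMap.toMatrix'_comp]; simp, by rw [← LinearMap.toMatrix'_comp]; simp⟩
  map_one' := Units.ext (by simp [LinearMap.toMatrix'_id])
  map_mul' g h := Units.ext (by
    show LinearMap.toMatrix' _ = LinearMap.toMatrix' _ * LinearMap.toMatrix' _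
    rw [← LinearMap.toMatrix'_comp]
    rfl)

theorem equivGL_mulVec {n : Type} [Fintype n] [DecidableEq n] (g : (n → F) ≃ₗ[F] (n → F)) (x : n → F) :
    (equivGL g : Matrix n n F) *ᵥ x = g x :=
  LinearMap.toMatrix'_mulVec _ x

variable {t : ℕ} {D : Factor F k} {X : Subgroup (GL (Fin (t + 1) → Fin k) F)}

theorem monom_univ_mulVec (ξ : Fin (t + 1) → Fin k → F) (x : (Fin (t + 1) → Fin k) → F) :
    monom D Finset.univ ξ *ᵥ x = (pvec ξ ⬝ᵥ ((outerT D (t + 1)).G *ᵥ x)) • pvec ξ := by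
  have h1 : monom D Finset.univ ξ = Matrix.vecMulVec (pvec ξ) (pvec ξ ᵥ* (outerT D (t + 1)).G) := by
    ext c c'
    rw [Matrix.vecMulVec_apply, monom, pure_apply]
    simp only [Finset.mem_univ, if_true, Factor.R, Matrix.vecMulVec_apply, Finset.prod_mul_distrib]
    congr 1
    show _ = ∑ d, pvec ξ d * SpinTensor.pure _ d c'
    simp only [pvec, pure_apply, ← Finset.prod_mul_distrib, Matrix.vecMul, dotProduct]
    exact Fintype.prod_sum fun l p => ξ l p * D.J p (c' l)
  rw [h1, Matrix.dotProduct_mulVec]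
  funext c
  rw [Pi.smul_apply, smul_eq_mul, Matrix.mulVec, dotProduct, dotProduct, Finset.sum_mul]
  exact Finset.sum_congr rfl fun d _ => by rw [Matrix.vecMulVec_apply]; ring

/-- **The monomials over all factors generate the isometry group.** -/
theorem mem_of_full_univ (h2 : (2 : F) ≠ 0) (ht : Even t) (hfull : Full D X Finset.univ)
    {x : GL (Fin (t + 1) → Fin k) F}
    (hx : adjV D (x : Matrix (Fin (t + 1) → Fin k) (Fin (t + 1) → Fin k) F) *
      (x : Matrix (Fin (t + 1) → Fin k) (Fin (t + 1) → Fin k) F) = 1) : x ∈ X := by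
  classical
  set O := outerT D (t + 1)
  set B : LinearMap.BilinForm F ((Fin (t + 1) → Fin k) → F) := Matrix.toBilin' O.G with hB
  have hBv : ∀ u v, B u v = u ⬝ᵥ (O.G *ᵥ v) := fun u v => Matrix.toBilin'_apply' _ _ _
  have hskew : ∀ u v, B v u = -B u v := fun u v => by
    rw [hBv, hBv]
    conv_lhs => rw [dotProduct_comm, ← Matrix.vecMul_transpose, ← Matrix.dotProduct_mulVec]
    rw [show O.Gᵀ = O.σ • O.G from O.symm, show O.σ = ((-1 : F) ^ (t + 1)) from rfl, ht.add_one.neg_one_pow,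
      neg_one_smul, Matrix.neg_mulVec, dotProduct_neg]
  have hA : B.IsAlt := fun v => by
    have h := hskew v v
    rw [eq_neg_iff_add_eq_zero, ← two_mul] at h
    exact (mul_eq_zero.1 h).resolve_left h2
  have hBn : B.Nondegenerate := by
    refine LinearMap.BilinForm.nondegenerate_toBilin'_of_det_ne_zero' _ fun h0 => ?_
    have := congrArg Matrix.det O.mul_inv
    rw [Matrix.det_mul, h0, zero_mul, Matrix.det_one] at this
    exact zero_ne_one this
  set K : Subgroup (Sp B) := X.comap ((equivGL (F := F)).comp (Sp B).subtype)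
  have hpure : ∀ ξ : Fin (t + 1) → Fin k → F, MixTensor.Tr hA K (pvec ξ) := by
    intro ξ c
    show equivGL (tr hA (pvec ξ) c : ((Fin (t + 1) → Fin k) → F) ≃ₗ[F] ((Fin (t + 1) → Fin k) → F)) ∈ X
    by_cases hξ : ∀ l ∈ Finset.univ, ξ l ≠ 0
    · obtain ⟨g, hg, eg⟩ := hfull ξ hξ (-c)
      convert hg using 1
      refine Units.ext (Matrix.ext_of_mulVec_single fun q => ?_)
      rw [equivGL_mulVec, eg, tr_apply, Matrix.add_mulVec, Matrix.one_mulVec, Matrix.smul_mulVec, monom_univ_mulVec,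
        hskew (pvec ξ) (Pi.single q 1), hBv, smul_smul, mul_neg, neg_mul]
    · push Not at hξ
      obtain ⟨l, -, hl⟩ := hξ
      have h0 : pvec ξ = 0 := funext fun d => Finset.prod_eq_zero (Finset.mem_univ l) (by rw [hl]; rfl)
      have := (MixTensor.Tr.zero (hA := hA) (K := K)) c
      rw [← h0] at this
      exact this
  have hadd : ∀ u v, MixTensor.Tr hA K u → MixTensor.Tr hA K v → MixTensor.Tr hA K (u + v) := by
    intro u v hu hv
    by_cases hs : u + v = 0
    · rw [hs]; exact MixTensor.Tr.zero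
    by_cases huv : B u v = 0
    swap
    · exact hu.add hv huv
    by_cases hu0 : u = 0
    · rwa [hu0, zero_add]
    by_cases hv0 : v = 0
    · rwa [hv0, add_zero]
    have hne : ∀ {w}, w ≠ 0 → w ᵥ* O.G ≠ 0 := fun {w} hw h => hw (by
      have := congrArg (· ᵥ* O.Gi) h
      simpa [Matrix.vecMul_vecMul, O.mul_inv] using this)
    obtain ⟨ξ, h1, h2', h3⟩ := exists_pvec_three h2 (t + 1) _ _ _ (hne hu0) (hne hv0) (hne hs)
    rw [← Matrix.dotProduct_mulVec, ← hBv] at h1 h2' h3
    have s1 := hu.add (hpure ξ) h1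
    have s2 := s1.add hv (by rw [map_add, LinearMap.add_apply, huv, zero_add, hskew v (pvec ξ)]; exact neg_ne_zero.2 h2')
    have s3 := s2.add ((hpure ξ).smul (-1)) (by
      rw [map_smul, smul_eq_mul, neg_one_mul, neg_ne_zero]
      simp only [map_add, LinearMap.add_apply, hA (pvec ξ), add_zero] at h3 ⊢
      exact h3)
    convert s3 using 1
    module
  have hall : ∀ v, MixTensor.Tr hA K v := by
    intro v
    rw [show v = ∑ c, v c • pvec (fun l => Pi.single (c l) (1 : F)) by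
      funext d
      simp only [Finset.sum_apply, Pi.smul_apply, smul_eq_mul]
      rw [Fintype.sum_eq_single d fun b hb => ?_]
      · simp [pvec]
      · obtain ⟨l, hl⟩ := Function.ne_iff.1 hb.symm
        rw [pvec, Finset.prod_eq_zero (Finset.mem_univ l) (by simp [hl]), mul_zero]]
    exact Finset.sum_induction _ (MixTensor.Tr hA K) hadd MixTensor.Tr.zero fun c _ => (hpure _).smul _
  have htop : K = ⊤ := SympMax.eq_top_of_tr hA hBn hall
  set X' := (x : Matrix (Fin (t + 1) → Fin k) (Fin (t + 1) → Fin k) F)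
  set g₀ : ((Fin (t + 1) → Fin k) → F) ≃ₗ[F] ((Fin (t + 1) → Fin k) → F) :=
    LinearEquiv.ofLinear (Matrix.toLin' X')
      (Matrix.toLin' ((x⁻¹ : GL (Fin (t + 1) → Fin k) F) : Matrix (Fin (t + 1) → Fin k) (Fin (t + 1) → Fin k) F))
      (by rw [← Matrix.toLin'_mul, Units.mul_inv, Matrix.toLin'_one])
      (by rw [← Matrix.toLin'_mul, Units.inv_mul, Matrix.toLin'_one])
  have hXG : X'ᵀ * O.G * X' = O.G := by
    have h := congrArg (O.G * ·) hx
    simp only [mul_one] at h
    rwa [show O.G * (adjV D X' * X') = X'ᵀ * O.G * X' by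
      show O.G * (O.Gi * X'ᵀ * O.G * X') = _
      simp only [← mul_assoc, O.mul_inv, one_mul]] at h
  have hg₀ : g₀ ∈ Sp B := by
    intro u v
    show B (X' *ᵥ u) (X' *ᵥ v) = B u v
    rw [hBv, hBv, ← Matrix.vecMul_transpose, ← Matrix.dotProduct_mulVec, Matrix.mulVec_mulVec, Matrix.mulVec_mulVec,
      hXG]
  have hmem : (⟨g₀, hg₀⟩ : Sp B) ∈ K := htop ▸ Subgroup.mem_top _
  have e : equivGL g₀ = x := Units.ext (LinearMap.toMatrix'_toLin' X')
  rw [← e]
  exact hmem

end CfsgLib.HallGen.SympWreath
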