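/-
Roots, their standard conjugates, and what is used about an overgroup with scalar central maps.
-/
import Cfsg.Agent.Lib.HallGen.SympWreath.Rigid
import Cfsg.Agent.Lib.Geo.TensorWreath.Rank
import Cfsg.Agent.Lib.Geo.TensorWreath.Quadratic
import Mathlib.GroupTheory.Nilpotent

set_option autoImplicit false
set_option linter.unusedSectionVars false
set_option maxHeartbeats 400000

namespace CfsgLib.HallGen.SympWreath

open Matrix CfsgLib.Geo CfsgLib.Geo.SpinTensor CfsgLib.Geo.TensorWreath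
open scoped Kronecker

variable {F : Type*} [Field F] {k t : ℕ} {D : Factor F k}

variable (D) in
/-- The roots. -/
def IsSRoot (x : GL (Fin t → Fin k) F) : Prop :=
  ∃ (i : Fin t) (e : Fin k → F) (c : F), e ≠ 0 ∧ c ≠ 0 ∧
    (x : Matrix (Fin t → Fin k) (Fin t → Fin k) F) = SpinTensor.emb i (1 + c • D.R e e)

theorem exists_fac_iso (i : Fin t) {B : Matrix (Fin k) (Fin k) F} (hB : D.Iso B) :
    ∃ u : GL (Fin k) F, (u : Matrix (Fin k) (Fin k) F) = B ∧
      (fac i u : Matrix (Fin t → Fin k) (Fin t → Fin k) F) = SpinTensor.emb i B :=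
  ⟨⟨B, D.adj B, hB.mul_adj, hB⟩, rfl, by rw [val_fac]⟩

theorem IsSRoot.isStd {x : GL (Fin t → Fin k) F} (hx : IsSRoot D x) : IsStd x := by
  obtain ⟨i, e, c, -, -, ex⟩ := hx
  obtain ⟨u, -, hu⟩ := exists_fac_iso i (D.iso_transv e c)
  rw [show x = fac i u from Units.ext (ex.trans hu.symm)]
  exact isStd_pureGL _

theorem IsSRoot.mul_self {x : GL (Fin t → Fin k) F} (hx : IsSRoot D x) :
    ((x : Matrix (Fin t → Fin k) (Fin t → Fin k) F) - 1) * ((x : Matrix (Fin t → Fin k) (Fin t → Fin k) F) - 1) =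
      0 := by
  obtain ⟨i, e, c, -, -, ex⟩ := hx
  rw [ex, map_add, emb_one, add_sub_cancel_left, emb_mul_emb, Matrix.smul_mul, Matrix.mul_smul, D.R_mul, D.f_self,
    zero_smul, smul_zero, smul_zero, map_zero]

theorem IsSRoot.ne_one [NeZero k] {x : GL (Fin t → Fin k) F} (hx : IsSRoot D x) : x ≠ 1 := by
  obtain ⟨i, e, c, he, hc, ex⟩ := hx
  intro h
  rw [h, Units.val_one, ← emb_one i] at ex
  have h1 := emb_inj i ex
  rw [left_eq_add] at h1
  exact D.R_ne_zero he he ((smul_eq_zero.1 h1).resolve_left hc)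

theorem val_conj_sub {r z : GL (Fin t → Fin k) F} :
    ((z * r * z⁻¹ : GL (Fin t → Fin k) F) : Matrix (Fin t → Fin k) (Fin t → Fin k) F) - 1 =
      (z : Matrix (Fin t → Fin k) (Fin t → Fin k) F) * ((r : Matrix (Fin t → Fin k) (Fin t → Fin k) F) - 1) *
        ((z⁻¹ : GL (Fin t → Fin k) F) : Matrix (Fin t → Fin k) (Fin t → Fin k) F) := by
  rw [mul_sub, mul_one, sub_mul, Units.mul_inv, Units.val_mul, Units.val_mul]

theorem conj_sq_zero {r z : GL (Fin t → Fin k) F} (hr : IsSRoot D r) :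
    (((z * r * z⁻¹ : GL (Fin t → Fin k) F) : Matrix (Fin t → Fin k) (Fin t → Fin k) F) - 1) *
      (((z * r * z⁻¹ : GL (Fin t → Fin k) F) : Matrix (Fin t → Fin k) (Fin t → Fin k) F) - 1) = 0 := by
  rw [val_conj_sub]
  set a := (r : Matrix (Fin t → Fin k) (Fin t → Fin k) F) - 1
  set Z := (z : Matrix (Fin t → Fin k) (Fin t → Fin k) F)
  rw [show Z * a * (↑z⁻¹ : Matrix (Fin t → Fin k) (Fin t → Fin k) F) * (Z * a * ↑z⁻¹) =
    Z * (a * ((↑z⁻¹ : Matrix (Fin t → Fin k) (Fin t → Fin k) F) * Z) * a) * ↑z⁻¹ by simp only [mul_assoc],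
    Units.inv_mul, mul_one, hr.mul_self, mul_zero, zero_mul]

theorem rank_root_le (i : Fin (t + 1)) (e : Fin k → F) (c : F) :
    ((SpinTensor.emb i (c • D.R e e) : Matrix (Fin (t + 1) → Fin k) (Fin (t + 1) → Fin k) F)).rank ≤
      Fintype.card (Fin t → Fin k) := by
  rw [← Matrix.rank_submatrix _ (sp i) (sp i), sub_emb, Matrix.kronecker_smul, ← Matrix.smul_kronecker, ← inc_out]
  exact le_trans (Matrix.rank_mul_le_left _ _) (Matrix.rank_le_card_width _)

/-- A vector outside two lines. -/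
theorem exists_avoid_two (hk : 2 ≤ k) (a b : Fin k → F) :
    ∃ u : Fin k → F, (∀ c : F, u ≠ c • a) ∧ ∀ c : F, u ≠ c • b := by
  haveI : NeZero k := ⟨by omega⟩
  have one : ∀ v : Fin k → F, ∃ u : Fin k → F, ∀ c : F, u ≠ c • v := by
    intro v
    by_cases hv : v = 0
    · exact ⟨Pi.single 0 1, fun c h => by simpa [hv] using congrFun h 0⟩
    obtain ⟨p, hp⟩ := Function.ne_iff.1 hv
    obtain ⟨q, hq⟩ : ∃ q : Fin k, q ≠ p :=
      Fintype.exists_ne_of_one_lt_card (by rw [Fintype.card_fin]; omega) p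
    refine ⟨Pi.single q 1, fun c h => ?_⟩
    have h1 := congrFun h p
    rw [Pi.single_eq_of_ne hq.symm, Pi.smul_apply, smul_eq_mul] at h1
    have h2 := congrFun h q
    rw [(mul_eq_zero.1 h1.symm).resolve_right hp, zero_smul, Pi.single_eq_same] at h2
    exact one_ne_zero h2
  obtain ⟨u, hu⟩ := one a
  obtain ⟨v, hv⟩ := one b
  by_cases hub : ∀ c : F, u ≠ c • b
  · exact ⟨u, hu, hub⟩
  by_cases hva : ∀ c : F, v ≠ c • a
  · exact ⟨v, hva, hv⟩
  push Not at hub hva
  obtain ⟨c, hc⟩ := hub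
  obtain ⟨d, hd⟩ := hva
  refine ⟨u + v, fun s h => hu (s - d) ?_, fun s h => hv (s - c) ?_⟩
  · rw [sub_smul, ← h, ← hd, add_sub_cancel_right]
  · rw [sub_smul, ← h, ← hc, add_sub_cancel_left]

/-- A standard element of degree two does not permute and moves one factor. -/
theorem single_of_sq (h2 : (2 : F) ≠ 0) (hk : 2 ≤ k) {gs : Fin (t + 1) → GL (Fin k) F} {π : Equiv.Perm (Fin (t + 1))}
    {x : GL (Fin (t + 1) → Fin k) F}
    (e : (x : Matrix (Fin (t + 1) → Fin k) (Fin (t + 1) → Fin k) F) =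
      SpinTensor.pure (fun i => (gs i : Matrix (Fin k) (Fin k) F)) * perm π)
    (hsq : ((x : Matrix (Fin (t + 1) → Fin k) (Fin (t + 1) → Fin k) F) - 1) *
      ((x : Matrix (Fin (t + 1) → Fin k) (Fin (t + 1) → Fin k) F) - 1) = 0) :
    ∃ (i : Fin (t + 1)) (B : Matrix (Fin k) (Fin k) F),
      (x : Matrix (Fin (t + 1) → Fin k) (Fin (t + 1) → Fin k) F) = SpinTensor.emb i B := by
  classical
  haveI : NeZero k := ⟨by omega⟩
  set M := (x : Matrix (Fin (t + 1) → Fin k) (Fin (t + 1) → Fin k) F)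
  set e0 : Fin k → F := Pi.single 0 1
  have he0 : e0 ≠ 0 := Function.ne_iff.2 ⟨0, by simp [e0]⟩
  have key : ∀ (j l : Fin (t + 1)), j ≠ l → ∀ ξ : Fin (t + 1) → Fin k → F, (∀ p, ξ p ≠ 0) →
      (∀ c : F, ξ j ≠ c • ((gs j : Matrix (Fin k) (Fin k) F) *ᵥ ξ (π⁻¹ j))) →
      (∀ c : F, (gs l : Matrix (Fin k) (Fin k) F) *ᵥ ξ (π⁻¹ l) ≠ c • ξ l) → False := by
    intro j l hjl ξ hξ hj hl
    have h3' := isStd_mulVec e fun p => (gs p : Matrix (Fin k) (Fin k) F) *ᵥ ξ (π⁻¹ p)
    refine two_diff hjl (a := 2) (b := -1) h2 (neg_ne_zero.2 one_ne_zero) hξ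
      (fun p => gl_mulVec_ne_zero _ (hξ _)) hj hl (ξ₂ := fun p => (gs p : Matrix (Fin k) (Fin k) F) *ᵥ
        ((gs (π⁻¹ p) : Matrix (Fin k) (Fin k) F) *ᵥ ξ (π⁻¹ (π⁻¹ p)))) ?_
    · have h3 := congrArg (· *ᵥ pvec ξ) hsq
      simp only [sub_mul, mul_sub, mul_one, one_mul, Matrix.sub_mulVec, Matrix.one_mulVec, ← Matrix.mulVec_mulVec,
        Matrix.zero_mulVec] at h3
      rw [isStd_mulVec e, h3'] at h3
      rw [two_smul, neg_one_smul]
      funext q
      have h4 := congrFun h3 q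
      simp only [Pi.sub_apply, Pi.zero_apply] at h4
      simp only [Pi.add_apply, Pi.neg_apply]
      linear_combination h4
  by_cases hπ : π = 1
  swap
  · exfalso
    obtain ⟨l, hl⟩ : ∃ l, π l ≠ l := by
      by_contra! h
      exact hπ (Equiv.ext h)
    set m := π l
    have hm : π m ≠ m := fun h => hl (π.injective h)
    obtain ⟨u, hu1, hu2⟩ := exists_avoid_two hk ((gs m : Matrix (Fin k) (Fin k) F) *ᵥ e0)
      ((((gs (π m))⁻¹ : GL (Fin k) F) : Matrix (Fin k) (Fin k) F) *ᵥ e0)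
    set ξ : Fin (t + 1) → Fin k → F := Function.update (fun _ => e0) m u
    have hu0 : u ≠ 0 := fun h => hu1 0 (by rw [h, zero_smul])
    refine key m (π m) hm.symm ξ (fun p => ?_) (fun c => ?_) (fun c hc => ?_)
    · by_cases hp : p = m
      · subst hp; simpa [ξ] using hu0
      · simpa [ξ, Function.update_of_ne hp] using he0
    · simpa [ξ, m, Function.update_of_ne hl.symm] using hu1 c
    · simp only [ξ, Equiv.Perm.coe_inv, Equiv.symm_apply_apply, Function.update_self, Function.update_of_ne hm] at hc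
      refine hu2 c ?_
      have h7 := congrArg ((((gs (π m))⁻¹ : GL (Fin k) F) : Matrix (Fin k) (Fin k) F) *ᵥ ·) hc
      simpa [Matrix.mulVec_mulVec, Matrix.mulVec_smul] using h7
  subst hπ
  rw [perm_one, mul_one] at e
  by_cases hone : ∃ i, ∀ l, l ≠ i → ∃ c : F, (gs l : Matrix (Fin k) (Fin k) F) = c • 1
  · obtain ⟨i, hi⟩ := hone
    have hl : ∀ l, ∃ c : F, l ≠ i → (gs l : Matrix (Fin k) (Fin k) F) = c • 1 := fun l => by
      by_cases hl : l = i
      · exact ⟨0, fun h => absurd hl h⟩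
      · obtain ⟨c, hc⟩ := hi l hl
        exact ⟨c, fun _ => hc⟩
    choose c hc using hl
    exact ⟨i, _, e.trans (pure_collapse i _ c hc)⟩
  exfalso
  push Not at hone
  obtain ⟨j, -, hj⟩ := hone 0
  obtain ⟨l, hlj, hl⟩ := hone j
  obtain ⟨u, hu, hu'⟩ := exists_not_eigen hj
  obtain ⟨v, hv, hv'⟩ := exists_not_eigen hl
  refine key j l hlj.symm (Function.update (Function.update (fun _ => e0) j u) l v) (fun p => ?_) (fun c hc => ?_)
    (fun c hc => ?_)
  · by_cases hp : p = l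
    · subst hp; simpa using hv
    by_cases hp' : p = j
    · subst hp'; simpa [Function.update_of_ne hp] using hu
    · simpa [Function.update_of_ne hp, Function.update_of_ne hp'] using he0
  · simp only [show ∀ p, ((1 : Equiv.Perm (Fin (t + 1)))⁻¹) p = p from fun p => rfl, Function.update_of_ne hlj.symm, Function.update_self] at hc
    by_cases hc0 : c = 0
    · exact hu (by rw [hc, hc0, zero_smul])
    · refine hu' c⁻¹ ?_
      conv_rhs => rw [hc, inv_smul_smul₀ hc0]
  · simp only [show ∀ p, ((1 : Equiv.Perm (Fin (t + 1)))⁻¹) p = p from fun p => rfl, Function.update_self] at hc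
    exact hv' c hc

/-- A standard conjugate of a root in the isometries is a root. -/
theorem isSRoot_of_conj (h2 : (2 : F) ≠ 0) (hk : 2 ≤ k) {r y : GL (Fin (t + 1) → Fin k) F} (hr : IsSRoot D r)
    (hiso : adjV D ((y * r * y⁻¹ : GL (Fin (t + 1) → Fin k) F) : Matrix (Fin (t + 1) → Fin k) (Fin (t + 1) → Fin k) F) *
      ((y * r * y⁻¹ : GL (Fin (t + 1) → Fin k) F) : Matrix (Fin (t + 1) → Fin k) (Fin (t + 1) → Fin k) F) = 1)
    (hs : IsStd (y * r * y⁻¹)) : IsSRoot D (y * r * y⁻¹) := by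
  classical
  haveI : NeZero k := ⟨by omega⟩
  obtain ⟨gs, π, eg⟩ := hs
  have hsq := conj_sq_zero (z := y) hr
  have hne : y * r * y⁻¹ ≠ 1 := fun h => hr.ne_one (by
    rw [mul_inv_eq_one] at h
    exact mul_left_cancel (a := y) (by rw [h, mul_one]))
  obtain ⟨i, B, eB⟩ := single_of_sq h2 hk eg hsq
  set N := B - 1 with hN
  have hxN : ((y * r * y⁻¹ : GL (Fin (t + 1) → Fin k) F) : Matrix (Fin (t + 1) → Fin k) (Fin (t + 1) → Fin k) F) - 1 =
      SpinTensor.emb i N := by
    rw [hN, map_sub, emb_one, eB]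
  have hrank : ((1 : Matrix (Fin t → Fin k) (Fin t → Fin k) F) ⊗ₖ N).rank ≤ Fintype.card (Fin t → Fin k) := by
    rw [← sub_emb i, Matrix.rank_submatrix, ← hxN, val_conj_sub]
    obtain ⟨j, e', c, -, -, er⟩ := hr
    refine le_trans (Matrix.rank_mul_le_left _ _) (le_trans (Matrix.rank_mul_le_right _ _) ?_)
    rw [er, map_add, emb_one, add_sub_cancel_left]
    exact rank_root_le j e' c
  have hN0 : N ≠ 0 := fun h => hne (Units.ext (by rw [← sub_eq_zero, Units.val_one, hxN, h, map_zero]))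
  obtain ⟨q, hq⟩ : ∃ q, N *ᵥ Pi.single q (1 : F) ≠ 0 := by
    by_contra! h
    refine hN0 (Matrix.ext fun a b => ?_)
    have := congrFun (h b) a
    rwa [Matrix.mulVec_single_one] at this
  set v := N *ᵥ Pi.single q (1 : F)
  have hcol : ∀ p, ∃ c : F, N *ᵥ Pi.single p (1 : F) = c • v := by
    intro p
    by_contra! h
    have h3 := two_mul_card_le_rank (α := Fin t → Fin k) (F := F) hq h
    have : 0 < Fintype.card (Fin t → Fin k) := Fintype.card_pos
    omega
  choose φ hφ using hcol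
  set w := φ ᵥ* D.Ji
  have hNv : N = D.R v w := Matrix.ext fun a b => by
    have h1 := congrFun (hφ b) a
    rw [Matrix.mulVec_single_one] at h1
    rw [Factor.R, Matrix.vecMul_vecMul, D.inv_mul, Matrix.vecMul_one, Matrix.vecMulVec_apply, mul_comm]
    exact h1
  have hw0 : w ≠ 0 := fun h => hN0 (by rw [hNv, h]; simp [Factor.R])
  have hB : D.Iso B := emb_inj i (by rw [← emb_mul_emb, ← adjV_emb, ← eB, hiso, emb_one])
  have hN2 : N * N = 0 := emb_inj i (by rw [map_zero, ← emb_mul_emb, ← hxN, hsq])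
  have hvw : D.f w v = 0 := by
    rw [hNv, D.R_mul] at hN2
    exact (smul_eq_zero.1 hN2).resolve_right (D.R_ne_zero hq hw0)
  have hsym : D.R v w = D.R w v := by
    have h1 : D.adj (1 + N) * (1 + N) = 1 := by rw [hN, add_sub_cancel]; exact hB
    rw [hNv, D.adj_add, D.adj_one, D.adj_R, add_mul, one_mul, mul_add, mul_one, neg_mul, D.R_mul, D.f_self,
      zero_smul, neg_zero, add_zero, add_assoc, add_eq_left] at h1
    exact eq_of_sub_eq_zero ((sub_eq_add_neg _ _).trans h1)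
  obtain ⟨z, hz⟩ := D.nondeg hw0
  have hv : v = D.f v z • w := by
    have h1 := congrArg (· *ᵥ z) hsym
    simpa [D.R_mulVec, hz] using h1
  refine ⟨i, w, D.f v z, hw0, fun h => hq (by rw [hv, h, zero_smul]), ?_⟩
  rw [eB, show B = 1 + N from (add_sub_cancel 1 B).symm, hNv, hv, D.R_smul_left, ← hv]

/-! ### Consequences of scalar central maps -/

variable (D) in
/-- What is used about an overgroup with scalar central maps. -/
structure Ctx (X : Subgroup (GL (Fin (t + 1) → Fin k) F)) : Prop where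
  two : 2 ≤ k
  hyp : Hyp D X
  root_map : ∀ y ∈ X, ∀ r, IsSRoot D r → IsSRoot D (y * r * y⁻¹) → IsStd y
  comm : 3 ≤ k → ∀ y ∈ X, ∀ (i : Fin (t + 1)) (B : Matrix (Fin k) (Fin k) F) (e : Fin k → F),
    D.Iso B → B * B = 1 → B ≠ 1 → e ≠ 0 → B *ᵥ e = e →
    Commute (y : Matrix (Fin (t + 1) → Fin k) (Fin (t + 1) → Fin k) F) (SpinTensor.emb i B) → IsStd y

theorem pure_update_two (i j : Fin (t + 1)) (A B : Matrix (Fin k) (Fin k) F) (hij : j ≠ i) :
    SpinTensor.pure (Function.update (Function.update (fun _ => (1 : Matrix (Fin k) (Fin k) F)) j A) i B) =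
      SpinTensor.emb j A * SpinTensor.emb i B := by
  show _ = SpinTensor.pure _ * SpinTensor.pure _
  rw [pure_mul]
  congr 1
  funext l
  by_cases hl : l = i
  · subst hl; simp [Function.update_of_ne hij.symm]
  · simp [Function.update_of_ne hl]

namespace Hyp

variable {X : Subgroup (GL (Fin (t + 1) → Fin k) F)} (H : Hyp D X) (hk : 2 ≤ k) (hX : NG D X)
  (IH : ∀ Y : Subgroup (GL (Fin t → Fin k) F), Hyp D Y → NG D Y → ∀ y ∈ Y, IsStd y)
include H hk hX IH

/-- A Kronecker element of the group is standard. -/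
theorem isStd_of_kr (ht : 1 ≤ t) {i : Fin (t + 1)} {y : GL (Fin (t + 1) → Fin k) F} (hy : y ∈ X)
    {A : Matrix (Fin t → Fin k) (Fin t → Fin k) F} {B : Matrix (Fin k) (Fin k) F}
    (e : (spGL i y : Matrix ((Fin t → Fin k) × Fin k) ((Fin t → Fin k) × Fin k) F) = A ⊗ₖ B) : IsStd y := by
  classical
  haveI : NeZero k := ⟨by omega⟩
  haveI : Nonempty (Fin t → Fin k) := ⟨fun _ => 0⟩
  have hdet : IsUnit (A ⊗ₖ B).det := by
    rw [← e]; exact (Matrix.isUnit_iff_isUnit_det _).1 (spGL i y).isUnit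
  rw [Matrix.det_kronecker, IsUnit.mul_iff, isUnit_pow_iff Fintype.card_ne_zero, isUnit_pow_iff Fintype.card_ne_zero]
    at hdet
  obtain ⟨A', rfl⟩ : ∃ A' : GL (Fin t → Fin k) F, (A' : Matrix (Fin t → Fin k) (Fin t → Fin k) F) = A :=
    ⟨((Matrix.isUnit_iff_isUnit_det A).2 hdet.1).unit, rfl⟩
  obtain ⟨B', rfl⟩ : ∃ B' : GL (Fin k) F, (B' : Matrix (Fin k) (Fin k) F) = B :=
    ⟨((Matrix.isUnit_iff_isUnit_det B).2 hdet.2).unit, rfl⟩
  refine isStd_of_kronecker e ?_
  rcases Nat.lt_or_ge t 2 with ht2 | ht2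
  · obtain rfl : t = 1 := by omega
    exact isStd_fin_one A'
  have hiso := H.iso y hy
  have h1 : adjP D (outerT D t) (spGL i y : Matrix ((Fin t → Fin k) × Fin k) ((Fin t → Fin k) × Fin k) F) *
      (spGL i y : Matrix ((Fin t → Fin k) × Fin k) ((Fin t → Fin k) × Fin k) F) = 1 := by
    rw [spGL_val, adjP_sub, ← sub_mul_sub, hiso, sub_one]
  rw [e, adjP_kronecker, ← Matrix.mul_kronecker_mul] at h1
  set P := adjV D (A' : Matrix (Fin t → Fin k) (Fin t → Fin k) F) * (A' : Matrix (Fin t → Fin k) (Fin t → Fin k) F)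
  set Q := D.adj (B' : Matrix (Fin k) (Fin k) F) * (B' : Matrix (Fin k) (Fin k) F)
  obtain ⟨a⟩ := ‹Nonempty (Fin t → Fin k)›
  have hQ : ∀ p q, P a a * Q p q = if p = q then 1 else 0 := fun p q => by
    have h3 := congrFun (congrFun h1 (a, p)) (a, q)
    rw [Matrix.kroneckerMap_apply, Matrix.one_apply] at h3
    simp only [Prod.mk.injEq, true_and] at h3
    exact h3
  have hμ : P a a ≠ 0 := fun h => by
    have := hQ 0 0
    rw [h, zero_mul, if_pos rfl] at this
    exact zero_ne_one this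
  set μ := (P a a)⁻¹
  have hQ' : Q = μ • 1 := by
    ext p q
    rw [Matrix.smul_apply, Matrix.one_apply, smul_eq_mul, ← hQ, ← mul_assoc, inv_mul_cancel₀ hμ, one_mul]
  have hBi : D.adj ((B'⁻¹ : GL (Fin k) F) : Matrix (Fin k) (Fin k) F) *
      ((B'⁻¹ : GL (Fin k) F) : Matrix (Fin k) (Fin k) F) = μ⁻¹ • 1 := by
    have h3 : D.adj ((B'⁻¹ : GL (Fin k) F) : Matrix (Fin k) (Fin k) F) * D.adj (B' : Matrix (Fin k) (Fin k) F) = 1 := by
      rw [← D.adj_mul, Units.mul_inv, D.adj_one]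
    have h4 : D.adj (B' : Matrix (Fin k) (Fin k) F) = μ • ((B'⁻¹ : GL (Fin k) F) : Matrix (Fin k) (Fin k) F) := by
      calc D.adj (B' : Matrix (Fin k) (Fin k) F) = Q * ((B'⁻¹ : GL (Fin k) F) : Matrix (Fin k) (Fin k) F) := by
            simp only [Q, mul_assoc, Units.mul_inv, mul_one]
        _ = _ := by rw [hQ', smul_mul_assoc, one_mul]
    rw [h4, mul_smul_comm] at h3
    rw [← h3, smul_smul, inv_mul_cancel₀ (inv_ne_zero hμ), one_smul]
  set j : Fin (t + 1) := i.succAbove ⟨0, by omega⟩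
  set l : Fin (t + 1) := i.succAbove ⟨1, by omega⟩
  have hji : j ≠ i := Fin.succAbove_ne _ _
  have hlj : l ≠ j := fun h => by simpa using congrArg Fin.val (Fin.succAbove_right_injective h)
  set gs : Fin (t + 1) → GL (Fin k) F := Function.update (Function.update (fun _ => 1) j B') i B'⁻¹
  have hg : pureGL gs * permGL k F 1 ∈ X := by
    refine H.lift (by omega) gs 1 l rfl (by simp [gs, Fin.succAbove_ne, l, Function.update_of_ne hlj]) ?_
    rw [permGL_one, mul_one]
    show adjV D (SpinTensor.pure _) * SpinTensor.pure _ = 1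
    rw [adjV_pure, pure_mul]
    rw [show (fun p => D.adj (gs p : Matrix (Fin k) (Fin k) F) * (gs p : Matrix (Fin k) (Fin k) F)) =
      Function.update (Function.update (fun _ => (1 : Matrix (Fin k) (Fin k) F)) j (μ • 1)) i (μ⁻¹ • 1) from
        funext fun p => by
          by_cases hp : p = i
          · subst hp
            rw [show gs p = B'⁻¹ by simp [gs], Function.update_self]
            exact hBi
          by_cases hp' : p = j
          · subst hp'
            simp only [gs, Function.update_of_ne hp, Function.update_self]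
            exact hQ'
          · simp [gs, Function.update_of_ne hp, Function.update_of_ne hp', D.adj_one]]
    rw [pure_update_two i j _ _ hji, map_smul, map_smul, emb_one, emb_one, smul_mul_smul_comm,
      mul_inv_cancel₀ (inv_ne_zero hμ), one_smul, one_mul]
  rw [permGL_one, mul_one] at hg
  have hmem : A' * pureGL (fun p => gs (i.succAbove p)) ∈ X.comap (upGL i) := by
    rw [Subgroup.mem_comap]
    convert X.mul_mem hy hg using 1
    refine (spGL i).injective (Units.ext ?_)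
    rw [spGL_val, upGL_val, sub_upM]
    refine Eq.trans ?_ (spGL_kronecker_mul e (spGL_pureGL i gs)).symm
    congr 1
    simp [gs]
  exact IsStd.of_mul_right (isStd_pureGL _) (IH _ (H.comap i) (H.ng_comap i hX) _ hmem)

/-- The consequences hold. -/
theorem ctx_of (ht : 1 ≤ t) (hs : k = 2 → ∃ s : F, s ≠ 0 ∧ s * s ≠ 1) : Ctx D X := by
  classical
  haveI : NeZero k := ⟨by omega⟩
  haveI : Nonempty (Fin t → Fin k) := ⟨fun _ => 0⟩
  refine ⟨hk, H, ?_, ?_⟩
  · rintro y hy r ⟨j, e, c, he, hc, er⟩ ⟨i, w, d, hw, hd, eyr⟩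
    set h₁ : GL (Fin (t + 1) → Fin k) F := permGL k F (Equiv.swap i j)
    set y₁ := y * h₁
    have hh : ∀ B, (h₁ : Matrix (Fin (t + 1) → Fin k) (Fin (t + 1) → Fin k) F) * SpinTensor.emb i B =
        SpinTensor.emb j B * (h₁ : Matrix (Fin (t + 1) → Fin k) (Fin (t + 1) → Fin k) F) := fun B => by
      show perm _ * _ = _ * perm _
      conv_rhs => rw [← Equiv.swap_apply_left i j, ← perm_mul_emb (Equiv.swap i j) i B]
      rw [Equiv.swap_apply_left, mul_assoc (perm _ * _), perm_mul, inv_mul_cancel, perm_one, mul_one]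
    set Y₁ := (y₁ : Matrix (Fin (t + 1) → Fin k) (Fin (t + 1) → Fin k) F) with hY₁
    have hiso₁ : adjV D Y₁ * Y₁ = 1 := by
      rw [hY₁, Units.val_mul, show adjV D (_ * _) = _ from (outerT D (t + 1)).adj_mul _ _, mul_assoc,
        ← mul_assoc (adjV D (y : Matrix (Fin (t + 1) → Fin k) (Fin (t + 1) → Fin k) F)), H.iso y hy, one_mul]
      show adjV D (perm _) * perm _ = 1
      rw [adjV_perm, perm_mul, inv_mul_cancel, perm_one]
    set Z := (spGL i y₁ : Matrix ((Fin t → Fin k) × Fin k) ((Fin t → Fin k) × Fin k) F) with hZ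
    have hM : Mov D (outerT D t) (X.map (spGL i).toMonoidHom) Z := by
      refine ⟨by rw [hZ, spGL_val, adjP_sub, ← sub_mul_sub, hiso₁, sub_one], fun B hB => ?_⟩
      rw [hZ, spGL_val, adjP_sub, ← sub_emb i, ← sub_mul_sub, ← sub_mul_sub, mem_map_sub]
      obtain ⟨g, hg, eg⟩ := H.base j B hB
      refine ⟨y * g * y⁻¹, X.mul_mem (X.mul_mem hy hg) (X.inv_mem hy), ?_⟩
      have h5 : Y₁ * SpinTensor.emb i B = ((y * g : GL (Fin (t + 1) → Fin k) F) :
          Matrix (Fin (t + 1) → Fin k) (Fin (t + 1) → Fin k) F) *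
          (h₁ : Matrix (Fin (t + 1) → Fin k) (Fin (t + 1) → Fin k) F) := by
        rw [hY₁, Units.val_mul, Units.val_mul, mul_assoc, hh, eg, mul_assoc]
      rw [show adjV D Y₁ = ((y₁⁻¹ : GL (Fin (t + 1) → Fin k) F) : Matrix (Fin (t + 1) → Fin k) (Fin (t + 1) → Fin k) F)
        from left_inv_eq_right_inv hiso₁ (Units.mul_inv y₁), h5, ← Units.val_mul, ← Units.val_mul]
      congr 1
      simp only [y₁]
      group
    have hmain : Y₁ * SpinTensor.emb i (c • D.R e e) = SpinTensor.emb i (d • D.R w w) * Y₁ := by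
      have h3 : ((y * r * y⁻¹ : GL (Fin (t + 1) → Fin k) F) : Matrix (Fin (t + 1) → Fin k) (Fin (t + 1) → Fin k) F) *
          (y : Matrix (Fin (t + 1) → Fin k) (Fin (t + 1) → Fin k) F) =
          (y : Matrix (Fin (t + 1) → Fin k) (Fin (t + 1) → Fin k) F) * (r : Matrix (Fin (t + 1) → Fin k) (Fin (t + 1) → Fin k) F) := by
        rw [← Units.val_mul, ← Units.val_mul, inv_mul_cancel_right]
      rw [eyr, er] at h3
      simp only [map_add, emb_one, mul_add, mul_one, add_mul, one_mul, add_right_inj] at h3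
      rw [hY₁, Units.val_mul, mul_assoc, hh, ← mul_assoc, ← h3, mul_assoc]
    have h4 := congrArg (fun M : Matrix (Fin (t + 1) → Fin k) (Fin (t + 1) → Fin k) F =>
      M.submatrix (sp i) (sp i)) hmain
    simp only [sub_mul_sub, sub_emb, hY₁, ← spGL_val, Matrix.kronecker_smul, ← inc_out, Matrix.mul_one] at h4
    rw [← hZ] at h4
    obtain ⟨f, hf⟩ := D.nondeg he
    have h6 : Z * inc (Fin t → Fin k) e =
        inc (Fin t → Fin k) w * ((c⁻¹ * d) • (out D (Fin t → Fin k) w * (Z * inc (Fin t → Fin k) f))) := by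
      have h5 := congrArg (· * inc (Fin t → Fin k) f) h4
      simp only [Matrix.mul_smul, Matrix.smul_mul, Matrix.mul_assoc, out_inc, hf, one_smul, Matrix.mul_one] at h5
      rw [Matrix.mul_smul, ← smul_smul, ← h5, inv_smul_smul₀ hc]
    have hkr : ∃ A B, Z = A ⊗ₖ B := by
      rcases Nat.lt_or_ge k 3 with hk3 | hk3
      · obtain ⟨s, hs0, hs1⟩ := hs (by omega)
        obtain ⟨B, hB⟩ := (H.pairCtx hX i).kronecker_two hM (by omega) hs0 hs1 he h6
        exact ⟨_, B, hB⟩
      · obtain ⟨B, hB⟩ := (H.pairCtx hX i).kronecker_big (H.rigid hk3 i) hM hk3 he h6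
        exact ⟨_, B, hB⟩
    obtain ⟨A, B, eAB⟩ := hkr
    suffices IsStd y₁ from IsStd.of_mul_right (isStd_permGL _) this
    rcases Nat.lt_or_ge t 2 with ht2 | ht2
    · obtain rfl : t = 1 := by omega
      have hdet : IsUnit (A ⊗ₖ B).det := by
        rw [← eAB]; exact (Matrix.isUnit_iff_isUnit_det _).1 (spGL i y₁).isUnit
      rw [Matrix.det_kronecker, IsUnit.mul_iff, isUnit_pow_iff Fintype.card_ne_zero,
        isUnit_pow_iff Fintype.card_ne_zero] at hdet
      exact isStd_of_kronecker (A := ((Matrix.isUnit_iff_isUnit_det A).2 hdet.1).unit)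
        (B := ((Matrix.isUnit_iff_isUnit_det B).2 hdet.2).unit) eAB (isStd_fin_one _)
    refine H.isStd_of_kr hk hX IH ht (X.mul_mem hy ?_) eAB
    obtain ⟨l, hli, hlj⟩ : ∃ l, l ≠ i ∧ l ≠ j := by
      obtain ⟨l, -, hl⟩ := Finset.exists_mem_notMem_of_card_lt_card (s := ({i, j} : Finset (Fin (t + 1))))
        (t := Finset.univ) (lt_of_le_of_lt Finset.card_le_two (by rw [Finset.card_univ, Fintype.card_fin]; omega))
      simp only [Finset.mem_insert, Finset.mem_singleton, not_or] at hl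
      exact ⟨l, hl⟩
    have h7 := H.lift (by omega) 1 (Equiv.swap i j) l (Equiv.swap_apply_of_ne_of_ne hli hlj) rfl
    rw [pureGL_one, one_mul] at h7
    refine h7 ?_
    show adjV D (perm _) * perm _ = 1
    rw [adjV_perm, perm_mul, inv_mul_cancel, perm_one]
  · intro hk3 y hy i B e hB hBB hB1 he hBe hcomm
    set Z := (spGL i y : Matrix ((Fin t → Fin k) × Fin k) ((Fin t → Fin k) × Fin k) F) with hZ
    have hMem : Mem (X.map (spGL i).toMonoidHom) Z := ⟨spGL i y, Subgroup.mem_map_of_mem _ hy, rfl⟩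
    have C := H.pairCtx hX i
    have hM := C.mov_of_mem hMem
    obtain ⟨e', A, hA⟩ := C.line_of_commute (H.rigid hk3 i) hM hB hBB hB1 he hBe (by
      rw [hZ, spGL_val, ← sub_emb i, ← sub_mul_sub, ← sub_mul_sub, hcomm.eq])
    obtain ⟨B', hB'⟩ := C.kronecker_big (H.rigid hk3 i) hM hk3 he hA
    exact H.isStd_of_kr hk hX IH ht hy hB'

end Hyp

/-- An element of the group sending a root to a standard element is standard. -/
theorem isStd_of_conj_root {X : Subgroup (GL (Fin (t + 1) → Fin k) F)} (C : Ctx D X)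
    {r y : GL (Fin (t + 1) → Fin k) F} (hr : IsSRoot D r) (hrX : r ∈ X) (hy : y ∈ X)
    (hx : IsStd (y * r * y⁻¹)) : IsStd y :=
  C.root_map y hy r hr (isSRoot_of_conj C.hyp.two C.two hr
    (C.hyp.iso _ (X.mul_mem (X.mul_mem hy hrX) (X.inv_mem hy))) hx)

/-- A `p`-group of the overgroup containing a root is standard. -/
theorem std_of_pGroup [Fintype F] {X : Subgroup (GL (Fin (t + 1) → Fin k) F)} (C : Ctx D X) {p : ℕ}
    [Fact p.Prime] {P : Subgroup (GL (Fin (t + 1) → Fin k) F)}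
    (hP : IsPGroup p P) (hPX : P ≤ X) {r : GL (Fin (t + 1) → Fin k) F} (hr : IsSRoot D r) (hrP : r ∈ P) :
    ∀ z ∈ P, IsStd z := by
  classical
  haveI := hP.isNilpotent
  set Q := (Cfsg.Geo.tensorWreathStandard k (t + 1) F).subgroupOf P
  by_contra! h
  obtain ⟨z, hzP, hz⟩ := h
  have hQ : Q < ⊤ := lt_top_iff_ne_top.2 fun h => hz (mem_std_iff.1 (by
    have : (⟨z, hzP⟩ : P) ∈ Q := h ▸ Subgroup.mem_top _
    exact Subgroup.mem_subgroupOf.1 this))
  obtain ⟨w, hw, hwQ⟩ := SetLike.exists_of_lt (normalizerCondition_of_isNilpotent (G := P) Q hQ)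
  refine hwQ (Subgroup.mem_subgroupOf.2 (mem_std_iff.2 (isStd_of_conj_root C hr (hPX hrP) (hPX w.2) ?_)))
  exact mem_std_iff.1 (Subgroup.mem_subgroupOf.1
    ((Subgroup.mem_normalizer_iff.1 hw ⟨r, hrP⟩).1 (Subgroup.mem_subgroupOf.2 (mem_std_iff.2 hr.isStd))))

end CfsgLib.HallGen.SympWreath
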