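/-
Overgroups with scalar central maps over factors of degree at least three consist of standard elements.
-/
import Cfsg.Agent.Lib.HallGen.SympWreath.Std
import Cfsg.Agent.Lib.Geo.TensorWreath.Odd

set_option autoImplicit false
set_option linter.unusedSectionVars false
set_option maxHeartbeats 400000

namespace CfsgLib.HallGen.SympWreath

open Matrix CfsgLib.Geo CfsgLib.Geo.SpinTensor CfsgLib.Geo.TensorWreath
open scoped Kronecker

variable {F : Type*} [Field F] [Fintype F] {k t : ℕ} {D : Factor F k} {X : Subgroup (GL (Fin (t + 1) → Fin k) F)}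

/-- **Every element is standard when the factors have degree at least three.** -/
theorem isStd_of_big (C : Ctx D X) (hm : 3 ≤ k) {g : GL (Fin (t + 1) → Fin k) F} (hg : g ∈ X) : IsStd g := by
  classical
  by_contra hgs
  have h2 := C.hyp.two
  haveI : NeZero k := ⟨by omega⟩
  set v : Fin k → F := Pi.single 0 1
  have hv : v ≠ 0 := Function.ne_iff.2 ⟨0, by simp [v]⟩
  set φ : Fin k → F := v ᵥ* D.J
  have hφ : φ ≠ 0 := fun h => hv (D.vecMul_J_injective (by rw [Matrix.zero_vecMul]; exact h))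
  have hφv : φ ⬝ᵥ v = 0 := D.alt v
  set i : Fin (t + 1) := 0
  set r := rootGL i v φ hφv
  have hR : IsSRoot D r := ⟨i, v, 1, hv, one_ne_zero, by
    rw [rootGL_val, rootMat_eq_emb, one_smul]; rfl⟩
  have hrX : r ∈ X := by
    obtain ⟨g', hg', eg'⟩ := C.hyp.base i _ (D.iso_transv v 1)
    rw [show r = g' from Units.ext (by rw [eg', rootGL_val, rootMat_eq_emb, one_smul]; rfl)]
    exact hg'
  set s := g * r * g⁻¹
  have hsX : s ∈ X := X.mul_mem (X.mul_mem hg hrX) (X.inv_mem hg)
  have hs : ¬ IsStd s := fun h => hgs (isStd_of_conj_root C hR hrX hg h)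
  set a := (r : Matrix (Fin (t + 1) → Fin k) (Fin (t + 1) → Fin k) F) - 1
  set b := (s : Matrix (Fin (t + 1) → Fin k) (Fin (t + 1) → Fin k) F) - 1
  have ha : a * a = 0 := hR.mul_self
  have hb : b * b = 0 := conj_sq_zero hR
  have har : (r : Matrix (Fin (t + 1) → Fin k) (Fin (t + 1) → Fin k) F) = 1 + a := by simp [a]
  have hbs : (s : Matrix (Fin (t + 1) → Fin k) (Fin (t + 1) → Fin k) F) = 1 + b := by simp [b]
  have hGX : Subgroup.closure {r, s} ≤ X := (Subgroup.closure_le X).2 (by
    rintro x (rfl | rfl) <;> assumption)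
  set p := ringChar F
  haveI : Fact p.Prime := ⟨CharP.char_is_prime F p⟩
  have hK : ¬ IsNilpotent (a * b + b * a) := fun h => hs (std_of_pGroup C (isPGroup_of_nilpotent ha hb har hbs p h) hGX
    hR (Subgroup.subset_closure (Set.mem_insert _ _)) s (Subgroup.subset_closure (Set.mem_insert_of_mem _ rfl)))
  haveI : Fact (Nat.Prime 2) := ⟨Nat.prime_two⟩
  obtain ⟨u₀, hu₀⟩ := exists_prime_orderOf_dvd_card' 2 (even_card_of_eigen ha hb har hbs hK)
  set u : GL (Fin (t + 1) → Fin k) F := (u₀ : GL (Fin (t + 1) → Fin k) F)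
  have huo : orderOf u = 2 := by rw [← hu₀]; exact Subgroup.orderOf_coe u₀
  have huu : u * u = 1 := by rw [← pow_two, ← huo, pow_orderOf_eq_one]
  have hu1 : u ≠ 1 := fun h => by rw [h, orderOf_one] at huo; omega
  obtain ⟨P, hP0, hP⟩ := involution_eq ha hb har hbs h2 u₀.2 huu
  have hua : Commute (u : Matrix (Fin (t + 1) → Fin k) (Fin (t + 1) → Fin k) F) a := by
    rw [hP]; exact (commute_inK_left ha P).symm
  have hub : Commute (u : Matrix (Fin (t + 1) → Fin k) (Fin (t + 1) → Fin k) F) b := by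
    rw [hP]; exact (commute_inK_right hb P).symm
  have huX : u ∈ X := hGX u₀.2
  have hfix : u * r * u⁻¹ = r := by
    rw [mul_inv_eq_iff_eq_mul]
    refine Units.ext ?_
    rw [Units.val_mul, Units.val_mul, har, mul_add, mul_one, add_mul, one_mul, hua.eq]
  obtain ⟨A, B, hAB, hBv, hφB⟩ :=
    split_of_fix_root hm (C.root_map u huX r hR (by rw [hfix]; exact hR)) hφv hv hφ hfix
  obtain ⟨Q, hQ⟩ : Polynomial.X ∣ P - 1 := by
    rw [Polynomial.X_dvd_iff, Polynomial.coeff_zero_eq_eval_zero, Polynomial.eval_sub, Polynomial.eval_one, hP0,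
      sub_self]
  have hQu : (u : Matrix (Fin (t + 1) → Fin k) (Fin (t + 1) → Fin k) F) - 1 = (a * b + b * a) * inK a b Q := by
    rw [hP, ← map_one (inK a b), ← map_sub, hQ, map_mul, inK_X]
  -- the vectors negated by `u` and killed by `a` are on the line of the root
  have hD : ∀ (w : (Fin t → Fin k) → F) (x : Fin k → F), φ ⬝ᵥ x = 0 →
      (A ⊗ₖ B) *ᵥ TensorLinear.pt w x = -TensorLinear.pt w x → w ≠ 0 → ∃ d : F, x = d • v := by
    intro w x hφx hux hw
    by_contra! hxv
    obtain ⟨χ, hχv, hχx⟩ := exists_kill_first hxv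
    set W : (Fin (t + 1) → Fin k) → F := TensorLinear.pt w x ∘ (sp i).symm
    have hsub : ∀ M : Matrix (Fin (t + 1) → Fin k) (Fin (t + 1) → Fin k) F, ∀ z,
        (M *ᵥ z) ∘ (sp i) = M.submatrix (sp i) (sp i) *ᵥ (z ∘ sp i) := fun M z => by
      rw [Matrix.submatrix_mulVec_equiv]
      simp [Function.comp_assoc]
    have hWs : W ∘ sp i = TensorLinear.pt w x := by funext q; simp [W]
    have haS : a.submatrix (sp i) (sp i) =
        (TensorLinear.emb (Fin t → Fin k) v : Matrix ((Fin t → Fin k) × Fin k) (Fin t → Fin k) F) *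
          (TensorLinear.con (Fin t → Fin k) φ : Matrix (Fin t → Fin k) ((Fin t → Fin k) × Fin k) F) := by
      rw [show a.submatrix (sp i) (sp i) = (rootMat i v φ).submatrix (sp i) (sp i) - 1 from
        submatrix_sub_one _ (sp i), sub_rootMat, add_sub_cancel_left]
    have hinj : ∀ z z' : (Fin (t + 1) → Fin k) → F, z ∘ sp i = z' ∘ sp i → z = z' :=
      fun z z' h => (sp i).surjective.injective_comp_right h
    have haW : a *ᵥ W = 0 := hinj _ _ (by
      rw [hsub, hWs, haS, ← Matrix.mulVec_mulVec, TensorLinear.con_pt, hφx, zero_smul, Matrix.mulVec_zero]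
      rfl)
    have huW : (u : Matrix (Fin (t + 1) → Fin k) (Fin (t + 1) → Fin k) F) *ᵥ W = -W := hinj _ _ (by
      rw [hsub, hWs, ← spGL_val, hAB, hux, ← hWs]
      rfl)
    have hz : a *ᵥ (b *ᵥ (inK a b Q *ᵥ W)) = (-2 : F) • W := by
      have h1 := congrArg (· *ᵥ W) hQu
      simp only [Matrix.sub_mulVec, Matrix.one_mulVec, ← Matrix.mulVec_mulVec, Matrix.add_mulVec, huW] at h1
      rw [Matrix.mulVec_mulVec W a (inK a b Q), commute_inK_left ha, ← Matrix.mulVec_mulVec, haW, Matrix.mulVec_zero,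
        Matrix.mulVec_zero, add_zero] at h1
      rw [← h1]
      module
    have h3 := congrArg (fun z => TensorLinear.con (Fin t → Fin k) χ *ᵥ (z ∘ sp i)) hz
    rw [hsub, haS, show ((-2 : F) • W) ∘ sp i = (-2 : F) • (W ∘ sp i) from rfl, hWs, Matrix.mulVec_smul,
      TensorLinear.con_pt, hχx, one_smul, ← Matrix.mulVec_mulVec, TensorLinear.emb_mulVec, TensorLinear.con_pt,
      hχv, zero_smul] at h3
    exact hw ((smul_eq_zero.1 h3.symm).resolve_left (neg_ne_zero.2 h2))
  obtain ⟨χ, hχ⟩ := exists_dual_one hv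
  have hsq : (A * A) ⊗ₖ (B * B) = (1 : Matrix ((Fin t → Fin k) × Fin k) ((Fin t → Fin k) × Fin k) F) := by
    rw [Matrix.mul_kronecker_mul, ← hAB, ← Units.val_mul, ← map_mul, huu, map_one, Units.val_one]
  have hA2 : A * A = 1 := by
    refine Matrix.toLin'.injective (LinearMap.ext fun w => ?_)
    rw [Matrix.toLin'_apply, Matrix.toLin'_apply, Matrix.one_mulVec]
    have h4 := congrArg (fun M => TensorLinear.con (Fin t → Fin k) χ *ᵥ (M *ᵥ TensorLinear.pt w v)) hsq
    simp only [kron_mulVec_pt, Matrix.one_mulVec, ← Matrix.mulVec_mulVec, hBv, TensorLinear.con_pt, hχ,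
      one_smul] at h4
    rw [← Matrix.mulVec_mulVec]
    exact h4
  have hB2 : B * B = 1 := by
    have h4 := hsq
    rw [hA2] at h4
    ext p q
    have := congrFun (congrFun h4 ((fun _ => 0), p)) ((fun _ => 0), q)
    simpa [Matrix.one_apply] using this
  have hBne : B ≠ 1 := by
    intro hB1
    obtain ⟨w, hw⟩ : ∃ w : (Fin t → Fin k) → F, A *ᵥ w - w ≠ 0 := by
      by_contra! h
      refine hu1 ((spGL i).injective (Units.ext ?_))
      rw [map_one, hAB, hB1, Units.val_one, show A = 1 from Matrix.toLin'.injective (LinearMap.ext fun w => by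
        rw [Matrix.toLin'_apply, Matrix.toLin'_apply, Matrix.one_mulVec]; exact sub_eq_zero.1 (h w)),
        Matrix.one_kronecker_one]
    obtain ⟨x, hx0, hx⟩ := TensorLinear.exists_perp ![φ, χ]
      (show 2 < Fintype.card (Fin k) by rw [Fintype.card_fin]; omega)
    have hφx : φ ⬝ᵥ x = 0 := by rw [dotProduct_comm]; exact hx 0
    have hχx : χ ⬝ᵥ x = 0 := by rw [dotProduct_comm]; exact hx 1
    obtain ⟨d, hd⟩ := hD (A *ᵥ w - w) x hφx (by
      rw [kron_mulVec_pt, hB1, Matrix.one_mulVec, Matrix.mulVec_sub, Matrix.mulVec_mulVec, hA2, Matrix.one_mulVec]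
      funext q
      simp [TensorLinear.pt]
      ring) hw
    rw [hd, dotProduct_smul, hχ, smul_eq_mul, mul_one] at hχx
    exact hx0 (by rw [hd, hχx, zero_smul])
  have hA : A = -1 := by
    by_contra hA
    obtain ⟨w, hw⟩ : ∃ w : (Fin t → Fin k) → F, A *ᵥ w + w ≠ 0 := by
      by_contra! h
      refine hA (Matrix.toLin'.injective (LinearMap.ext fun w => ?_))
      rw [Matrix.toLin'_apply, Matrix.toLin'_apply, Matrix.neg_mulVec, Matrix.one_mulVec]
      exact eq_neg_of_add_eq_zero_left (h w)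
    obtain ⟨z, hz⟩ : ∃ z : Fin k → F, B *ᵥ z - z ≠ 0 := by
      by_contra! h
      exact hBne (Matrix.toLin'.injective (LinearMap.ext fun z => by
        rw [Matrix.toLin'_apply, Matrix.toLin'_apply, Matrix.one_mulVec]; exact sub_eq_zero.1 (h z)))
    have hBz : B *ᵥ (B *ᵥ z - z) = -(B *ᵥ z - z) := by
      rw [Matrix.mulVec_sub, Matrix.mulVec_mulVec, hB2, Matrix.one_mulVec]; abel
    obtain ⟨d, hd⟩ := hD (A *ᵥ w + w) (B *ᵥ z - z) (by
      rw [dotProduct_sub, Matrix.dotProduct_mulVec, hφB, sub_self]) (by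
      rw [kron_mulVec_pt, hBz, Matrix.mulVec_add, Matrix.mulVec_mulVec, hA2, Matrix.one_mulVec]
      funext q
      simp [TensorLinear.pt]
      ring) hw
    have h5 := hBz
    rw [hd, Matrix.mulVec_smul, hBv] at h5
    have h6 : (2 : F) • (d • v) = 0 := by rw [two_smul]; nth_rewrite 1 [h5]; exact neg_add_cancel _
    exact hz (hd.trans ((smul_eq_zero.1 h6).resolve_left h2))
  have hu : (u : Matrix (Fin (t + 1) → Fin k) (Fin (t + 1) → Fin k) F) = emb i (-B) := by
    refine (Matrix.reindex (sp i).symm (sp i).symm).injective ?_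
    rw [Matrix.reindex_apply, Matrix.reindex_apply, Equiv.symm_symm, ← spGL_val, hAB, sub_emb, hA]
    ext p q
    simp [Matrix.kroneckerMap_apply]
  have hBiso : D.Iso B := by
    have h9 := C.hyp.iso u huX
    rw [hu, adjV_emb, emb_mul_emb, D.adj_neg, neg_mul_neg, ← emb_one i] at h9
    exact emb_inj i h9
  refine hs (C.comm hm s hsX i B v hBiso hB2 hBne hv hBv ?_)
  have h9 : Commute (s : Matrix (Fin (t + 1) → Fin k) (Fin (t + 1) → Fin k) F) (SpinTensor.emb i (-B)) := by
    rw [← hu, hbs]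
    exact ((Commute.one_right _).add_right hub).symm
  rw [map_neg] at h9
  simpa using h9.neg_right

end CfsgLib.HallGen.SympWreath
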