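/-
Two quadratic one-parameter groups generate an element which is a root on the invertible part of `a * b + b * a` and
trivial on the nilpotent part.
-/
import Cfsg.Agent.Lib.Geo.TensorWreath.Quadratic
import Cfsg.Agent.Lib.QuadPair.SL2Gen
import Mathlib.RingTheory.AdjoinRoot

set_option autoImplicit false
set_option linter.unusedSectionVars false
set_option maxHeartbeats 400000

namespace CfsgLib.HallGen.SympWreath

open Matrix Polynomial CfsgLib.Geo.TensorWreath

section Units22

variable {A : Type*} [CommRing A] {M : Type*} [Ring M] (φ : A →+ M) (a b : M) (zi : A)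

/-- The linear combination of four matrix units. -/
def lift22 (N : Matrix (Fin 2) (Fin 2) A) : M :=
  φ (N 0 0 * zi) * (a * b) + φ (N 0 1) * a + φ (N 1 0 * zi) * b + φ (N 1 1 * zi) * (b * a)

variable {φ a b zi} {z : A}

theorem lift22_mul (hm : ∀ x y, φ (x * y) = φ x * φ y) (hca : ∀ x, a * φ x = φ x * a) (hcb : ∀ x, b * φ x = φ x * b)
    (ha : a * a = 0) (hb : b * b = 0) (hK : ∀ x, φ x * (a * b + b * a) = φ (x * z)) (hz : z * zi = 1)
    (N N' : Matrix (Fin 2) (Fin 2) A) : lift22 φ a b zi (N * N') = lift22 φ a b zi N * lift22 φ a b zi N' := by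
  have ha' : ∀ w, a * (a * w) = 0 := fun w => by rw [← mul_assoc, ha, zero_mul]
  have hb' : ∀ w, b * (b * w) = 0 := fun w => by rw [← mul_assoc, hb, zero_mul]
  have hca' : ∀ x w, a * (φ x * w) = φ x * (a * w) := fun x w => by rw [← mul_assoc, hca, mul_assoc]
  have hcb' : ∀ x w, b * (φ x * w) = φ x * (b * w) := fun x w => by rw [← mul_assoc, hcb, mul_assoc]
  have haba : ∀ x, φ x * (a * (b * a)) = φ (x * z) * a := fun x => by
    rw [← hK, mul_assoc, add_mul, mul_assoc b, ha, mul_zero, add_zero, mul_assoc]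
  have hbab : ∀ x, φ x * (b * (a * b)) = φ (x * z) * b := fun x => by
    rw [← hK, mul_assoc, add_mul, mul_assoc a, hb, mul_zero, zero_add, mul_assoc]
  have haba' : ∀ x w, φ x * (a * (b * (a * w))) = φ (x * z) * (a * w) := fun x w => by
    rw [← mul_assoc b, ← mul_assoc a, ← mul_assoc (φ x), haba, mul_assoc]
  have hbab' : ∀ x w, φ x * (b * (a * (b * w))) = φ (x * z) * (b * w) := fun x w => by
    rw [← mul_assoc a, ← mul_assoc b, ← mul_assoc (φ x), hbab, mul_assoc]
  have hφ : ∀ x y w, φ x * (φ y * w) = φ (x * y) * w := fun x y w => by rw [hm, mul_assoc]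
  simp only [lift22, Matrix.mul_apply, Fin.sum_univ_two, add_mul, mul_add, mul_assoc, hca', hcb', ha, hb, ha', hb',
    hφ, haba', hbab', haba, hbab, mul_zero, add_zero, zero_add, map_add]
  have e1 : ∀ x y : A, x * (zi * (y * (zi * z))) = x * (y * zi) := fun x y => by
    linear_combination (x * y * zi) * hz
  have e2 : ∀ x y : A, x * (zi * (y * z)) = x * y := fun x y => by linear_combination (x * y) * hz
  have e3 : ∀ x y : A, x * (y * (zi * z)) = x * y := fun x y => by linear_combination (x * y) * hz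
  have e4 : ∀ x y : A, x * (zi * y) = x * (y * zi) := fun x y => by ring
  simp only [e2, e3]
  simp only [e4]
  abel

theorem lift22_one (hK : ∀ x, φ x * (a * b + b * a) = φ (x * z)) (hz : z * zi = 1) :
    lift22 φ a b zi 1 = φ 1 := by
  simp only [lift22, Matrix.one_apply_eq, Matrix.one_apply_ne (show (0 : Fin 2) ≠ 1 by decide),
    Matrix.one_apply_ne (show (1 : Fin 2) ≠ 0 by decide), zero_mul, map_zero, one_mul, add_zero]
  rw [← mul_add, hK, mul_comm, hz]

theorem lift22_up (hK : ∀ x, φ x * (a * b + b * a) = φ (x * z)) (hz : z * zi = 1) (x : A) :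
    lift22 φ a b zi (QuadPair.mat (QuadPair.up x)) = φ 1 + φ x * a := by
  have h1 : φ zi * (a * b) + φ zi * (b * a) = φ 1 := by rw [← mul_add, hK, mul_comm, hz]
  rw [← h1]
  simp only [lift22, QuadPair.up_coe]
  simp
  abel

theorem lift22_lo (hK : ∀ x, φ x * (a * b + b * a) = φ (x * z)) (hz : z * zi = 1) (x : A) :
    lift22 φ a b zi (QuadPair.mat (QuadPair.lo (x * z))) = φ 1 + φ x * b := by
  have h1 : φ zi * (a * b) + φ zi * (b * a) = φ 1 := by rw [← mul_add, hK, mul_comm, hz]
  rw [← h1]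
  simp only [lift22, QuadPair.lo_coe]
  simp [mul_assoc, hz]
  abel

end Units22

variable {F : Type*} [Field F] {n : Type} [Fintype n] [DecidableEq n]

/-- The group of two quadratic one-parameter families. -/
def quadGroup (a b : Matrix n n F) : Subgroup (GL n F) :=
  Subgroup.closure {g | ∃ x : F, (g : Matrix n n F) = 1 + x • a ∨ (g : Matrix n n F) = 1 + x • b}

theorem isComb_quadGroup {a b : Matrix n n F} (ha : a * a = 0) (hb : b * b = 0) {g : GL n F}
    (hg : g ∈ quadGroup a b) : IsComb (inK a b) a b X (C.comp (evalRingHom 0)) g := by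
  have hinv : ∀ (g : GL n F) (c : Matrix n n F) (x : F), c * c = 0 → (g : Matrix n n F) = 1 + x • c →
      ((g⁻¹ : GL n F) : Matrix n n F) = 1 + (-x) • c := fun g c x hc e => Units.inv_eq_of_mul_eq_one_right (by
    rw [e, mul_add, mul_one, add_mul, one_mul, smul_mul_smul_comm, hc, smul_zero, add_zero, add_assoc, ← add_smul,
      add_neg_cancel, zero_smul, add_zero])
  induction hg using Subgroup.closure_induction with
  | mem g hg =>
    obtain ⟨x, h | h⟩ := hg
    · exact ⟨1, C x, 0, 0, map_one _, by simp [comb, h, inK_C],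
        by rw [hinv g a x ha h]; simp [rev, comb, inK_C]⟩
    · exact ⟨1, 0, C x, 0, map_one _, by simp [comb, h, inK_C],
        by rw [hinv g b x hb h]; simp [rev, comb, inK_C]⟩
  | one => exact ⟨1, 0, 0, 0, map_one _, by simp [comb], by simp [rev, comb]⟩
  | inv g _ ih =>
    obtain ⟨c₀, c₁, c₂, c₃, h1, hg, hg'⟩ := ih
    refine ⟨c₀ + c₃ * X, -c₁, -c₂, -c₃, ?_, hg', ?_⟩
    · rw [map_add, map_mul, h1, show (C.comp (evalRingHom (0 : F))) X = 0 by simp, mul_zero, add_zero]
    · rw [inv_inv, hg, rev]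
      congr 1 <;> ring
  | mul g h _ _ ih ih' =>
    obtain ⟨c₀, c₁, c₂, c₃, h1, hg, hg'⟩ := ih
    obtain ⟨d₀, d₁, d₂, d₃, h2, hh, hh'⟩ := ih'
    have hk : inK a b X = a * b + b * a := inK_X
    refine ⟨_, _, _, _, ?_,
      by rw [Units.val_mul, hg, hh, comb_mul (inK a b) a b ha hb hk (commute_inK_left ha) (commute_inK_right hb)], ?_⟩
    · rw [map_add, map_mul, map_mul, h1, h2, show (C.comp (evalRingHom (0 : F))) X = 0 by simp]
      simp
    · rw [_root_.mul_inv_rev, Units.val_mul, hg', hh', rev, rev,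
        comb_mul (inK a b) a b ha hb hk (commute_inK_left ha) (commute_inK_right hb), rev]
      congr 1 <;> ring

theorem pow_nilp {a b : Matrix n n F} (ha : a * a = 0) (hb : b * b = 0) {g : GL n F} (hg : g ∈ quadGroup a b)
    {P : Matrix n n F} (hP : P * P = P) (hPK : Commute P (a * b + b * a))
    (hPg : Commute P (g : Matrix n n F)) {N : ℕ} (hN : P * (a * b + b * a) ^ N = 0) :
    P * (((g : Matrix n n F) - 1) ^ (2 * N)) = 0 := by
  obtain ⟨c₀, c₁, c₂, c₃, h0, e, -⟩ := isComb_quadGroup ha hb hg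
  obtain ⟨d, hd⟩ : X ∣ c₀ - 1 := by
    have h : c₀.eval 0 = 1 := C_injective (by simpa using h0)
    rw [X_dvd_iff, coeff_zero_eq_eval_zero, eval_sub, eval_one, h, sub_self]
  set x := (g : Matrix n n F) - 1
  have hx : x = comb (inK a b) a b (X * d) c₁ c₂ c₃ := by
    rw [← hd]
    simp only [x, e, comb, map_sub, map_one]
    abel
  obtain ⟨y, hy, hyc⟩ : ∃ y, x * x = (a * b + b * a) * y ∧ Commute (a * b + b * a) y := by
    refine ⟨comb (inK a b) a b (d * (X * d) + c₂ * c₁) (d * c₁ + c₁ * d + c₃ * c₁) (d * c₂ + c₂ * d + c₂ * c₃)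
      (d * c₃ + c₃ * d + c₃ * c₃), ?_, ?_⟩
    · rw [hx, comb_mul (inK a b) a b ha hb inK_X (commute_inK_left ha) (commute_inK_right hb), ← inK_X, comb, comb]
      simp only [mul_add, ← mul_assoc, ← map_mul]
      congr 4 <;> ring
    · rw [← inK_X]
      have hc : ∀ q : F[X], Commute (inK a b X) (inK a b q) := fun q => (Commute.all X q).map (inK a b)
      have hA : Commute (inK a b X) a := (commute_inK_left ha X).symm
      have hB : Commute (inK a b X) b := (commute_inK_right hb X).symm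
      exact (((hc _).add_right ((hc _).mul_right hA)).add_right ((hc _).mul_right hB)).add_right
        ((hc _).mul_right (hA.mul_right hB))
  rw [pow_mul, pow_two, hy, hyc.mul_pow, ← mul_assoc, hN, zero_mul]

/-- **An element which is a root on the invertible part and trivial on the nilpotent part.** -/
theorem exists_local_root [Finite F] (h2 : (2 : F) ≠ 0) (hq : Nat.card F ≠ 3) {a b : Matrix n n F}
    (ha : a * a = 0) (hb : b * b = 0) (hK : ¬ IsNilpotent (a * b + b * a)) {v : n → F} (hav : a *ᵥ v = 0)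
    (hbv : b *ᵥ v = 0) :
    ∃ (P : F[X]) (μ : F), μ ≠ 0 ∧ inK a b P * inK a b P = inK a b P ∧ inK a b P *ᵥ v = 0 ∧ inK a b P * a ≠ 0 ∧
      ∃ z ∈ quadGroup a b, (z : Matrix n n F) = 1 + μ • (inK a b P * a) := by
  classical
  set K := a * b + b * a
  have hmonic : (minpoly F K).Monic := minpoly.monic (Algebra.IsIntegral.isIntegral K)
  obtain ⟨m1, hm1, hnd⟩ := (minpoly F K).exists_eq_pow_rootMultiplicity_mul_and_not_dvd hmonic.ne_zero 0
  rw [map_zero, sub_zero] at hm1 hnd
  set N := (minpoly F K).rootMultiplicity 0 with hN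
  have hm1m : m1.Monic := (monic_X_pow N).of_mul_monic_left (hm1 ▸ hmonic)
  obtain ⟨u, w, huw⟩ : IsCoprime (X ^ (N + 1) : F[X]) m1 := ((Prime.coprime_iff_not_dvd prime_X).2 hnd).pow_left
  set P : F[X] := u * X ^ (N + 1) with hPdef
  have hzero : ∀ q : F[X], inK a b (X ^ (N + 1) * m1 * q) = 0 := fun q => by
    rw [pow_succ', mul_assoc X, ← hm1, map_mul, map_mul, inK_X, show inK a b (minpoly F K) = 0 from
      minpoly.aeval F K, mul_zero, zero_mul]
  set A := AdjoinRoot m1
  haveI : FiniteDimensional F A := (AdjoinRoot.powerBasis' hm1m).finite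
  have hsurj : Function.Surjective (AdjoinRoot.mk m1) := AdjoinRoot.mk_surjective
  have hwell : ∀ p q : F[X], AdjoinRoot.mk m1 p = AdjoinRoot.mk m1 q → inK a b (P * p) = inK a b (P * q) := by
    intro p q h
    obtain ⟨r, hr⟩ := AdjoinRoot.mk_eq_mk.1 h
    rw [← sub_eq_zero, ← map_sub, ← mul_sub, hr, show P * (m1 * r) = X ^ (N + 1) * m1 * (u * r) by rw [hPdef]; ring,
      hzero]
  let φ : A →+ Matrix n n F :=
    AddMonoidHom.mk' (fun x => inK a b (P * Function.surjInv hsurj x)) fun x y => by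
      rw [← map_add, ← mul_add]
      exact hwell _ _ (by rw [map_add]; simp only [Function.surjInv_eq hsurj])
  have hφ : ∀ p : F[X], φ (AdjoinRoot.mk m1 p) = inK a b (P * p) := fun p =>
    hwell _ _ (Function.surjInv_eq hsurj _)
  set π := inK a b P with hπ
  have hφ1 : φ 1 = π := by rw [← map_one (AdjoinRoot.mk m1), hφ, mul_one]
  have hPP : ∀ q, inK a b (P * P * q) = inK a b (P * q) := fun q => by
    rw [← sub_eq_zero, ← map_sub, show P * P * q - P * q = X ^ (N + 1) * m1 * (-(u * w * q)) by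
      rw [hPdef]; linear_combination (u * X ^ (N + 1) * q) * huw, hzero]
  have hππ : π * π = π := by rw [hπ, ← map_mul, ← mul_one (P * P), hPP, mul_one]
  have hm : ∀ x y, φ (x * y) = φ x * φ y := by
    intro x y
    obtain ⟨p, rfl⟩ := hsurj x
    obtain ⟨q, rfl⟩ := hsurj y
    rw [← map_mul, hφ, hφ, hφ, ← map_mul, show P * p * (P * q) = P * P * (p * q) by ring, hPP]
  have hca : ∀ x, a * φ x = φ x * a := fun x => commute_inK_left ha _
  have hcb : ∀ x, b * φ x = φ x * b := fun x => commute_inK_right hb _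
  set z := AdjoinRoot.root m1
  set zi := AdjoinRoot.mk m1 (u * X ^ N)
  have hz : z * zi = 1 := by
    show AdjoinRoot.root m1 * AdjoinRoot.mk m1 _ = 1
    rw [← AdjoinRoot.mk_X, ← map_mul, show X * (u * X ^ N) = 1 - w * m1 by linear_combination huw, map_sub, map_one,
      map_mul, AdjoinRoot.mk_self, mul_zero, sub_zero]
  have hKz : ∀ x, φ x * (a * b + b * a) = φ (x * z) := fun x => by
    obtain ⟨p, rfl⟩ := hsurj x
    rw [show z = AdjoinRoot.mk m1 X from AdjoinRoot.mk_X.symm, ← map_mul, hφ, hφ, ← inK_X, ← map_mul, mul_assoc]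
  have hcF : ∀ c : F, φ (algebraMap F A c) = c • π := fun c => by
    rw [AdjoinRoot.algebraMap_eq, ← AdjoinRoot.mk_C, hφ, map_mul, inK_C, mul_smul_comm, mul_one]
  let Φ : SpecialLinearGroup (Fin 2) A → Matrix n n F := fun M => lift22 φ a b zi (QuadPair.mat M)
  have Φ_mul : ∀ M M', Φ (M * M') = Φ M * Φ M' := fun M M' => by
    show lift22 φ a b zi _ = _
    rw [QuadPair.mat_mul, lift22_mul hm hca hcb ha hb hKz hz]
  have Φ_one : Φ 1 = π := by
    show lift22 φ a b zi _ = _
    rw [QuadPair.mat_one, lift22_one hKz hz, hφ1]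
  set G := quadGroup a b
  have hcomm : ∀ g ∈ G, ∀ q : F[X], Commute (inK a b q) (g : Matrix n n F) := by
    intro g hg q
    obtain ⟨c₀, c₁, c₂, c₃, -, e, -⟩ := isComb_quadGroup ha hb hg
    have hc : ∀ r : F[X], Commute (inK a b q) (inK a b r) := fun r => (Commute.all q r).map (inK a b)
    have hA : Commute (inK a b q) a := (commute_inK_left ha q).symm
    have hB : Commute (inK a b q) b := (commute_inK_right hb q).symm
    rw [e]
    exact (((hc _).add_right ((hc _).mul_right hA)).add_right ((hc _).mul_right hB)).add_right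
      ((hc _).mul_right (hA.mul_right hB))
  let H : Subgroup (SpecialLinearGroup (Fin 2) A) :=
    { carrier := {M | ∃ g ∈ G, π * (g : Matrix n n F) = Φ M}
      one_mem' := ⟨1, G.one_mem, by rw [Units.val_one, mul_one, Φ_one]⟩
      mul_mem' := by
        rintro M M' ⟨g, hg, e⟩ ⟨g', hg', e'⟩
        refine ⟨g * g', G.mul_mem hg hg', ?_⟩
        rw [Φ_mul, ← e, ← e', Units.val_mul, mul_assoc π (g : Matrix n n F), ← mul_assoc (g : Matrix n n F) π,
          ← (hcomm g hg P).eq, ← mul_assoc, ← mul_assoc, ← mul_assoc, hππ, mul_assoc]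
      inv_mem' := by
        rintro M ⟨g, hg, e⟩
        refine ⟨g⁻¹, G.inv_mem hg, ?_⟩
        have h1 : Φ M⁻¹ * (π * (g : Matrix n n F)) = π := by rw [e, ← Φ_mul, inv_mul_cancel, Φ_one]
        have h2 : Φ M⁻¹ * π = Φ M⁻¹ := by rw [← Φ_one, ← Φ_mul, mul_one]
        calc π * ((g⁻¹ : GL n F) : Matrix n n F) = Φ M⁻¹ * (π * (g : Matrix n n F)) * ↑g⁻¹ := by rw [h1]
          _ = Φ M⁻¹ * π := by rw [mul_assoc, mul_assoc π, Units.mul_inv, mul_one]
          _ = Φ M⁻¹ := h2 }
  have hgen : ∀ (c : Matrix n n F) (x : F), c * c = 0 → ∃ g : GL n F, (g : Matrix n n F) = 1 + x • c := fun c x hc =>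
    ⟨⟨1 + x • c, 1 - x • c, by rw [mul_sub, mul_one, add_mul, one_mul, smul_mul_smul_comm, hc, smul_zero, add_zero]; abel,
      by rw [mul_add, mul_one, sub_mul, one_mul, smul_mul_smul_comm, hc, smul_zero, sub_zero]; abel⟩, rfl⟩
  have hU : ∀ c : F, QuadPair.up (algebraMap F A c) ∈ H := fun c => by
    obtain ⟨g, hg⟩ := hgen a c ha
    refine ⟨g, Subgroup.subset_closure ⟨c, Or.inl hg⟩, ?_⟩
    show _ = lift22 φ a b zi _
    rw [lift22_up hKz hz, hφ1, hcF, hg, mul_add, mul_one, mul_smul_comm, smul_mul_assoc]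
  have hL : ∀ c : F, QuadPair.lo (algebraMap F A c * z) ∈ H := fun c => by
    obtain ⟨g, hg⟩ := hgen b c hb
    refine ⟨g, Subgroup.subset_closure ⟨c, Or.inr hg⟩, ?_⟩
    show _ = lift22 φ a b zi _
    rw [lift22_lo hKz hz, hφ1, hcF, hg, mul_add, mul_one, mul_smul_comm, smul_mul_assoc]
  have htop := QuadPair.elem_le h2 hq (Module.finrank F A) A le_rfl z (IsUnit.of_mul_eq_one zi hz)
    (AdjoinRoot.adjoinRoot_eq_top) H hU hL
  obtain ⟨l, hl0, hl1⟩ := QuadPair.exists_sq_ne_one' h2 hq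
  obtain ⟨T, hT, eT⟩ := htop (QuadPair.dia_mem_elem (algebraMap F A l) (algebraMap F A (-l⁻¹)))
  -- the torus element, made trivial on the nilpotent part
  set p := ringChar F
  haveI : Fact p.Prime := ⟨CharP.char_is_prime F p⟩
  set e := 2 * (N + 1)
  have he : 2 * (N + 1) ≤ p ^ e := (Nat.lt_pow_self (Fact.out : p.Prime).one_lt).le
  set Q := (1 : Matrix n n F) - π
  have hQQ : Q * Q = Q := by simp only [Q, mul_sub, sub_mul, one_mul, mul_one, hππ]; abel
  have hQK : Q * K ^ (N + 1) = 0 := by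
    simp only [Q, K]
    rw [sub_mul, one_mul, hπ, ← inK_X, ← map_pow, ← map_mul, ← map_sub,
      show X ^ (N + 1) - P * X ^ (N + 1) = X ^ (N + 1) * m1 * w by
        rw [hPdef]; linear_combination -(X ^ (N + 1) : F[X]) * huw, hzero]
  have hQg : ∀ g ∈ G, Commute Q (g : Matrix n n F) := fun g hg => (Commute.one_left _).sub_left (hcomm g hg P)
  have hKQ : Commute Q K := (Commute.one_left _).sub_left (by
    rw [hπ, show K = inK a b X from inK_X.symm]; exact (Commute.all P X).map (inK a b))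
  set T' := T ^ p ^ e
  have hT' : T' ∈ G := G.pow_mem hT _
  have hQT : Q * (T' : Matrix n n F) = Q := by
    have h1 := pow_nilp ha hb hT hQQ hKQ (hQg T hT) hQK
    have h1' : Q * ((T : Matrix n n F) - 1) ^ p ^ e = 0 := by
      rw [← Nat.sub_add_cancel he, pow_add, ← (Commute.pow_pow_self _ _ _).eq, ← mul_assoc, h1, zero_mul]
    rcases isEmpty_or_nonempty n with hn | hn
    · exact Subsingleton.elim _ _
    haveI : CharP (Matrix n n F) p := charP_of_injective_algebraMap (algebraMap F (Matrix n n F)).injective p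
    rw [sub_pow_char_pow_of_commute (p := p) (n := e) (Commute.one_right (T : Matrix n n F)), one_pow, mul_sub,
      mul_one, sub_eq_zero, ← Units.val_pow_eq_pow_val] at h1'
    exact h1'
  set d := QuadPair.dia (algebraMap F A l) (algebraMap F A (-l⁻¹))
  have hd : Φ (d ^ p ^ e) = π * (T' : Matrix n n F) := by
    have : ∀ j : ℕ, Φ (d ^ j) = π * ((T ^ j : GL n F) : Matrix n n F) := by
      intro j
      induction j with
      | zero => rw [pow_zero, pow_zero, Units.val_one, mul_one, Φ_one]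
      | succ j ih =>
        rw [pow_succ, pow_succ, Φ_mul, ih, ← eT, Units.val_mul, mul_assoc π ((T ^ j : GL n F) : Matrix n n F),
          ← mul_assoc ((T ^ j : GL n F) : Matrix n n F) π, ← (hcomm _ (G.pow_mem hT j) P).eq, ← mul_assoc,
          ← mul_assoc, ← mul_assoc, hππ, mul_assoc]
    exact this _
  have hlA : algebraMap F A l * algebraMap F A (-l⁻¹) = -1 := by
    rw [← map_mul, mul_neg, mul_inv_cancel₀ hl0, map_neg, map_one]
  have hconj : d ^ p ^ e * QuadPair.up 1 * (d ^ p ^ e)⁻¹ = QuadPair.up (algebraMap F A ((l ^ 2) ^ p ^ e)) := by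
    have : ∀ j : ℕ, d ^ j * QuadPair.up 1 * (d ^ j)⁻¹ = QuadPair.up (algebraMap F A ((l ^ 2) ^ j)) := by
      intro j
      induction j with
      | zero => simp
      | succ j ih =>
        rw [pow_succ' d, _root_.mul_inv_rev, show d * d ^ j * QuadPair.up 1 * ((d ^ j)⁻¹ * d⁻¹) =
          d * (d ^ j * QuadPair.up 1 * (d ^ j)⁻¹) * d⁻¹ by group, ih, QuadPair.dia_conj_up hlA,
          ← map_mul, ← map_mul, pow_succ' (l ^ 2), sq]
    exact this _
  obtain ⟨r, hr⟩ := hgen a 1 ha
  rw [one_smul] at hr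
  have hrG : r ∈ G := Subgroup.subset_closure ⟨1, Or.inl (by rw [one_smul]; exact hr)⟩
  set zz := T' * r * T'⁻¹ * r⁻¹
  have hzG : zz ∈ G := G.mul_mem (G.mul_mem (G.mul_mem hT' hrG) (G.inv_mem hT')) (G.inv_mem hrG)
  set μ := (l ^ 2) ^ p ^ e - 1
  have hμ : μ ≠ 0 := by
    show (l ^ 2) ^ p ^ e - 1 ≠ 0
    rw [← one_pow (p ^ e), ← sub_pow_char_pow]
    exact pow_ne_zero _ (sub_ne_zero.2 hl1)
  have hπz : π * (zz : Matrix n n F) = π + μ • (π * a) := by
    have hg : ∀ g ∈ G, ∀ M, π * (g : Matrix n n F) = Φ M → π * ((g⁻¹ : GL n F) : Matrix n n F) = Φ M⁻¹ := by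
      intro g hg M e
      have h1 : Φ M⁻¹ * (π * (g : Matrix n n F)) = π := by rw [e, ← Φ_mul, inv_mul_cancel, Φ_one]
      have h2 : Φ M⁻¹ * π = Φ M⁻¹ := by rw [← Φ_one, ← Φ_mul, mul_one]
      calc π * ((g⁻¹ : GL n F) : Matrix n n F) = Φ M⁻¹ * (π * (g : Matrix n n F)) * ↑g⁻¹ := by rw [h1]
        _ = Φ M⁻¹ * π := by rw [mul_assoc, mul_assoc π, Units.mul_inv, mul_one]
        _ = Φ M⁻¹ := h2
    have hr1 : π * (r : Matrix n n F) = Φ (QuadPair.up 1) := by
      show _ = lift22 φ a b zi _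
      rw [lift22_up hKz hz, hφ1, hr, mul_add, mul_one]
    have hsplit : ∀ g ∈ G, ∀ h : GL n F, π * ((g * h : GL n F) : Matrix n n F) =
        (π * (g : Matrix n n F)) * (π * (h : Matrix n n F)) := by
      intro g hg h
      rw [Units.val_mul, mul_assoc π (g : Matrix n n F), ← mul_assoc (g : Matrix n n F) π, ← (hcomm g hg P).eq,
        ← mul_assoc, ← mul_assoc, ← mul_assoc, hππ, mul_assoc]
    rw [hsplit _ (G.mul_mem (G.mul_mem hT' hrG) (G.inv_mem hT')), hsplit _ (G.mul_mem hT' hrG), hsplit _ hT',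
      hg _ hT' _ hd.symm, hg _ hrG _ hr1, ← hd, hr1, ← Φ_mul, ← Φ_mul, ← Φ_mul, hconj, QuadPair.up_inv,
      QuadPair.up_add, ← map_one (algebraMap F A), ← map_neg, ← map_add, ← sub_eq_add_neg]
    show lift22 φ a b zi _ = _
    rw [lift22_up hKz hz, hφ1, hcF, smul_mul_assoc]
  have hQz : Q * (zz : Matrix n n F) = Q := by
    have hQi : Q * ((T'⁻¹ : GL n F) : Matrix n n F) = Q := by
      conv_lhs => rw [← hQT, mul_assoc, Units.mul_inv, mul_one]
    simp only [zz, Units.val_mul, ← mul_assoc, hQT]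
    rw [(hQg r hrG).eq, mul_assoc (r : Matrix n n F), hQi, ← (hQg r hrG).eq, mul_assoc, Units.mul_inv, mul_one]
  refine ⟨P, μ, hμ, hππ, ?_, ?_, zz, hzG, ?_⟩
  · rw [hPdef, map_mul, ← Matrix.mulVec_mulVec, pow_succ, map_mul, ← Matrix.mulVec_mulVec, inK_X, Matrix.add_mulVec,
      ← Matrix.mulVec_mulVec, ← Matrix.mulVec_mulVec, hav, hbv, Matrix.mulVec_zero, Matrix.mulVec_zero, add_zero,
      Matrix.mulVec_zero, Matrix.mulVec_zero]
  · intro h0
    refine hK ⟨N + 1 + 1, ?_⟩
    have h1 : π * K = 0 := by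
      rw [show K = a * b + b * a from rfl, mul_add, ← mul_assoc, h0, zero_mul, zero_add, ← mul_assoc, hπ,
        ← commute_inK_right hb P, mul_assoc, h0, mul_zero]
    have h3 : K ^ (N + 1) = π * K ^ (N + 1) := by
      have := hQK
      rwa [sub_mul, one_mul, sub_eq_zero] at this
    rw [pow_succ, h3, mul_assoc, ← pow_succ, pow_succ', ← mul_assoc, h1, zero_mul]
  · calc (zz : Matrix n n F) = Q * (zz : Matrix n n F) + π * (zz : Matrix n n F) := by
          rw [← add_mul, sub_add_cancel, one_mul]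
      _ = 1 + μ • (π * a) := by rw [hQz, hπz, ← add_assoc, sub_add_cancel]

end CfsgLib.HallGen.SympWreath
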