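/-
Degree two: the adjoint is the adjugate, and the isometries of the tensor square are standard.
-/
import Cfsg.Agent.Lib.HallGen.SympWreath.Std

set_option autoImplicit false
set_option linter.unusedSectionVars false
set_option maxHeartbeats 400000

namespace CfsgLib.HallGen.SympWreath

open Matrix CfsgLib.Geo CfsgLib.Geo.SpinTensor CfsgLib.Geo.TensorWreath
open scoped Kronecker

variable {F : Type*} [Field F]

namespace Factor

variable (D : Factor F 2)

theorem J_two : D.J = !![0, D.J 0 1; -D.J 0 1, 0] := by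
  have h0 := D.alt (Pi.single 0 1)
  have h1 := D.alt (Pi.single 1 1)
  simp [Matrix.single_vecMul] at h0 h1
  have h10 : D.J 1 0 = -D.J 0 1 := by simpa using congrFun (congrFun D.skew 0) 1
  ext i j
  fin_cases i <;> fin_cases j <;> simp [h0, h1, h10]

theorem adj_two (B : Matrix (Fin 2) (Fin 2) F) : D.adj B = B.trace • 1 - B := by
  have hj : D.J 0 1 ≠ 0 := fun h0 => by
    have := congrFun (congrFun D.mul_inv 0) 0
    rw [D.J_two] at this
    simp [Matrix.mul_apply, Fin.sum_univ_two, h0] at this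
  have hJi : D.Ji = !![0, -(D.J 0 1)⁻¹; (D.J 0 1)⁻¹, 0] := by
    refine left_inv_eq_right_inv D.inv_mul ?_
    conv_lhs => arg 1; rw [D.J_two]
    ext i j
    fin_cases i <;> fin_cases j <;> simp [Matrix.mul_apply, Fin.sum_univ_two, hj]
  rw [adj, hJi]
  conv_lhs => arg 2; rw [D.J_two]
  ext i j
  fin_cases i <;> fin_cases j <;>
    simp [Matrix.mul_apply, Fin.sum_univ_two, Matrix.trace_fin_two, Matrix.vecMul, dotProduct] <;> field_simp <;> ring

theorem scalar_of_adj_fixed (h2 : (2 : F) ≠ 0) {B : Matrix (Fin 2) (Fin 2) F} (h : D.adj B = B) :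
    ∃ c : F, B = c • 1 := by
  rw [D.adj_two, sub_eq_iff_eq_add] at h
  refine ⟨(2 : F)⁻¹ * B.trace, ?_⟩
  rw [← smul_smul, h, ← two_smul F, smul_smul, inv_mul_cancel₀ h2, one_smul]

/-- The identity is the plane of any hyperbolic pair. -/
theorem plane_eq_one {e f : Fin 2 → F} (h : D.f e f = 1) : D.R f e - D.R e f = 1 := by
  have h1 := D.adj_R f e
  rw [D.adj_two] at h1
  have htr : (D.R f e).trace = 1 := by rw [R, Matrix.trace_vecMulVec, dotProduct_comm]; exact h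
  rw [htr, one_smul, sub_eq_iff_eq_add] at h1
  rw [h1]
  abel

theorem perp_line {e z : Fin 2 → F} (he : e ≠ 0) (h : D.f e z = 0) : ∃ c : F, z = c • e := by
  obtain ⟨f, hf⟩ := D.nondeg he
  refine ⟨-D.f f z, ?_⟩
  conv_lhs => rw [← Matrix.one_mulVec z, ← D.plane_eq_one hf]
  rw [Matrix.sub_mulVec, D.R_mulVec, D.R_mulVec, h, zero_smul, zero_sub, neg_smul]

/-- A singular matrix of degree two has rank one. -/
theorem exists_rank_one {P : Matrix (Fin 2) (Fin 2) F} (h : P.det = 0) :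
    ∃ u χ : Fin 2 → F, u ≠ 0 ∧ P = Matrix.vecMulVec u χ := by
  rw [Matrix.det_fin_two] at h
  by_cases h0 : P 0 0 = 0
  · by_cases h1 : P 0 1 = 0
    · refine ⟨![0, 1], P 1, Function.ne_iff.2 ⟨1, by simp⟩, ?_⟩
      ext i j
      fin_cases i <;> fin_cases j <;> simp [Matrix.vecMulVec_apply, h0, h1]
    · refine ⟨![1, P 1 1 / P 0 1], P 0, Function.ne_iff.2 ⟨0, by simp⟩, ?_⟩
      have h10 : P 1 0 = 0 := (mul_eq_zero.1 (show P 0 1 * P 1 0 = 0 by rw [h0, zero_mul] at h; linear_combination -h)).resolve_left h1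
      ext i j
      fin_cases i <;> fin_cases j <;> simp [Matrix.vecMulVec_apply, h0, h10, h1]
  · refine ⟨![1, P 1 0 / P 0 0], P 0, Function.ne_iff.2 ⟨0, by simp⟩, ?_⟩
    ext i j
    fin_cases i <;> fin_cases j <;> simp [Matrix.vecMulVec_apply, h0]
    field_simp
    linear_combination h

/-- A pencil of vectors pairwise dependent. -/
theorem pencil {P Q : Matrix (Fin 2) (Fin 2) F} (h : ∀ x, D.f (P *ᵥ x) (Q *ᵥ x) = 0)
    (hinj : ∀ x, P *ᵥ x = 0 → Q *ᵥ x = 0 → x = 0) :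
    (∃ c : F, P = c • Q) ∨ (∃ c : F, Q = c • P) ∨
      ∃ u χ χ' : Fin 2 → F, u ≠ 0 ∧ P = Matrix.vecMulVec u χ ∧ Q = Matrix.vecMulVec u χ' := by
  have main : ∀ {P Q : Matrix (Fin 2) (Fin 2) F}, Q.det ≠ 0 → (∀ x, D.f (P *ᵥ x) (Q *ᵥ x) = 0) →
      ∃ c : F, P = c • Q := by
    intro P Q hQ h
    have hu : IsUnit Q.det := isUnit_iff_ne_zero.2 hQ
    by_contra! hc
    obtain ⟨u, hu0, hu'⟩ := exists_not_eigen (B := P * Q⁻¹) fun c hPQ => hc c (by
      rw [← Matrix.mul_one P, ← Matrix.nonsing_inv_mul Q hu, ← Matrix.mul_assoc, hPQ, Matrix.smul_mul,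
        Matrix.one_mul])
    have h1 := h (Q⁻¹ *ᵥ u)
    rw [Matrix.mulVec_mulVec, Matrix.mulVec_mulVec, Matrix.mul_nonsing_inv Q hu, Matrix.one_mulVec,
      D.f_swap u, neg_eq_zero] at h1
    obtain ⟨c, hc'⟩ := D.perp_line hu0 h1
    exact hu' c hc'
  by_cases hQ : Q.det = 0
  swap
  · exact Or.inl (main hQ h)
  by_cases hP : P.det = 0
  swap
  · exact Or.inr (Or.inl (main hP fun x => by rw [D.f_swap, h, neg_zero]))
  obtain ⟨u, χ, hu, rfl⟩ := exists_rank_one hP
  obtain ⟨u', χ', hu', rfl⟩ := exists_rank_one hQ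
  by_cases huu : D.f u u' = 0
  · obtain ⟨c, rfl⟩ := D.perp_line hu huu
    refine Or.inr (Or.inr ⟨u, χ, c • χ', hu, rfl, ?_⟩)
    rw [Matrix.smul_vecMulVec, Matrix.vecMulVec_smul]
  exfalso
  have hx : ∀ x, (χ ⬝ᵥ x) * (χ' ⬝ᵥ x) = 0 := fun x => by
    have h1 := h x
    simp only [Matrix.vecMulVec_mulVec, op_smul_eq_smul, D.f_smul_left, D.f_smul_right, ← mul_assoc,
      mul_eq_zero, huu, or_false] at h1
    exact mul_eq_zero.2 h1
  by_cases hχ : χ = 0
  · obtain ⟨w, hw0, hw⟩ := Matrix.exists_mulVec_eq_zero_iff.2 hQ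
    exact hw0 (hinj w (by rw [hχ, Matrix.vecMulVec_zero, Matrix.zero_mulVec]) hw)
  by_cases hχ' : χ' = 0
  · obtain ⟨w, hw0, hw⟩ := Matrix.exists_mulVec_eq_zero_iff.2 hP
    exact hw0 (hinj w hw (by rw [hχ', Matrix.vecMulVec_zero, Matrix.zero_mulVec]))
  obtain ⟨x, h1, h2⟩ := exists_common_dual hχ hχ'
  exact mul_ne_zero h1 h2 (by rw [dotProduct_comm x, dotProduct_comm x]; exact hx x)

end Factor

/-- The isometries of the tensor power. -/
def isoT (D : Factor F 2) (t : ℕ) : Subgroup (GL (Fin t → Fin 2) F) where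
  carrier := {x | adjV D (x : Matrix (Fin t → Fin 2) (Fin t → Fin 2) F) * (x : Matrix (Fin t → Fin 2) (Fin t → Fin 2) F) = 1}
  one_mem' := by
    show adjV D (1 : Matrix (Fin t → Fin 2) (Fin t → Fin 2) F) * 1 = 1
    rw [show adjV D (1 : Matrix (Fin t → Fin 2) (Fin t → Fin 2) F) = 1 from (outerT D t).adj_one, one_mul]
  mul_mem' {x y} (hx : _ = _) (hy : _ = _) := by
    show adjV D (_ : Matrix (Fin t → Fin 2) (Fin t → Fin 2) F) * _ = 1
    rw [Units.val_mul, show adjV D (_ * _) = _ from (outerT D t).adj_mul _ _, mul_assoc,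
      ← mul_assoc (adjV D (x : Matrix (Fin t → Fin 2) (Fin t → Fin 2) F)), hx, one_mul, hy]
  inv_mem' {x} (hx : _ = _) := by
    show adjV D ((x⁻¹ : GL (Fin t → Fin 2) F) : Matrix (Fin t → Fin 2) (Fin t → Fin 2) F) * _ = 1
    rw [show ((x⁻¹ : GL (Fin t → Fin 2) F) : Matrix (Fin t → Fin 2) (Fin t → Fin 2) F) =
      adjV D (x : Matrix (Fin t → Fin 2) (Fin t → Fin 2) F) from (left_inv_eq_right_inv hx x.mul_inv).symm,
      show adjV D (adjV D _) = _ from (outerT D t).adj_adj _]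
    exact mul_eq_one_comm.1 hx

variable {D : Factor F 2}

theorem sub_perm_swap (p q : (Fin 1 → Fin 2) × Fin 2) :
    (perm (F := F) (J := Fin 2) (Equiv.swap (0 : Fin (1 + 1)) 1)).submatrix (sp 0) (sp 0) p q =
      if p.2 = q.1 0 ∧ p.1 0 = q.2 then 1 else 0 := by
  have h1 : ∀ r : (Fin 1 → Fin 2) × Fin 2, sp (0 : Fin (1 + 1)) r 0 = r.2 := fun r => sp_self 0 r
  have h2 : ∀ r : (Fin 1 → Fin 2) × Fin 2, sp (0 : Fin (1 + 1)) r 1 = r.1 0 := fun r => by
    have := sp_succAbove (0 : Fin (1 + 1)) r 0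
    simpa using this
  show (if sp 0 q = sp 0 p ∘ Equiv.swap (0 : Fin (1 + 1)) 1 then (1 : F) else 0) = _
  congr 1
  refine propext ⟨fun e => ?_, fun e => ?_⟩
  · have e0 := congrFun e 0
    have e1 := congrFun e 1
    simp only [Function.comp_apply, Equiv.swap_apply_left, Equiv.swap_apply_right, h1, h2] at e0 e1
    exact ⟨e1.symm, e0.symm⟩
  · funext l
    fin_cases l
    · simpa [h1, h2] using e.2.symm
    · simpa [h1, h2] using e.1.symm

/-- The index set of one factor. -/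
def one1 : Fin 2 ≃ (Fin 1 → Fin 2) := (Equiv.funUnique (Fin 1) (Fin 2)).symm

theorem adj_one1 (M : Matrix (Fin 1 → Fin 2) (Fin 1 → Fin 2) F) :
    ((outerT D 1).adj M).submatrix one1 one1 = D.adj (M.submatrix one1 one1) := by
  ext a b
  simp only [Outer.adj, Factor.adj, outerT, Matrix.submatrix_apply, Matrix.mul_apply, Matrix.transpose_apply]
  rw [← Equiv.sum_comp one1]
  refine Finset.sum_congr rfl fun x _ => ?_
  rw [← Equiv.sum_comp one1]
  congr 1
  · refine Finset.sum_congr rfl fun y _ => ?_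
    simp [pure_apply, one1]
  · simp [pure_apply, one1]

/-- Isometry groups of the tensor square have scalar central maps. -/
theorem ng_two (h2 : (2 : F) ≠ 0) {X : Subgroup (GL (Fin (1 + 1) → Fin 2) F)} (H : Hyp D X) : NG D X := by
  classical
  intro i e Φ he hΦ hm
  set φ : Matrix (Fin 1 → Fin 2) (Fin 1 → Fin 2) F :=
    out D (Fin 1 → Fin 2) e * (Φ.submatrix (sp i) (sp i) * (inc (Fin 1 → Fin 2) ((D.nondeg he).choose)))
  obtain ⟨x, hx, ex⟩ := hm
  have hN : Φ.submatrix (sp i) (sp i) * ((1 : Matrix (Fin 1 → Fin 2) (Fin 1 → Fin 2) F) ⊗ₖ D.R e e) =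
      φ ⊗ₖ D.R e e := by
    have hcomm : ∀ B : Matrix (Fin 2) (Fin 2) F, Φ.submatrix (sp i) (sp i) *
        ((1 : Matrix (Fin 1 → Fin 2) (Fin 1 → Fin 2) F) ⊗ₖ B) =
        ((1 : Matrix (Fin 1 → Fin 2) (Fin 1 → Fin 2) F) ⊗ₖ B) * Φ.submatrix (sp i) (sp i) := fun B => by
      rw [← sub_emb i B, ← sub_mul_sub, ← sub_mul_sub, (hΦ B).eq]
    set f := (D.nondeg he).choose
    have hf : D.f e f = 1 := (D.nondeg he).choose_spec
    have e1 : (1 : Matrix (Fin 1 → Fin 2) (Fin 1 → Fin 2) F) ⊗ₖ D.R e e =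
        inc (Fin 1 → Fin 2) e * out D (Fin 1 → Fin 2) e := by rw [← inc_out, Matrix.mul_one]
    have e2 : inc (Fin 1 → Fin 2) e =
        ((1 : Matrix (Fin 1 → Fin 2) (Fin 1 → Fin 2) F) ⊗ₖ D.R e e) * inc (Fin 1 → Fin 2) f := by
      rw [e1, Matrix.mul_assoc, out_inc, hf, one_smul, Matrix.mul_one]
    calc Φ.submatrix (sp i) (sp i) * ((1 : Matrix (Fin 1 → Fin 2) (Fin 1 → Fin 2) F) ⊗ₖ D.R e e)
        = ((1 : Matrix (Fin 1 → Fin 2) (Fin 1 → Fin 2) F) ⊗ₖ D.R e e) * Φ.submatrix (sp i) (sp i) *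
            inc (Fin 1 → Fin 2) f * out D (Fin 1 → Fin 2) e := by
          rw [← hcomm, Matrix.mul_assoc _ (_ ⊗ₖ _) (inc _ f), ← e2, Matrix.mul_assoc, ← e1]
      _ = φ ⊗ₖ D.R e e := by
          rw [e1, ← inc_out]
          simp only [φ, Matrix.mul_assoc]
          rfl
  have hiso := H.iso x hx
  rw [ex] at hiso
  have hPe : (Φ * SpinTensor.emb i (D.R e e)).submatrix (sp i) (sp i) = φ ⊗ₖ D.R e e := by
    rw [sub_mul_sub, sub_emb, hN]
  have h1 := congrArg (fun M : Matrix (Fin (1 + 1) → Fin 2) (Fin (1 + 1) → Fin 2) F => M.submatrix (sp i) (sp i)) hiso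
  simp only [sub_mul_sub, sub_one] at h1
  rw [← adjP_sub, show (1 + Φ * SpinTensor.emb i (D.R e e)).submatrix (sp i) (sp i) = 1 + φ ⊗ₖ D.R e e by
    rw [← hPe, ← sub_one i]; rfl] at h1
  have hN2 : ∀ θ : Matrix (Fin 1 → Fin 2) (Fin 1 → Fin 2) F, (θ ⊗ₖ D.R e e) * (φ ⊗ₖ D.R e e) = 0 := fun θ => by
    rw [kr_mul, D.f_self, zero_smul]
  have hadj : (outerT D 1).adj φ = φ := by
    have h3 : adjP D (outerT D 1) (1 + φ ⊗ₖ D.R e e) = 1 + -((outerT D 1).adj φ ⊗ₖ D.R e e) := by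
      rw [show adjP D (outerT D 1) (1 + φ ⊗ₖ D.R e e) =
        adjP D (outerT D 1) ((1 : Matrix (Fin 1 → Fin 2) (Fin 1 → Fin 2) F) ⊗ₖ (1 : Matrix (Fin 2) (Fin 2) F)) +
          adjP D (outerT D 1) (φ ⊗ₖ D.R e e) by
        rw [Matrix.one_kronecker_one]; simp [adjP, Matrix.mul_add, Matrix.add_mul], adjP_kronecker, adjP_kronecker,
        (outerT D 1).adj_one, D.adj_one, D.adj_R, kronecker_neg', Matrix.one_kronecker_one]
    rw [h3, add_mul, one_mul, mul_add, mul_one, neg_mul, hN2, neg_zero, add_zero, add_assoc, add_eq_left,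
      add_neg_eq_zero] at h1
    exact (coeff_injective he he h1).symm
  obtain ⟨c, hc⟩ := D.scalar_of_adj_fixed h2 (B := φ.submatrix one1 one1) (by rw [← adj_one1, hadj])
  refine ⟨c, eq_of_sub i ?_⟩
  rw [hPe, show φ = c • 1 from by
    ext a b
    have := congrFun (congrFun hc (one1.symm a)) (one1.symm b)
    simpa [Matrix.one_apply, one1.symm.injective.eq_iff] using this, Matrix.smul_kronecker, ← sub_emb i]
  rfl

/-- **Every isometry of the tensor square is standard.** -/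
theorem isStd_of_iso_two (h2 : (2 : F) ≠ 0) {s : F} (hs : s ≠ 0) (hs2 : s * s ≠ 1)
    {g : GL (Fin (1 + 1) → Fin 2) F} (hg : g ∈ isoT D (1 + 1)) : IsStd g := by
  classical
  set X := isoT D (1 + 1)
  have H : Hyp D X :=
    { two := h2
      iso := fun x hx => hx
      base := fun i B hB => by
        obtain ⟨u, -, hu⟩ := exists_fac_iso i hB
        refine ⟨fac i u, ?_, hu⟩
        show adjV D _ * _ = 1
        rw [hu, adjV_emb, emb_mul_emb, hB, emb_one]
      lift := fun h => absurd h (by norm_num) }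
  have hNG : NG D X := ng_two h2 H
  have C := H.pairCtx hNG 0
  obtain ⟨e, he⟩ : ∃ e : Fin 2 → F, e ≠ 0 := ⟨Pi.single 0 1, Function.ne_iff.2 ⟨0, by simp⟩⟩
  obtain ⟨f, hf⟩ := D.nondeg he
  have done : ∀ (y : GL (Fin (1 + 1) → Fin 2) F), y ∈ X → ∀ (w : Fin 2 → F)
      (A : Matrix (Fin 1 → Fin 2) (Fin 1 → Fin 2) F),
      (spGL 0 y : Matrix ((Fin 1 → Fin 2) × Fin 2) ((Fin 1 → Fin 2) × Fin 2) F) * inc (Fin 1 → Fin 2) e =
        inc (Fin 1 → Fin 2) w * A → IsStd y := by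
    intro y hy w A hA
    obtain ⟨B, hB⟩ := C.kronecker_two (C.mov_of_mem ⟨spGL 0 y, Subgroup.mem_map_of_mem _ hy, rfl⟩) rfl hs hs2 he hA
    have hdet : IsUnit (A ⊗ₖ B).det := by
      rw [← hB]; exact (Matrix.isUnit_iff_isUnit_det _).1 (spGL 0 y).isUnit
    rw [Matrix.det_kronecker, IsUnit.mul_iff, isUnit_pow_iff Fintype.card_ne_zero,
      isUnit_pow_iff Fintype.card_ne_zero] at hdet
    exact isStd_of_kronecker (A := ((Matrix.isUnit_iff_isUnit_det A).2 hdet.1).unit)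
      (B := ((Matrix.isUnit_iff_isUnit_det B).2 hdet.2).unit) hB (isStd_fin_one _)
  set Z := (spGL 0 g : Matrix ((Fin 1 → Fin 2) × Fin 2) ((Fin 1 → Fin 2) × Fin 2) F)
  have hM := C.mov_of_mem (M := Z) ⟨spGL 0 g, Subgroup.mem_map_of_mem _ hg, rfl⟩
  set Λ := Z * inc (Fin 1 → Fin 2) e with hΛ
  set P := -(out D (Fin 1 → Fin 2) f * Λ) with hP
  set Q := out D (Fin 1 → Fin 2) e * Λ with hQ
  have hdec : Λ = inc (Fin 1 → Fin 2) f * Q + inc (Fin 1 → Fin 2) e * P := by
    have h1 : (1 : Matrix (Fin 1 → Fin 2) (Fin 1 → Fin 2) F) ⊗ₖ (D.R f e - D.R e f) = 1 := by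
      rw [D.plane_eq_one hf, Matrix.one_kronecker_one]
    conv_lhs => rw [← Matrix.one_mul Λ, ← h1]
    rw [sub_eq_add_neg, Matrix.kronecker_add, kronecker_neg', ← inc_out, ← inc_out, Matrix.add_mul, Matrix.mul_one,
      Matrix.mul_one, hP, hQ]
    simp only [Matrix.neg_mul, Matrix.mul_neg, Matrix.mul_assoc]
  clear_value P Q
  have hgram : adjR D (outerT D 1) Λ * Λ = 0 := by rw [hΛ, gram hM.1, D.f_self, zero_smul]
  have hrel : (outerT D 1).adj P * Q = (outerT D 1).adj Q * P := by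
    have hfe : D.f f e = -1 := by rw [D.f_swap e f, hf]
    conv at hgram => lhs; rw [hdec, adjR_add, adjR_inc_mul, adjR_inc_mul]
    simp only [Matrix.add_mul, Matrix.mul_add, Matrix.mul_assoc, ← Matrix.mul_assoc (out D _ _) (inc _ _), out_inc,
      D.f_self, hf, hfe, zero_smul, Matrix.zero_mul, Matrix.mul_zero, zero_add, add_zero, one_smul, Matrix.one_mul,
      neg_smul, Matrix.neg_mul, Matrix.mul_neg] at hgram
    rw [eq_comm, ← sub_eq_zero, ← neg_eq_zero, neg_sub, sub_eq_add_neg]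
    first | exact hgram | rw [add_comm]; exact hgram
  set P' := P.submatrix one1 one1 with hP'
  set Q' := Q.submatrix one1 one1 with hQ'
  have hrel' : D.adj P' * Q' = D.adj Q' * P' := by
    rw [hP', hQ', ← adj_one1, ← adj_one1, Matrix.submatrix_mul_equiv, Matrix.submatrix_mul_equiv, hrel]
  have hpen : ∀ x, D.f (P' *ᵥ x) (Q' *ᵥ x) = 0 := fun x => by
    have h1 : D.f (P' *ᵥ x) (Q' *ᵥ x) = D.f (Q' *ᵥ x) (P' *ᵥ x) := by
      rw [← D.f_adj, Matrix.mulVec_mulVec, ← D.f_adj Q', Matrix.mulVec_mulVec, hrel']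
    rw [D.f_swap (P' *ᵥ x)] at h1
    have h3 : (2 : F) * D.f (P' *ᵥ x) (Q' *ᵥ x) = 0 := by linear_combination h1
    exact (mul_eq_zero.1 h3).resolve_left h2
  have hback : ∀ M : Matrix (Fin 1 → Fin 2) (Fin 1 → Fin 2) F, ∀ x, M *ᵥ (x ∘ one1.symm) = (M.submatrix one1 one1 *ᵥ x) ∘ one1.symm := by
    intro M x
    rw [Matrix.submatrix_mulVec_equiv]
    simp [Function.comp_assoc]
  have hinj : ∀ x, P' *ᵥ x = 0 → Q' *ᵥ x = 0 → x = 0 := by
    intro x hx hx'
    have h1 : Λ *ᵥ (x ∘ one1.symm) = 0 := by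
      rw [hdec, Matrix.add_mulVec, ← Matrix.mulVec_mulVec, ← Matrix.mulVec_mulVec, hback, hback, ← hP', ← hQ', hx, hx',
        Pi.zero_comp, Matrix.mulVec_zero, Matrix.mulVec_zero, add_zero]
    rw [hΛ, ← Matrix.mulVec_mulVec] at h1
    have h3 := mulVec_eq_zero_of_gl (spGL 0 g) h1
    have h4 := congrArg (out D (Fin 1 → Fin 2) f *ᵥ ·) h3
    simp only [Matrix.mulVec_mulVec, out_inc, Matrix.mulVec_zero, D.f_swap e f, hf, neg_smul, one_smul,
      Matrix.neg_mulVec, Matrix.one_mulVec, neg_eq_zero] at h4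
    funext a
    have := congrFun h4 (one1 a)
    simpa using this
  rcases D.pencil hpen hinj with ⟨c, hc⟩ | ⟨c, hc⟩ | ⟨u, χ, χ', hu, hc, hc'⟩
  · refine done g hg (f + c • e) Q ?_
    have hcP : P = c • Q := (Matrix.reindex one1.symm one1.symm).injective hc
    show Λ = _
    rw [hdec, inc_add, inc_smul, Matrix.add_mul, Matrix.smul_mul, hcP, Matrix.mul_smul]
  · refine done g hg (e + c • f) P ?_
    have hcQ : Q = c • P := (Matrix.reindex one1.symm one1.symm).injective hc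
    show Λ = _
    rw [hdec, inc_add, inc_smul, Matrix.add_mul, Matrix.smul_mul, hcQ, Matrix.mul_smul, add_comm]
  · set h : GL (Fin (1 + 1) → Fin 2) F := permGL 2 F (Equiv.swap 0 1)
    have hh : h ∈ X := by
      show adjV D (perm _) * perm _ = 1
      rw [adjV_perm, perm_mul, inv_mul_cancel, perm_one]
    suffices IsStd (h * g) from IsStd.of_mul_left (isStd_permGL _) this
    refine done _ (X.mul_mem hh hg) u (Matrix.of fun p a => f (p 0) * χ' (one1.symm a) + e (p 0) * χ (one1.symm a)) ?_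
    rw [map_mul, Units.val_mul, Matrix.mul_assoc, show (spGL 0 g : Matrix ((Fin 1 → Fin 2) × Fin 2)
      ((Fin 1 → Fin 2) × Fin 2) F) * inc (Fin 1 → Fin 2) e = Λ from rfl]
    show (perm (Equiv.swap (0 : Fin (1 + 1)) 1)).submatrix (sp 0) (sp 0) * Λ = _
    have hΛv : ∀ (p : (Fin 1 → Fin 2) × Fin 2) a, Λ p a = u (p.1 0) * (f p.2 * χ' (one1.symm a) + e p.2 * χ (one1.symm a)) := by
      intro p a
      have hincA : ∀ (w : Fin 2 → F) (A : Matrix (Fin 1 → Fin 2) (Fin 1 → Fin 2) F),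
          (inc (Fin 1 → Fin 2) w * A) p a = w p.2 * A p.1 a := fun w A => by
        rw [Matrix.mul_apply, Finset.sum_eq_single p.1]
        · simp [inc, TensorLinear.emb]
        · intro b _ hb; simp [inc, TensorLinear.emb, hb.symm]
        · simp
      have eP : P p.1 a = u (p.1 0) * χ (one1.symm a) := by
        have h5 := congrFun (congrFun hc (one1.symm p.1)) (one1.symm a)
        rw [hP', Matrix.submatrix_apply, Equiv.apply_symm_apply, Equiv.apply_symm_apply, Matrix.vecMulVec_apply] at h5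
        exact h5
      have eQ : Q p.1 a = u (p.1 0) * χ' (one1.symm a) := by
        have h5 := congrFun (congrFun hc' (one1.symm p.1)) (one1.symm a)
        rw [hQ', Matrix.submatrix_apply, Equiv.apply_symm_apply, Equiv.apply_symm_apply, Matrix.vecMulVec_apply] at h5
        exact h5
      conv_lhs => rw [hdec]
      rw [Matrix.add_apply, hincA, hincA, eP, eQ]
      ring
    ext ⟨p, q⟩ a
    rw [Matrix.mul_apply, Finset.sum_eq_single ((fun _ => q), p 0)]
    · rw [sub_perm_swap, if_pos ⟨rfl, rfl⟩, one_mul, hΛv, Matrix.mul_apply, Finset.sum_eq_single p]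
      · simp [inc, TensorLinear.emb]
      · intro b _ hb; simp [inc, TensorLinear.emb, hb.symm]
      · simp
    · rintro ⟨b, c⟩ - hb
      rw [sub_perm_swap, if_neg, zero_mul]
      rintro ⟨h5, h6⟩
      exact hb (Prod.ext (funext fun l => by rw [Subsingleton.elim l 0]; exact h5.symm) h6.symm)
    · simp

end CfsgLib.HallGen.SympWreath
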