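/-
Overgroups with scalar central maps over factors of degree two consist of standard elements.
-/
import Cfsg.Agent.Lib.HallGen.SympWreath.TwoBase
import Cfsg.Agent.Lib.HallGen.SympWreath.QuadTorus

set_option autoImplicit false
set_option linter.unusedSectionVars false
set_option maxHeartbeats 400000

namespace CfsgLib.HallGen.SympWreath

open Matrix CfsgLib.Geo CfsgLib.Geo.SpinTensor CfsgLib.Geo.TensorWreath
open scoped Kronecker

variable {F : Type*} [Field F] {t : ℕ} {D : Factor F 2}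

theorem exists_anti_pair {N : Matrix (Fin 2) (Fin 2) F} (hN : N ≠ 0) (hN2 : N * N = 0) :
    N.trace = 0 ∧ ∃ M : Matrix (Fin 2) (Fin 2) F, N * M + M * N = 1 := by
  have e00 := congrFun (congrFun hN2 0) 0
  have e01 := congrFun (congrFun hN2 0) 1
  have e10 := congrFun (congrFun hN2 1) 0
  have e11 := congrFun (congrFun hN2 1) 1
  simp [Matrix.mul_apply, Fin.sum_univ_two] at e00 e01 e10 e11
  by_cases hb : N 0 1 = 0
  · by_cases hc : N 1 0 = 0
    · refine absurd ?_ hN
      rw [hb, zero_mul, add_zero, mul_self_eq_zero] at e00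
      rw [hb, mul_zero, zero_add, mul_self_eq_zero] at e11
      ext i j
      fin_cases i <;> fin_cases j <;> simp [e00, e11, hb, hc]
    have htr : N 0 0 + N 1 1 = 0 :=
      (mul_eq_zero.1 (show N 1 0 * (N 0 0 + N 1 1) = 0 by linear_combination e10)).resolve_left hc
    refine ⟨by rw [Matrix.trace_fin_two]; exact htr, !![0, (N 1 0)⁻¹; 0, 0], ?_⟩
    ext i j
    fin_cases i <;> fin_cases j <;> simp [Matrix.mul_apply, Matrix.vecMul, dotProduct, Fin.sum_univ_two, hc]
    field_simp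
    linear_combination htr
  have htr : N 0 0 + N 1 1 = 0 :=
    (mul_eq_zero.1 (show N 0 1 * (N 0 0 + N 1 1) = 0 by linear_combination e01)).resolve_left hb
  refine ⟨by rw [Matrix.trace_fin_two]; exact htr, !![0, 0; (N 0 1)⁻¹, 0], ?_⟩
  ext i j
  fin_cases i <;> fin_cases j <;> simp [Matrix.mul_apply, Matrix.vecMul, dotProduct, Fin.sum_univ_two, hb]
  field_simp
  linear_combination htr

/-- The vectors fixed by a standard isometry of degree two form a totally isotropic space. -/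
theorem fixed_isotropic (h2 : (2 : F) ≠ 0) {x : GL (Fin (t + 1) → Fin 2) F}
    (hiso : adjV D (x : Matrix (Fin (t + 1) → Fin 2) (Fin (t + 1) → Fin 2) F) *
      (x : Matrix (Fin (t + 1) → Fin 2) (Fin (t + 1) → Fin 2) F) = 1)
    (hx : IsStd x) (hx1 : x ≠ 1)
    (hsq : ((x : Matrix (Fin (t + 1) → Fin 2) (Fin (t + 1) → Fin 2) F) - 1) *
      ((x : Matrix (Fin (t + 1) → Fin 2) (Fin (t + 1) → Fin 2) F) - 1) = 0)
    {w w' : (Fin (t + 1) → Fin 2) → F}
    (hw : ((x : Matrix (Fin (t + 1) → Fin 2) (Fin (t + 1) → Fin 2) F) - 1) *ᵥ w = 0)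
    (hw' : ((x : Matrix (Fin (t + 1) → Fin 2) (Fin (t + 1) → Fin 2) F) - 1) *ᵥ w' = 0) :
    w ⬝ᵥ ((outerT D (t + 1)).G *ᵥ w') = 0 := by
  obtain ⟨gs, π, e⟩ := hx
  obtain ⟨i, B, eB⟩ := single_of_sq h2 le_rfl e hsq
  set N := B - 1 with hN
  have hxN : (x : Matrix (Fin (t + 1) → Fin 2) (Fin (t + 1) → Fin 2) F) - 1 = SpinTensor.emb i N := by
    rw [hN, map_sub, emb_one, eB]
  have hN0 : N ≠ 0 := fun h => hx1 (Units.ext (by rw [← sub_eq_zero, Units.val_one, hxN, h, map_zero]))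
  have hN2 : N * N = 0 := emb_inj i (by rw [map_zero, ← emb_mul_emb, ← hxN, hsq])
  obtain ⟨htr, M, hM⟩ := exists_anti_pair hN0 hN2
  have hadj : D.adj N = -N := by rw [D.adj_two, htr, zero_smul, zero_sub]
  set N' := SpinTensor.emb i N
  rw [hxN] at hw hw'
  set G := (outerT D (t + 1)).G
  have hNG : N'ᵀ * G = -(G * N') := by
    have h1 : (outerT D (t + 1)).Gi * N'ᵀ * G = -N' := by
      show adjV D N' = -N'
      rw [adjV_emb, hadj, map_neg]
    calc N'ᵀ * G = G * ((outerT D (t + 1)).Gi * N'ᵀ * G) := by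
          rw [← mul_assoc, ← mul_assoc, (outerT D (t + 1)).mul_inv, one_mul]
      _ = -(G * N') := by rw [h1, mul_neg]
  have hw1 : w = N' *ᵥ (SpinTensor.emb i M *ᵥ w) := by
    have h1 : (N' * SpinTensor.emb i M + SpinTensor.emb i M * N') *ᵥ w = w := by
      rw [emb_mul_emb, emb_mul_emb, ← map_add, hM, emb_one, Matrix.one_mulVec]
    rw [Matrix.add_mulVec, ← Matrix.mulVec_mulVec, ← Matrix.mulVec_mulVec, hw, Matrix.mulVec_zero, add_zero] at h1
    exact h1.symm
  rw [hw1, ← Matrix.vecMul_transpose, ← Matrix.dotProduct_mulVec, Matrix.mulVec_mulVec, hNG, Matrix.neg_mulVec,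
    ← Matrix.mulVec_mulVec, hw', Matrix.mulVec_zero, neg_zero, dotProduct_zero]

theorem perm_mulVec_apply (π : Equiv.Perm (Fin t)) (z : (Fin t → Fin 2) → F) (c : Fin t → Fin 2) :
    (perm π *ᵥ z) c = z (c ∘ π) := by
  rw [Matrix.mulVec, dotProduct, Finset.sum_eq_single (c ∘ π)]
  · simp [perm]
  · intro b _ hb; simp [perm, hb]
  · simp

variable [Fintype F] {X : Subgroup (GL (Fin (t + 1) → Fin 2) F)}

/-- A non-standard element fixing a vector killed by a root. -/
theorem exists_fixed (C : Ctx D X) (ht : 2 ≤ t) {l : F} (hl0 : l ≠ 0) (hl1 : l * l ≠ 1)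
    {g : GL (Fin (t + 1) → Fin 2) F} (hg : g ∈ X) (hgs : ¬ IsStd g) {e : Fin 2 → F} (he : e ≠ 0) :
    ∃ y ∈ X, ¬ IsStd y ∧ ∃ v : (Fin (t + 1) → Fin 2) → F, v ≠ 0 ∧
      SpinTensor.emb 0 (D.R e e) *ᵥ v = 0 ∧ (y : Matrix (Fin (t + 1) → Fin 2) (Fin (t + 1) → Fin 2) F) *ᵥ v = v := by
  classical
  have hσX : ∀ a b : Fin (t + 1), permGL 2 F (Equiv.swap a b) ∈ X := by
    intro a b
    obtain ⟨c, hca, hcb⟩ : ∃ c, c ≠ a ∧ c ≠ b := by
      obtain ⟨c, -, hc⟩ := Finset.exists_mem_notMem_of_card_lt_card (s := ({a, b} : Finset (Fin (t + 1))))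
        (t := Finset.univ) (lt_of_le_of_lt Finset.card_le_two (by rw [Finset.card_univ, Fintype.card_fin]; omega))
      simp only [Finset.mem_insert, Finset.mem_singleton, not_or] at hc
      exact ⟨c, hc⟩
    have h7 := C.hyp.lift (by omega) 1 (Equiv.swap a b) c (Equiv.swap_apply_of_ne_of_ne hca hcb) rfl
    rw [pureGL_one, one_mul] at h7
    refine h7 ?_
    show adjV D (perm _) * perm _ = 1
    rw [adjV_perm, perm_mul, inv_mul_cancel, perm_one]
  obtain ⟨x, hx, a, b, hab, hxs⟩ : ∃ x ∈ X, ∃ a b : Fin (t + 1), a ≠ b ∧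
      ¬ IsStd (x * permGL 2 F (Equiv.swap a b) * x⁻¹) := by
    by_contra! hall
    obtain ⟨f, hf⟩ := D.nondeg he
    obtain ⟨ul, hul, -⟩ := exists_fac_iso (t := t + 1) 0 (D.iso_torus hf hl0)
    obtain ⟨w, hw, -⟩ := exists_fac_iso (t := t + 1) 0 (D.iso_transv e 1)
    have hfacX : ∀ (i : Fin (t + 1)) (u : GL (Fin 2) F), D.Iso (u : Matrix (Fin 2) (Fin 2) F) → fac i u ∈ X := by
      intro i u hu
      obtain ⟨g', hg', eg'⟩ := C.hyp.base i _ hu
      rw [show fac i u = g' from Units.ext (by rw [val_fac, eg'])]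
      exact hg'
    have key : ∀ (i j : Fin (t + 1)) (u : GL (Fin 2) F), i ≠ j → D.Iso (u : Matrix (Fin 2) (Fin 2) F) →
        IsStd (g * (fac j u * (fac i u)⁻¹) * g⁻¹) := by
      intro i j u hij hu
      set σ := permGL 2 F (Equiv.swap i j)
      have hσ : σ = pureGL 1 * permGL 2 F (Equiv.swap i j) := by rw [pureGL_one, one_mul]
      have e1 : σ * fac i u * σ⁻¹ = fac j u := by
        rw [conj_fac hσ, Equiv.swap_apply_left]; simp
      have h1 := (hall g hg i j hij).mul (hall (g * fac i u) (X.mul_mem hg (hfacX i u hu)) i j hij)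
      convert h1 using 1
      rw [← e1]
      have hs : σ⁻¹ = σ := inv_eq_of_mul_eq_one_right (by rw [permGL_mul, Equiv.swap_mul_self, permGL_one])
      rw [show g * σ * g⁻¹ * (g * fac i u * σ * (g * fac i u)⁻¹) = g * (σ * fac i u * σ * (fac i u)⁻¹) * g⁻¹ by group]
      conv_lhs => rw [hs]
    set i0 : Fin (t + 1) := ⟨1, by omega⟩
    set i1 : Fin (t + 1) := ⟨2, by omega⟩
    have h01 : i0 ≠ 0 := by simp [i0, Fin.ext_iff]
    have h11 : i1 ≠ 0 := by simp [i1, Fin.ext_iff]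
    have h10 : i0 ≠ i1 := by simp [i0, i1, Fin.ext_iff]
    have k1 := key i0 0 ul h01 (by rw [hul]; exact D.iso_torus hf hl0)
    have k2 := key i1 0 w h11 (by rw [hw]; exact D.iso_transv e 1)
    have k3 := ((k1.mul k2).mul k1.inv).mul k2.inv
    have hcomm : fac 0 ul * (fac i0 ul)⁻¹ * (fac 0 w * (fac i1 w)⁻¹) * (fac 0 ul * (fac i0 ul)⁻¹)⁻¹ *
        (fac 0 w * (fac i1 w)⁻¹)⁻¹ = fac 0 (ul * w * ul⁻¹ * w⁻¹) := by
      have c : ∀ {p q : Fin (t + 1)}, p ≠ q → ∀ u v : GL (Fin 2) F, fac p u * fac q v = fac q v * fac p u :=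
        fun hpq u v => fac_commute hpq u v
      simp only [← map_inv, _root_.mul_inv_rev, inv_inv, map_mul]
      simp only [mul_assoc]
      rw [← mul_assoc (fac i0 ul⁻¹) (fac 0 w), c h01, mul_assoc (fac 0 w),
        ← mul_assoc (fac i0 ul⁻¹) (fac i1 w⁻¹), c h10, mul_assoc (fac i1 w⁻¹),
        ← mul_assoc (fac i0 ul⁻¹) (fac i0 ul), ← map_mul (fac i0), inv_mul_cancel, map_one, one_mul,
        ← mul_assoc (fac i1 w⁻¹) (fac 0 ul⁻¹), c h11, mul_assoc (fac 0 ul⁻¹),
        ← mul_assoc (fac i1 w⁻¹) (fac i1 w), ← map_mul (fac i1), inv_mul_cancel, map_one, one_mul]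
    have k4 : IsStd (g * fac 0 (ul * w * ul⁻¹ * w⁻¹) * g⁻¹) := by
      rw [← hcomm]
      convert k3 using 1
      group
    have hval : ((ul * w * ul⁻¹ * w⁻¹ : GL (Fin 2) F) : Matrix (Fin 2) (Fin 2) F) = 1 + (l * l - 1) • D.R e e := by
      have hwi : ((w⁻¹ : GL (Fin 2) F) : Matrix (Fin 2) (Fin 2) F) = 1 + (-1 : F) • D.R e e :=
        Units.inv_eq_of_mul_eq_one_right (by
          rw [hw, mul_add, mul_one, add_mul, one_mul, smul_mul_smul_comm, D.R_mul, D.f_self, zero_smul, smul_zero,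
            add_zero, add_assoc, ← add_smul, add_neg_cancel, zero_smul, add_zero])
      have huli : ((ul⁻¹ : GL (Fin 2) F) : Matrix (Fin 2) (Fin 2) F) = D.adj (D.torus e f l) :=
        (left_inv_eq_right_inv (show D.adj (D.torus e f l) * (ul : Matrix (Fin 2) (Fin 2) F) = 1 by
          rw [hul]; exact D.iso_torus hf hl0) ul.mul_inv).symm
      rw [Units.val_mul, Units.val_mul, Units.val_mul, hwi, huli, hul, hw, one_smul, mul_add (D.torus e f l), mul_one,
        add_mul _ _ (D.adj (D.torus e f l)),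
        (D.iso_torus hf hl0).mul_adj, (D.iso_torus hf hl0).mul_R_mul, D.torus_left hf, D.R_smul_left, D.R_smul_right,
        smul_smul, mul_add, mul_one, add_mul, one_mul, smul_mul_smul_comm, D.R_mul, D.f_self, zero_smul, smul_zero,
        add_zero, neg_smul, one_smul, sub_smul, one_smul]
      abel
    have hu' : D.Iso ((ul * w * ul⁻¹ * w⁻¹ : GL (Fin 2) F) : Matrix (Fin 2) (Fin 2) F) := by
      rw [hval]; exact D.iso_transv e _
    refine hgs (isStd_of_conj_root C (r := fac 0 (ul * w * ul⁻¹ * w⁻¹))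
      ⟨0, e, l * l - 1, he, sub_ne_zero.2 hl1, by rw [val_fac, hval]⟩ (hfacX _ _ hu') hg k4)
  set σ := permGL 2 F (Equiv.swap a b)
  set y := x * σ * x⁻¹
  refine ⟨y, X.mul_mem (X.mul_mem hx (hσX a b)) (X.inv_mem hx), hxs, ?_⟩
  set S := perm (F := F) (J := Fin 2) (Equiv.swap a b)
  set Xi := ((x⁻¹ : GL (Fin (t + 1) → Fin 2) F) : Matrix (Fin (t + 1) → Fin 2) (Fin (t + 1) → Fin 2) F)
  set V0 : Matrix (Fin (t + 1) → Fin 2) (Fin t → Fin 2) F :=
    (inc (Fin t → Fin 2) e).submatrix (sp 0).symm id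
  set β := {c : Fin (t + 1) → Fin 2 // c a = 0 ∧ c b = 1}
  set L : Matrix β (Fin t → Fin 2) F := ((S - 1) * Xi * V0).submatrix Subtype.val id
  have hcard : Fintype.card β < Fintype.card (Fin t → Fin 2) := by
    refine Fintype.card_lt_of_injective_not_surjective (fun c : β => fun j => c.1 (a.succAbove j)) (fun c d h => ?_) ?_
    · refine Subtype.ext (funext fun q => ?_)
      rcases Fin.eq_self_or_eq_succAbove a q with rfl | ⟨j, rfl⟩
      · rw [c.2.1, d.2.1]
      · exact congrFun h j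
    · intro hsurj
      obtain ⟨c, hc⟩ := hsurj (fun _ => 0)
      obtain ⟨j, hj⟩ := Fin.exists_succAbove_eq hab.symm
      have := congrFun hc j
      simp only [hj, c.2.2] at this
      exact one_ne_zero this
  obtain ⟨q, hq0, hq⟩ : ∃ q, q ≠ 0 ∧ L *ᵥ q = 0 := by
    have h := LinearMap.ker_ne_bot_of_finrank_lt (f := L.mulVecLin) (by simpa using hcard)
    obtain ⟨q, hq, hq0⟩ := (Submodule.ne_bot_iff _).1 h
    exact ⟨q, hq0, by simpa using hq⟩
  set v := V0 *ᵥ q
  have hvsp : v ∘ sp 0 = inc (Fin t → Fin 2) e *ᵥ q := by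
    funext p
    simp [v, V0, Matrix.mulVec, dotProduct]
  refine ⟨v, fun h0 => hq0 ?_, ?_, ?_⟩
  · rw [h0] at hvsp
    obtain ⟨f, hf⟩ := D.nondeg he
    have h4 := congrArg (out D (Fin t → Fin 2) f *ᵥ ·) hvsp
    simp only [Matrix.mulVec_mulVec, out_inc, D.f_swap e f, hf, neg_smul, one_smul, Matrix.neg_mulVec,
      Matrix.one_mulVec, Pi.zero_comp, Matrix.mulVec_zero] at h4
    exact neg_eq_zero.1 h4.symm
  · refine (sp 0).surjective.injective_comp_right ?_
    show (SpinTensor.emb 0 (D.R e e) *ᵥ v) ∘ sp 0 = (0 : (Fin (t + 1) → Fin 2) → F) ∘ sp 0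
    have h5 : (SpinTensor.emb 0 (D.R e e)).submatrix (sp 0) (sp 0) *ᵥ (v ∘ sp 0) = 0 := by
      rw [sub_emb, hvsp, ← inc_out, Matrix.mul_one, Matrix.mulVec_mulVec, Matrix.mul_assoc, out_inc, D.f_self,
        zero_smul, Matrix.mul_zero, Matrix.zero_mulVec]
    rw [Matrix.submatrix_mulVec_equiv] at h5
    simp only [Function.comp_assoc, Equiv.self_comp_symm, Function.comp_id] at h5
    rw [Pi.zero_comp]
    exact h5
  · set z := Xi *ᵥ v
    have hz : ∀ c, c a = 0 → c b = 1 → z (c ∘ Equiv.swap a b) - z c = 0 := by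
      intro c hca hcb
      have h6 := congrFun hq ⟨c, hca, hcb⟩
      have h7 : (((S - 1) * Xi * V0) *ᵥ q) c = 0 := h6
      rw [← Matrix.mulVec_mulVec, ← Matrix.mulVec_mulVec, Matrix.sub_mulVec, Pi.sub_apply, perm_mulVec_apply,
        Matrix.one_mulVec] at h7
      exact h7
    have hSz : S *ᵥ z = z := by
      funext c
      rw [perm_mulVec_apply]
      by_cases hc : c a = c b
      · congr 1
        funext q'
        simp only [Function.comp_apply, Equiv.swap_apply_def]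
        split_ifs with h1 h2
        · rw [h1]; exact hc.symm
        · rw [h2]; exact hc
        · rfl
      have h01 : ∀ p r : Fin 2, p ≠ r → (p = 0 ∧ r = 1) ∨ (p = 1 ∧ r = 0) := by decide
      rcases h01 _ _ hc with ⟨h1, h2⟩ | ⟨h1, h2⟩
      · exact sub_eq_zero.1 (hz c h1 h2)
      · have h8 := hz (c ∘ Equiv.swap a b) (by simp [h2]) (by simp [h1])
        rw [Function.comp_assoc, show (⇑(Equiv.swap a b) ∘ ⇑(Equiv.swap a b)) = id by funext q'; simp, Function.comp_id,
          sub_eq_zero] at h8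
        exact h8.symm
    show ((x * σ * x⁻¹ : GL (Fin (t + 1) → Fin 2) F) : Matrix (Fin (t + 1) → Fin 2) (Fin (t + 1) → Fin 2) F) *ᵥ v = v
    rw [Units.val_mul, Units.val_mul, ← Matrix.mulVec_mulVec, ← Matrix.mulVec_mulVec,
      show (σ : Matrix (Fin (t + 1) → Fin 2) (Fin (t + 1) → Fin 2) F) = S from rfl, hSz, Matrix.mulVec_mulVec,
      Units.mul_inv, Matrix.one_mulVec]

/-- **Every element is standard when the factors have degree two.** -/
theorem isStd_of_two (C : Ctx D X) (ht : 2 ≤ t) (hq : Fintype.card F ≠ 3) {g : GL (Fin (t + 1) → Fin 2) F}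
    (hg : g ∈ X) : IsStd g := by
  classical
  by_contra hgs
  have h2 := C.hyp.two
  have hq' : Nat.card F ≠ 3 := by rwa [Nat.card_eq_fintype_card]
  obtain ⟨l, hl0, hl1⟩ := QuadPair.exists_sq_ne_one' h2 hq'
  rw [pow_two] at hl1
  set e : Fin 2 → F := Pi.single 0 1
  have he : e ≠ 0 := Function.ne_iff.2 ⟨0, by simp [e]⟩
  obtain ⟨y, hy, hys, v, hv0, hav, hyv⟩ := exists_fixed C ht hl0 hl1 hg hgs he
  set a := SpinTensor.emb (0 : Fin (t + 1)) (D.R e e) with ha_def
  set Y := (y : Matrix (Fin (t + 1) → Fin 2) (Fin (t + 1) → Fin 2) F)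
  have hYi : ((y⁻¹ : GL (Fin (t + 1) → Fin 2) F) : Matrix (Fin (t + 1) → Fin 2) (Fin (t + 1) → Fin 2) F) = adjV D Y :=
    (left_inv_eq_right_inv (C.hyp.iso y hy) y.mul_inv).symm
  set b := Y * a * adjV D Y with hb_def
  have ha : a * a = 0 := embR_sq _ _
  have hb : b * b = 0 := by
    rw [hb_def, show Y * a * adjV D Y * (Y * a * adjV D Y) = Y * (a * (adjV D Y * Y) * a) * adjV D Y by
      simp only [mul_assoc], C.hyp.iso y hy, mul_one, ha, mul_zero, zero_mul]
  have hbv : b *ᵥ v = 0 := by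
    have h1 : adjV D Y *ᵥ v = v := by
      conv_lhs => rw [← hyv, Matrix.mulVec_mulVec, C.hyp.iso y hy, Matrix.one_mulVec]
    rw [hb_def, ← Matrix.mulVec_mulVec, h1, ← Matrix.mulVec_mulVec, hav, Matrix.mulVec_zero]
  have hYY : Y * adjV D Y = 1 := by rw [← hYi, Units.mul_inv]
  obtain ⟨r, hrX, er⟩ := C.hyp.base 0 _ (D.iso_transv e 1)
  have har : (r : Matrix (Fin (t + 1) → Fin 2) (Fin (t + 1) → Fin 2) F) = 1 + a := by
    rw [er, map_add, emb_one, one_smul]
  have hrS : IsSRoot D r := ⟨0, e, 1, he, one_ne_zero, er⟩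
  have hconj : ∀ {g' : GL (Fin (t + 1) → Fin 2) F} {x : F},
      (g' : Matrix (Fin (t + 1) → Fin 2) (Fin (t + 1) → Fin 2) F) = 1 + x • a →
      ((y * g' * y⁻¹ : GL (Fin (t + 1) → Fin 2) F) : Matrix (Fin (t + 1) → Fin 2) (Fin (t + 1) → Fin 2) F) =
        1 + x • b := by
    intro g' x eg
    rw [Units.val_mul, Units.val_mul, eg, hYi, mul_add, mul_one, add_mul, hYY, mul_smul_comm, smul_mul_assoc]
  set s := y * r * y⁻¹
  have hsX : s ∈ X := X.mul_mem (X.mul_mem hy hrX) (X.inv_mem hy)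
  have hbs : (s : Matrix (Fin (t + 1) → Fin 2) (Fin (t + 1) → Fin 2) F) = 1 + b := by
    have := hconj (g' := r) (x := 1) (by rw [one_smul, har])
    rwa [one_smul] at this
  obtain ⟨p, hp⟩ : ∃ p, CharP F p := ⟨ringChar F, ringChar.charP F⟩
  haveI := hp
  haveI : Fact p.Prime := ⟨CharP.char_is_prime F p⟩
  have hK : ¬ IsNilpotent (a * b + b * a) := by
    intro hn
    have hP := isPGroup_of_nilpotent ha hb har hbs p hn
    have hPX : Subgroup.closure {r, s} ≤ X := by
      rw [Subgroup.closure_le]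
      rintro g' (rfl | rfl)
      · exact hrX
      · exact hsX
    exact hys (isStd_of_conj_root C hrS hrX hy
      (std_of_pGroup C hP hPX hrS (Subgroup.subset_closure (Or.inl rfl)) s (Subgroup.subset_closure (Or.inr rfl))))
  have hGX : quadGroup a b ≤ X := by
    have hx : ∀ x : F, ∃ g' ∈ X, (g' : Matrix (Fin (t + 1) → Fin 2) (Fin (t + 1) → Fin 2) F) = 1 + x • a := by
      intro x
      obtain ⟨g', hg', eg'⟩ := C.hyp.base 0 _ (D.iso_transv e x)
      exact ⟨g', hg', by rw [eg', map_add, emb_one, map_smul]⟩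
    rw [quadGroup, Subgroup.closure_le]
    rintro g' ⟨x, h | h⟩
    all_goals obtain ⟨g'', hg'', eg''⟩ := hx x
    · rw [show g' = g'' from Units.ext (h.trans eg''.symm)]
      exact hg''
    · rw [show g' = y * g'' * y⁻¹ from Units.ext (h.trans (hconj eg'').symm)]
      exact X.mul_mem (X.mul_mem hy hg'') (X.inv_mem hy)
  obtain ⟨P, μ, hμ, hππ, hπv, hπa, z, hz, ez⟩ := exists_local_root h2 hq' ha hb hK hav hbv
  set π := inK a b P
  have hzX := hGX hz
  have hπc : a * π = π * a := commute_inK_left ha P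
  have haπa : a * (π * a) = 0 := by rw [← mul_assoc, hπc, mul_assoc, ha, mul_zero]
  have hπaa : π * a * a = 0 := by rw [mul_assoc, ha, mul_zero]
  have hzr : z * r * z⁻¹ = r := by
    rw [mul_inv_eq_iff_eq_mul]
    refine Units.ext ?_
    rw [Units.val_mul, Units.val_mul, ez, har, mul_add, mul_one, add_mul _ _ a, one_mul, smul_mul_assoc, hπaa,
      smul_zero, add_zero, add_mul, one_mul, mul_add, mul_one, mul_smul_comm, haπa, smul_zero, add_zero]
  have hzs : IsStd z := C.root_map z hzX r hrS (by rw [hzr]; exact hrS)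
  have hz1 : z ≠ 1 := by
    intro h
    rw [h, Units.val_one, left_eq_add] at ez
    exact hπa ((smul_eq_zero.1 ez).resolve_left hμ)
  have hzm : (z : Matrix (Fin (t + 1) → Fin 2) (Fin (t + 1) → Fin 2) F) - 1 = μ • (π * a) := by
    rw [ez, add_sub_cancel_left]
  have hsq : ((z : Matrix (Fin (t + 1) → Fin 2) (Fin (t + 1) → Fin 2) F) - 1) *
      ((z : Matrix (Fin (t + 1) → Fin 2) (Fin (t + 1) → Fin 2) F) - 1) = 0 := by
    rw [hzm, smul_mul_smul_comm, mul_assoc π a, haπa, mul_zero, smul_zero]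
  set G := (outerT D (t + 1)).G
  have hadja : adjV D a = -a := adjV_embR _ _
  have hadjb : adjV D b = -b := by
    show (outerT D (t + 1)).adj b = _
    rw [hb_def, Outer.adj_mul, Outer.adj_mul, Outer.adj_adj]
    show Y * (adjV D a * adjV D Y) = _
    rw [hadja, neg_mul, mul_neg, mul_assoc]
  have hadjK : adjV D (a * b + b * a) = a * b + b * a := by
    show (outerT D (t + 1)).adj (a * b + b * a) = _
    rw [Outer.adj_add, Outer.adj_mul _ a b, Outer.adj_mul _ b a]
    show adjV D b * adjV D a + adjV D a * adjV D b = _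
    rw [hadja, hadjb, neg_mul_neg, neg_mul_neg]
    exact add_comm _ _
  have hadjπ : adjV D π = π := by
    have hall : ∀ Q : Polynomial F, adjV D (inK a b Q) = inK a b Q := by
      intro Q
      induction Q using Polynomial.induction_on' with
      | add p q hp hq =>
        rw [map_add]
        show (outerT D (t + 1)).adj (_ + _) = _
        rw [Outer.adj_add]
        exact congrArg₂ (· + ·) hp hq
      | monomial d c =>
        rw [← Polynomial.C_mul_X_pow_eq_monomial, map_mul, map_pow, inK_X, inK_C, smul_mul_assoc, one_mul]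
        show (outerT D (t + 1)).adj (c • _) = _
        rw [Outer.adj_smul]
        congr 1
        induction d with
        | zero => rw [pow_zero, Outer.adj_one]
        | succ d ih =>
          rw [pow_succ, Outer.adj_mul, ih]
          show adjV D (a * b + b * a) * _ = _
          rw [hadjK, ← pow_succ', pow_succ]
    exact hall P
  have hπG : πᵀ * G = G * π := by
    have h1 : (outerT D (t + 1)).Gi * πᵀ * G = π := hadjπ
    conv_rhs => rw [← h1]
    rw [← mul_assoc, ← mul_assoc, (outerT D (t + 1)).mul_inv, one_mul]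
  refine hv0 ?_
  have hall : ∀ w, v ⬝ᵥ (G *ᵥ w) = 0 := by
    intro w
    have h1 : v ⬝ᵥ (G *ᵥ ((1 - π) *ᵥ w)) = 0 := by
      refine fixed_isotropic h2 (C.hyp.iso z hzX) hzs hz1 hsq ?_ ?_
      · rw [hzm, Matrix.smul_mulVec, ← Matrix.mulVec_mulVec, hav, Matrix.mulVec_zero, smul_zero]
      · rw [hzm, Matrix.smul_mulVec, Matrix.mulVec_mulVec, mul_sub, mul_one, mul_assoc π a, hπc, ← mul_assoc, hππ,
          sub_self, Matrix.zero_mulVec, smul_zero]
    have h3 : v ⬝ᵥ (G *ᵥ (π *ᵥ w)) = 0 := by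
      rw [Matrix.mulVec_mulVec, ← hπG, ← Matrix.mulVec_mulVec, Matrix.dotProduct_mulVec, Matrix.vecMul_transpose,
        hπv, zero_dotProduct]
    have h4 : w = (1 - π) *ᵥ w + π *ᵥ w := by rw [← Matrix.add_mulVec, sub_add_cancel, Matrix.one_mulVec]
    rw [h4, Matrix.mulVec_add, dotProduct_add, h1, h3, add_zero]
  have hvG : v ᵥ* G = 0 := dotProduct_eq_zero _ (fun w => by rw [← Matrix.dotProduct_mulVec]; exact hall w)
  calc v = (v ᵥ* G) ᵥ* (outerT D (t + 1)).Gi := by
        rw [Matrix.vecMul_vecMul, (outerT D (t + 1)).mul_inv, Matrix.vecMul_one]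
    _ = 0 := by rw [hvG, Matrix.zero_vecMul]

end CfsgLib.HallGen.SympWreath
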