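/-
Overgroups of the wreathed symplectic group with scalar central maps consist of standard elements.
-/
import Cfsg.Agent.Lib.HallGen.SympWreath.Four
import Cfsg.Agent.Lib.HallGen.SympWreath.Two

set_option autoImplicit false
set_option linter.unusedSectionVars false
set_option maxHeartbeats 400000

namespace CfsgLib.HallGen.SympWreath

open Matrix CfsgLib.Geo CfsgLib.Geo.SpinTensor CfsgLib.Geo.TensorWreath

/-- **With scalar central maps every element is standard.** -/
theorem isStd_of_ng {F : Type*} [Field F] [Fintype F] {k : ℕ} {D : Factor F k} (hk : 2 ≤ k)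
    (hq : k = 2 → Fintype.card F ≠ 3) : ∀ (t : ℕ) (X : Subgroup (GL (Fin (t + 1) → Fin k) F)),
      Hyp D X → NG D X → ∀ g ∈ X, IsStd g := by
  intro t
  induction t with
  | zero => exact fun X _ _ g _ => isStd_fin_one g
  | succ t ih =>
    intro X H hX g hg
    have hs : k = 2 → ∃ s : F, s ≠ 0 ∧ s * s ≠ 1 := fun h => by
      obtain ⟨s, hs0, hs1⟩ := QuadPair.exists_sq_ne_one' H.two
        (by rw [Nat.card_eq_fintype_card]; exact hq h)
      exact ⟨s, hs0, by rwa [pow_two] at hs1⟩
    have C : Ctx D X := H.ctx_of hk hX (fun Y hY hN z hz => ih Y hY hN z hz) (by omega) hs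
    by_cases hm : 3 ≤ k
    · exact isStd_of_big C hm hg
    obtain rfl : k = 2 := by omega
    rcases Nat.eq_zero_or_pos t with rfl | ht
    · obtain ⟨s, hs0, hs1⟩ := hs rfl
      exact isStd_of_iso_two H.two hs0 hs1 (H.iso g hg)
    · exact isStd_of_two C (by omega) (hq rfl) hg

end CfsgLib.HallGen.SympWreath
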