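/-
The stabiliser of an odd tensor power decomposition is maximal in the symplectic group.
-/
import Cfsg.Agent.Lib.HallGen.SympWreath.Rec
import Cfsg.Agent.Lib.HallGen.SympWreath.Closure

set_option autoImplicit false
set_option linter.unusedSectionVars false
set_option maxHeartbeats 400000

namespace CfsgLib.HallGen.SympWreath

open Matrix CfsgLib.Geo CfsgLib.Geo.SpinTensor CfsgLib.Geo.TensorWreath

variable {F : Type*} [Field F] {k : ℕ}

/-- The factor of a symplectic form. -/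
theorem exists_factor {f₁ : (Fin k → F) → (Fin k → F) → F} (hf₁ : Cfsg.Geo.IsSymplecticForm f₁) :
    ∃ D : Factor F k, D.J = Cfsg.Geo.gramMatrix f₁ := by
  classical
  let B : LinearMap.BilinForm F (Fin k → F) :=
    LinearMap.mk₂ F f₁ hf₁.bilinear.add_left hf₁.bilinear.smul_left hf₁.bilinear.add_right hf₁.bilinear.smul_right
  set J := Cfsg.Geo.gramMatrix f₁
  have hJB : J = LinearMap.BilinForm.toMatrix' B := by
    ext a b
    rw [LinearMap.BilinForm.toMatrix'_apply]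
    rfl
  have hval : ∀ u v, u ⬝ᵥ (J *ᵥ v) = f₁ u v := fun u v => by
    rw [hJB, ← Matrix.toBilin'_apply', Matrix.toBilin'_toMatrix']
    rfl
  have hdet : J.det ≠ 0 := by
    refine fun h0 => ?_
    obtain ⟨v, hv, h⟩ := Matrix.exists_mulVec_eq_zero_iff.2 h0
    obtain ⟨x, hx⟩ := (hf₁.nondegenerate v hv).1
    rw [← hval, h, dotProduct_zero] at hx
    exact hx rfl
  refine ⟨⟨J, J⁻¹, ?_, fun v => by rw [← Matrix.dotProduct_mulVec, hval]; exact hf₁.alternating v,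
    Matrix.mul_nonsing_inv J (Ne.isUnit hdet), Matrix.nonsing_inv_mul J (Ne.isUnit hdet)⟩, rfl⟩
  ext a b
  rw [Matrix.transpose_apply, Matrix.neg_apply]
  exact hf₁.skew _ _

theorem pvec_form (D : Factor F k) {n : ℕ} (a b : Fin n → Fin k → F) :
    pvec a ⬝ᵥ ((outerT D n).G *ᵥ pvec b) = ∏ l, D.f (a l) (b l) := by
  show pvec a ⬝ᵥ (SpinTensor.pure (fun _ => D.J) *ᵥ pvec b) = _
  rw [pure_mulVec]
  simp only [Factor.f, ← Matrix.dotProduct_mulVec]
  simp only [dotProduct, pvec, ← Finset.prod_mul_distrib]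
  exact (Fintype.prod_sum fun l p => a l p * (D.J *ᵥ b l) p).symm

/-- Some isometry is not standard. -/
theorem exists_not_isStd (D : Factor F k) (hk : 2 ≤ k) (h2 : (2 : F) ≠ 0) {t : ℕ} (ht : 1 ≤ t) (ht' : Even t) :
    ∃ x : GL (Fin (t + 1) → Fin k) F, adjV D (x : Matrix (Fin (t + 1) → Fin k) (Fin (t + 1) → Fin k) F) *
      (x : Matrix (Fin (t + 1) → Fin k) (Fin (t + 1) → Fin k) F) = 1 ∧ ¬ IsStd x := by
  classical
  obtain ⟨e, he⟩ : ∃ e : Fin k → F, e ≠ 0 := ⟨Pi.single ⟨0, by omega⟩ 1, Function.ne_iff.2 ⟨⟨0, by omega⟩, by simp⟩⟩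
  obtain ⟨f, hf⟩ := D.nondeg he
  set ξ : Fin (t + 1) → Fin k → F := fun _ => f
  set M := monom D Finset.univ ξ with hMdef
  have hM : M * M = 0 := monom_sq Finset.univ_nonempty ξ
  have hadj : adjV D M = -M := by
    rw [hMdef, adjV_monom, Finset.card_univ, Fintype.card_fin, ht'.add_one.neg_one_pow, neg_one_smul]
  set x : GL (Fin (t + 1) → Fin k) F := ⟨1 + M, 1 - M,
    by rw [mul_sub, mul_one, add_mul, one_mul, hM, add_zero, add_sub_cancel_right],
    by rw [mul_add, mul_one, sub_mul, one_mul, hM, sub_zero, sub_add_cancel]⟩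
  refine ⟨x, ?_, fun ⟨gs, π, hx⟩ => ?_⟩
  · show (outerT D (t + 1)).adj (1 + M) * (1 + M) = 1
    rw [Outer.adj_add, Outer.adj_one, show (outerT D (t + 1)).adj M = -M from hadj, mul_add, mul_one, add_mul,
      one_mul, neg_mul, hM, neg_zero, add_zero, neg_add_cancel_right]
  have himg := isStd_mulVec hx (fun _ => e)
  set η : Fin (t + 1) → Fin k → F :=
    fun l => (gs l : Matrix (Fin k) (Fin k) F) *ᵥ (fun _ : Fin (t + 1) => e) (π⁻¹ l)
  have hprod : ∀ ζ : Fin (t + 1) → Fin k → F, ∏ l, D.f (ζ l) (η l) =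
      ∏ l, D.f (ζ l) e + (∏ l, D.f (ξ l) e) * ∏ l, D.f (ζ l) (ξ l) := by
    intro ζ
    rw [← pvec_form, ← himg, show (x : Matrix (Fin (t + 1) → Fin k) (Fin (t + 1) → Fin k) F) = 1 + M from rfl,
      Matrix.add_mulVec, Matrix.one_mulVec, hMdef, monom_univ_mulVec, Matrix.mulVec_add, Matrix.mulVec_smul,
      dotProduct_add, dotProduct_smul, smul_eq_mul, pvec_form, pvec_form, pvec_form]
  have hfe : D.f f e = -1 := by rw [D.f_swap e f, hf]
  have h1 := hprod fun _ => e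
  have h2' := hprod fun _ => f
  have h3 := hprod fun l => if l = 0 then e else f
  simp only [ξ, D.f_self, hf, hfe, Finset.prod_const, Finset.card_univ, Fintype.card_fin,
    zero_pow (show t + 1 ≠ 0 by omega), one_pow, mul_one, mul_zero, zero_add, add_zero] at h1 h2'
  have hne1 : ∀ l, D.f e (η l) ≠ 0 := fun l h0 => by
    rw [Finset.prod_eq_zero (Finset.mem_univ l) h0] at h1
    exact pow_ne_zero _ (neg_ne_zero.2 one_ne_zero) h1.symm
  have hne2 : ∀ l, D.f f (η l) ≠ 0 := fun l h0 => by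
    rw [Finset.prod_eq_zero (Finset.mem_univ l) h0] at h2'
    exact pow_ne_zero _ (neg_ne_zero.2 one_ne_zero) h2'.symm
  have hz1 : ∏ l : Fin (t + 1), D.f (if l = 0 then e else f) e = 0 :=
    Finset.prod_eq_zero (Finset.mem_univ 0) (by rw [if_pos rfl, D.f_self])
  have hz2 : ∏ l : Fin (t + 1), D.f (if l = 0 then e else f) (ξ l) = 0 := by
    refine Finset.prod_eq_zero (Finset.mem_univ (⟨1, by omega⟩ : Fin (t + 1))) ?_
    rw [if_neg (by simp [Fin.ext_iff]), D.f_self]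
  rw [hz1, hz2, mul_zero, add_zero, Finset.prod_eq_zero_iff] at h3
  obtain ⟨l, -, hl⟩ := h3
  split_ifs at hl
  · exact hne1 l hl
  · exact hne2 l hl

/-- **The stabiliser of an odd tensor power decomposition is maximal in the symplectic group.** -/
theorem maximal' [Fintype F] (m : ℕ) (hm : 1 ≤ m) (hodd : Odd (Fintype.card F)) (t : ℕ) (ht : Odd t)
    (ht3 : 3 ≤ t) (hex : ¬ (Fintype.card F = 3 ∧ k = 2)) (e : (Fin m ⊕ Fin m) ≃ (Fin t → Fin k))
    (P : GL (Fin m ⊕ Fin m) F) (f₁ : (Fin k → F) → (Fin k → F) → F) (hf₁ : Cfsg.Geo.IsSymplecticForm f₁)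
    (hT : Cfsg.Geo.IsTensorPowerFormStructure id (Cfsg.sympForm m F) f₁ e P) :
    Cfsg.Geo.IsMaximalIn (Cfsg.spGL m F) (Cfsg.Geo.tensorWreathSubgroup k t e P ⊓ Cfsg.spGL m F) := by
  classical
  obtain ⟨s, rfl⟩ : ∃ s, t = s + 1 := ⟨t - 1, by omega⟩
  have hs : Even s := by
    obtain ⟨a, ha⟩ := ht
    exact ⟨a, by omega⟩
  have h2 : (2 : F) ≠ 0 := by
    intro h
    haveI : CharP F 2 := CharTwo.of_one_ne_zero_of_two_eq_zero one_ne_zero h
    obtain ⟨n, -, hn⟩ := FiniteField.card F 2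
    rw [hn] at hodd
    exact (Nat.not_even_iff_odd.2 hodd) (Nat.even_pow.2 ⟨even_two, n.ne_zero⟩)
  have hk : 2 ≤ k := by
    by_contra hk
    have := Fintype.card_congr e
    rw [Fintype.card_sum, Fintype.card_fin, Fintype.card_fun, Fintype.card_fin, Fintype.card_fin] at this
    rcases Nat.le_one_iff_eq_zero_or_eq_one.1 (show k ≤ 1 by omega) with rfl | rfl <;> simp at this <;> omega
  obtain ⟨D, hD⟩ := exists_factor hf₁
  obtain ⟨c, hc, hform⟩ := hT
  set G := (outerT D (s + 1)).G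
  have hG : ∀ x y, Cfsg.sympForm m F ((P : Matrix (Fin m ⊕ Fin m) (Fin m ⊕ Fin m) F) *ᵥ (x ∘ e))
      ((P : Matrix (Fin m ⊕ Fin m) (Fin m ⊕ Fin m) F) *ᵥ (y ∘ e)) = c * (x ⬝ᵥ (G *ᵥ y)) := by
    intro x y
    rw [hform]
    congr 1
    simp only [dotProduct, Matrix.mulVec, Finset.mul_sum, G, outerT, pure_apply, hD, id, mul_assoc]
  let Ψ : GL (Fin (s + 1) → Fin k) F ≃* GL (Fin m ⊕ Fin m) F :=
    (Cfsg.Geo.glReindex e.symm).trans (MulAut.conj P)
  have hK : Cfsg.Geo.tensorWreathSubgroup k (s + 1) e P =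
      (Cfsg.Geo.tensorWreathStandard k (s + 1) F).map Ψ.toMonoidHom := by
    rw [Cfsg.Geo.tensorWreathSubgroup, Subgroup.map_map]
    rfl
  have hmemK : ∀ x, Ψ x ∈ Cfsg.Geo.tensorWreathSubgroup k (s + 1) e P ↔ IsStd x := by
    intro x
    rw [hK, ← mem_std_iff]
    constructor
    · rintro ⟨y, hy, e'⟩
      rwa [← Ψ.injective e']
    · exact fun hx => ⟨x, hx, rfl⟩
  have hval : ∀ (x : GL (Fin (s + 1) → Fin k) F) (u : (Fin (s + 1) → Fin k) → F),
      ((Ψ x : GL (Fin m ⊕ Fin m) F) : Matrix (Fin m ⊕ Fin m) (Fin m ⊕ Fin m) F) *ᵥ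
        ((P : Matrix (Fin m ⊕ Fin m) (Fin m ⊕ Fin m) F) *ᵥ (u ∘ e)) =
      (P : Matrix (Fin m ⊕ Fin m) (Fin m ⊕ Fin m) F) *ᵥ
        (((x : Matrix (Fin (s + 1) → Fin k) (Fin (s + 1) → Fin k) F) *ᵥ u) ∘ e) := by
    intro x u
    show ((P * Cfsg.Geo.glReindex e.symm x * P⁻¹ : GL (Fin m ⊕ Fin m) F) : Matrix (Fin m ⊕ Fin m) (Fin m ⊕ Fin m) F) *ᵥ _ = _
    rw [Units.val_mul, Units.val_mul, Matrix.mulVec_mulVec, mul_assoc, Units.inv_mul, mul_one, ← Matrix.mulVec_mulVec]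
    congr 1
    show ((x : Matrix (Fin (s + 1) → Fin k) (Fin (s + 1) → Fin k) F).submatrix e e) *ᵥ (u ∘ e) = _
    rw [Matrix.submatrix_mulVec_equiv]
    simp [Function.comp_assoc]
  have hiso : ∀ x, Ψ x ∈ Cfsg.spGL m F ↔
      adjV D (x : Matrix (Fin (s + 1) → Fin k) (Fin (s + 1) → Fin k) F) *
        (x : Matrix (Fin (s + 1) → Fin k) (Fin (s + 1) → Fin k) F) = 1 := by
    intro x
    set X' := (x : Matrix (Fin (s + 1) → Fin k) (Fin (s + 1) → Fin k) F)
    have hsurj : ∀ w : Fin m ⊕ Fin m → F, ∃ u, w = (P : Matrix (Fin m ⊕ Fin m) (Fin m ⊕ Fin m) F) *ᵥ (u ∘ e) := by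
      intro w
      refine ⟨(((P⁻¹ : GL (Fin m ⊕ Fin m) F) : Matrix (Fin m ⊕ Fin m) (Fin m ⊕ Fin m) F) *ᵥ w) ∘ e.symm, ?_⟩
      rw [Function.comp_assoc, Equiv.symm_comp_self, Function.comp_id, Matrix.mulVec_mulVec, Units.mul_inv,
        Matrix.one_mulVec]
    have hlhs : ∀ u v, (X' *ᵥ u) ⬝ᵥ (G *ᵥ (X' *ᵥ v)) = u ⬝ᵥ ((X'ᵀ * G * X') *ᵥ v) := fun u v => by
      rw [← Matrix.vecMul_transpose, ← Matrix.dotProduct_mulVec, Matrix.mulVec_mulVec, Matrix.mulVec_mulVec]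
    constructor
    · intro h
      have h1 : X'ᵀ * G * X' = G := by
        refine Matrix.ext_of_mulVec_single fun q => dotProduct_eq _ _ fun u => ?_
        rw [dotProduct_comm, dotProduct_comm _ u, ← hlhs]
        have h3 := h ((P : Matrix (Fin m ⊕ Fin m) (Fin m ⊕ Fin m) F) *ᵥ (u ∘ e))
          ((P : Matrix (Fin m ⊕ Fin m) (Fin m ⊕ Fin m) F) *ᵥ ((Pi.single q 1 : (Fin (s + 1) → Fin k) → F) ∘ e))
        rw [show Cfsg.glToMat (Fin m ⊕ Fin m) F (Ψ x) =
          ((Ψ x : GL (Fin m ⊕ Fin m) F) : Matrix (Fin m ⊕ Fin m) (Fin m ⊕ Fin m) F) from rfl,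
          hval, hval, hG, hG] at h3
        exact mul_left_cancel₀ hc h3
      show (outerT D (s + 1)).Gi * X'ᵀ * G * X' = 1
      rw [Matrix.mul_assoc ((outerT D (s + 1)).Gi * X'ᵀ), Matrix.mul_assoc _ X'ᵀ, ← Matrix.mul_assoc X'ᵀ, h1]
      exact (outerT D (s + 1)).inv_mul
    · intro h u v
      obtain ⟨u, rfl⟩ := hsurj u
      obtain ⟨v, rfl⟩ := hsurj v
      rw [show Cfsg.glToMat (Fin m ⊕ Fin m) F (Ψ x) =
        ((Ψ x : GL (Fin m ⊕ Fin m) F) : Matrix (Fin m ⊕ Fin m) (Fin m ⊕ Fin m) F) from rfl,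
        hval, hval, hG, hG, hlhs]
      congr 3
      have h4 : G * ((outerT D (s + 1)).Gi * X'ᵀ * G * X') = G * 1 := congrArg (G * ·) h
      rwa [mul_one, ← mul_assoc, ← mul_assoc, ← mul_assoc, (outerT D (s + 1)).mul_inv, one_mul] at h4
  refine ⟨lt_of_le_of_ne inf_le_right fun heq => ?_, fun M hHM hMK => ?_⟩
  · obtain ⟨x, hx, hxs⟩ := exists_not_isStd D hk h2 (t := s) (by omega) hs
    have h := (hiso x).2 hx
    rw [← heq] at h
    exact hxs ((hmemK x).1 h.1)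
  set X := M.comap Ψ.toMonoidHom
  have hmemX : ∀ x, x ∈ X ↔ Ψ x ∈ M := fun x => Iff.rfl
  have hstd : ∀ x : GL (Fin (s + 1) → Fin k) F, IsStd x →
      adjV D (x : Matrix (Fin (s + 1) → Fin k) (Fin (s + 1) → Fin k) F) *
        (x : Matrix (Fin (s + 1) → Fin k) (Fin (s + 1) → Fin k) F) = 1 → x ∈ X :=
    fun x hx hxi => (hmemX x).2 (hHM ⟨(hmemK x).2 hx, (hiso x).2 hxi⟩)
  have H : Hyp D X :=
    { two := h2
      iso := fun x hx => (hiso x).1 (hMK hx)
      base := fun i B hB => by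
        obtain ⟨u, -, hu⟩ := exists_fac_iso i hB
        refine ⟨fac i u, hstd _ (isStd_pureGL _) ?_, hu⟩
        rw [hu, adjV_emb, emb_mul_emb, hB, emb_one]
      lift := fun _ gs π l _ _ hxi => hstd _ ((isStd_pureGL gs).mul (isStd_permGL π)) hxi }
  by_cases hNG : NG D X
  · left
    have hall := isStd_of_ng hk (fun h hq => hex ⟨hq, h⟩) s X H hNG
    refine le_antisymm (le_inf (fun g hg => ?_) hMK) hHM
    have h := (hmemK (Ψ.symm g)).2 (hall _ ((hmemX _).2 (by rwa [MulEquiv.apply_symm_apply])))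
    rwa [MulEquiv.apply_symm_apply] at h
  · right
    haveI : NeZero k := ⟨by omega⟩
    have hfull := H.full_univ (by omega) hs hNG
    refine le_antisymm hMK fun g hg => ?_
    have h := mem_of_full_univ h2 hs hfull ((hiso (Ψ.symm g)).1 (by rwa [MulEquiv.apply_symm_apply]))
    have h' := (hmemX _).1 h
    rwa [MulEquiv.apply_symm_apply] at h'

/-- The stabiliser of an odd tensor power decomposition, `m ≥ 7`. -/
theorem maximal [Fintype F] (m : ℕ) (hm : 7 ≤ m) (hodd : Odd (Fintype.card F)) (t : ℕ) (ht : Odd t)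
    (ht3 : 3 ≤ t) (hex : ¬ (Fintype.card F = 3 ∧ k = 2)) (e : (Fin m ⊕ Fin m) ≃ (Fin t → Fin k))
    (P : GL (Fin m ⊕ Fin m) F) (f₁ : (Fin k → F) → (Fin k → F) → F) (hf₁ : Cfsg.Geo.IsSymplecticForm f₁)
    (hT : Cfsg.Geo.IsTensorPowerFormStructure id (Cfsg.sympForm m F) f₁ e P) :
    Cfsg.Geo.IsMaximalIn (Cfsg.spGL m F) (Cfsg.Geo.tensorWreathSubgroup k t e P ⊓ Cfsg.spGL m F) :=
  maximal' m (by omega) hodd t ht ht3 hex e P f₁ hf₁ hT

end CfsgLib.HallGen.SympWreath
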